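import Mathlib

/-!
# Sections of quasi-coherent modules over basic opens of affine opens (helper22)

Elementwise "localization" API for quasi-coherent `𝒪_X`-modules: for `j : Spec R ⟶ X` an open
immersion (resp. `V` an affine open), `g` a function on `j ''ᵁ ⊤` (resp. `V`):
* a section over `V` restricting to zero over `X.basicOpen g` is killed by a power of `g`;
* a section over `X.basicOpen g` times a power of `g` extends to `V`.
-/

namespace Groth.Agent.Lib.Helper22

open AlgebraicGeometry CategoryTheory Opposite TopologicalSpace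

universe u

variable {X : Scheme.{u}} (F : X.Modules) [F.IsQuasicoherent]

theorem isLocalizing_restrict {R : CommRingCat.{u}} (j : Spec R ⟶ X) [IsOpenImmersion j] :
    IsLocalizing (modulesSpecToSheaf.obj (F.restrict j)) := by
  rw [← isIso_fromTildeΓ_iff_isLocalizing]
  infer_instance

/-- the element of `R` corresponding to a function on the image of `j`. -/
noncomputable def toR {R : CommRingCat.{u}} (j : Spec R ⟶ X) [IsOpenImmersion j] (g : Γ(X, j ''ᵁ ⊤)) : R :=
  (Scheme.ΓSpecIso R).hom ((j.appIso ⊤).hom g)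

omit [F.IsQuasicoherent] in
/-- The `R`-action on sections of `F.restrict j` over `V` in terms of the action of functions
on `j ''ᵁ V`. -/
theorem smul_restrict_eq {R : CommRingCat.{u}} (j : Spec R ⟶ X) [IsOpenImmersion j] (V : (Spec R).Opens) (r : R)
    (x : Γ(F.restrict j, V)) :
    r • x = (show Γ(F, j ''ᵁ V) from
      ((j.appIso V).inv ((Spec R).presheaf.map V.leTop.op ((Scheme.ΓSpecIso R).inv r))) •
        (show Γ(F, j ''ᵁ V) from x)) := by
  rfl

omit [F.IsQuasicoherent] in
theorem toR_smul {R : CommRingCat.{u}} (j : Spec R ⟶ X) [IsOpenImmersion j] (g : Γ(X, j ''ᵁ ⊤))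
    (V : (Spec R).Opens) (n : ℕ)
    (x : Γ(F.restrict j, V)) :
    (toR j g) ^ n • x = (show Γ(F, j ''ᵁ V) from
      (X.presheaf.map (homOfLE (j.image_mono le_top : j ''ᵁ V ≤ j ''ᵁ ⊤)).op g) ^ n •
        (show Γ(F, j ''ᵁ V) from x)) := by
  rw [smul_restrict_eq]
  simp only [map_pow, toR]
  congr 1
  rw [Iso.hom_inv_id_apply]
  have := j.appIso_inv_naturality (homOfLE (le_top : V ≤ ⊤)).op
  have h2 := congr($this ((j.appIso ⊤).hom g))
  rw [CommRingCat.comp_apply, CommRingCat.comp_apply, Iso.hom_inv_id_apply] at h2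
  exact congr($h2 ^ n)

theorem image_basicOpen_toR {R : CommRingCat.{u}} (j : Spec R ⟶ X) [IsOpenImmersion j] (g : Γ(X, j ''ᵁ ⊤)) :
    j ''ᵁ (PrimeSpectrum.basicOpen (toR j g)) = X.basicOpen g := by
  have := Scheme.image_basicOpen j ((j.appIso ⊤).hom g)
  rw [basicOpen_eq_of_affine'] at this
  rw [toR, this]
  simp

/-- **Injectivity part** of "sections over a basic open are the localization". -/
theorem exists_pow_smul_eq_zero_of_openImmersion {R : CommRingCat.{u}} (j : Spec R ⟶ X)
    [IsOpenImmersion j] (g : Γ(X, j ''ᵁ ⊤)) (x : Γ(F, j ''ᵁ ⊤))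
    (hx : F.presheaf.map (homOfLE (X.basicOpen_le g)).op x = 0) : ∃ n : ℕ, g ^ n • x = 0 := by
  have hloc := isLocalizing_restrict F j (toR j g)
  have e := image_basicOpen_toR j g
  have h0 : ((modulesSpecToSheaf.obj (F.restrict j)).obj.map
      (PrimeSpectrum.basicOpen (toR j g)).leTop.op).hom x = 0 := by
    change F.presheaf.map (homOfLE (j.image_mono le_top) :
      j ''ᵁ (PrimeSpectrum.basicOpen (toR j g)) ⟶ j ''ᵁ ⊤).op x = 0
    have : (homOfLE (j.image_mono le_top) : j ''ᵁ (PrimeSpectrum.basicOpen (toR j g)) ⟶ j ''ᵁ ⊤) =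
        eqToHom e ≫ homOfLE (X.basicOpen_le g) := Subsingleton.elim _ _
    rw [this, op_comp, Functor.map_comp, ConcreteCategory.comp_apply, hx, map_zero]
  obtain ⟨⟨c, n, rfl⟩, hc⟩ := (IsLocalizedModule.eq_zero_iff (.powers (toR j g)) _).mp h0
  refine ⟨n, ?_⟩
  have h1 := toR_smul F j g ⊤ n x
  have h2 : (toR j g) ^ n • (show Γ(F.restrict j, ⊤) from x) = 0 := hc
  rw [h2] at h1
  have h3 : X.presheaf.map (homOfLE (j.image_mono le_top : j ''ᵁ ⊤ ≤ j ''ᵁ ⊤)).op g = g := by
    have : (homOfLE (j.image_mono le_top : j ''ᵁ ⊤ ≤ j ''ᵁ ⊤)) = 𝟙 _ := Subsingleton.elim _ _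
    rw [this]; simp
  rw [h3] at h1
  exact h1.symm

/-- **Surjectivity part** of "sections over a basic open are the localization". -/
theorem exists_pow_smul_eq_map_of_openImmersion {R : CommRingCat.{u}} (j : Spec R ⟶ X)
    [IsOpenImmersion j] (g : Γ(X, j ''ᵁ ⊤)) (y : Γ(F, X.basicOpen g)) :
    ∃ (n : ℕ) (x : Γ(F, j ''ᵁ ⊤)), F.presheaf.map (homOfLE (X.basicOpen_le g)).op x =
      (X.presheaf.map (homOfLE (X.basicOpen_le g)).op g) ^ n • y := by
  have hloc := isLocalizing_restrict F j (toR j g)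
  have e := image_basicOpen_toR j g
  have hsurj : ∀ y' : Γ(F.restrict j, PrimeSpectrum.basicOpen (toR j g)),
      ∃ (n : ℕ) (x : Γ(F.restrict j, ⊤)), (toR j g) ^ n • y' =
        (F.restrict j).presheaf.map (PrimeSpectrum.basicOpen (toR j g)).leTop.op x := by
    intro y'
    obtain ⟨⟨x, ⟨c, n, rfl⟩⟩, hx⟩ := hloc.surj y'
    exact ⟨n, x, hx⟩
  obtain ⟨n, x, hx⟩ := hsurj (F.presheaf.map (eqToHom e).op y)
  refine ⟨n, x, ?_⟩
  have h1 := toR_smul F j g _ n (F.presheaf.map (eqToHom e).op y)
  have hx' : (toR j g) ^ n • (show Γ(F.restrict j, PrimeSpectrum.basicOpen (toR j g)) from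
      F.presheaf.map (eqToHom e).op y) = F.presheaf.map (homOfLE (j.image_mono le_top) :
      j ''ᵁ (PrimeSpectrum.basicOpen (toR j g)) ⟶ j ''ᵁ ⊤).op x := hx
  dsimp only at h1 hx'
  have h1' := hx'.symm.trans h1
  have h3 := congr(F.presheaf.map (eqToHom e.symm).op $h1')
  have h4 := Scheme.Modules.map_smul F (eqToHom e.symm)
    ((X.presheaf.map (homOfLE (j.image_mono le_top : j ''ᵁ (PrimeSpectrum.basicOpen (toR j g)) ≤ j ''ᵁ ⊤)).op g) ^ n)
    (F.presheaf.map (eqToHom e).op y)
  have h5 := h3.trans h4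
  have h6 : F.presheaf.map (eqToHom e.symm).op (F.presheaf.map (eqToHom e).op y) = y := by
    rw [← ConcreteCategory.comp_apply, ← Functor.map_comp, ← op_comp, eqToHom_trans, eqToHom_refl, op_id,
      CategoryTheory.Functor.map_id]
    rfl
  have h7 : F.presheaf.map (eqToHom e.symm).op (F.presheaf.map (homOfLE (j.image_mono le_top) :
      j ''ᵁ (PrimeSpectrum.basicOpen (toR j g)) ⟶ j ''ᵁ ⊤).op x) =
      F.presheaf.map (homOfLE (X.basicOpen_le g)).op x := by
    rw [← ConcreteCategory.comp_apply, ← Functor.map_comp, ← op_comp]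
    rfl
  rw [h6, h7, map_pow, ← ConcreteCategory.comp_apply, ← Functor.map_comp, ← op_comp] at h5
  exact h5

/-- Affine-open version, injectivity part: a section of a quasi-coherent module over an affine open
`V` that vanishes on `D(g)` is killed by a power of `g`. -/
theorem exists_pow_smul_eq_zero_of_isAffineOpen {V : X.Opens} (hV : IsAffineOpen V)
    (g : Γ(X, V)) (x : Γ(F, V))
    (hx : F.presheaf.map (homOfLE (X.basicOpen_le g)).op x = 0) : ∃ n : ℕ, g ^ n • x = 0 := by
  have key : ∀ (V' : X.Opens) (_ : hV.fromSpec ''ᵁ ⊤ = V') (g : Γ(X, V')) (x : Γ(F, V'))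
      (_ : F.presheaf.map (homOfLE (X.basicOpen_le g)).op x = 0), ∃ n : ℕ, g ^ n • x = 0 := by
    rintro _ rfl g x hx
    exact exists_pow_smul_eq_zero_of_openImmersion F hV.fromSpec g x hx
  exact key V (by rw [Scheme.Hom.image_top_eq_opensRange, hV.opensRange_fromSpec]) g x hx

/-- Affine-open version, surjectivity part: a section of a quasi-coherent module over `D(g)`,
`g` a function on the affine open `V`, extends to `V` after multiplication by a power of `g`. -/
theorem exists_pow_smul_eq_map_of_isAffineOpen {V : X.Opens} (hV : IsAffineOpen V)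
    (g : Γ(X, V)) (y : Γ(F, X.basicOpen g)) :
    ∃ (n : ℕ) (x : Γ(F, V)), F.presheaf.map (homOfLE (X.basicOpen_le g)).op x =
      (X.presheaf.map (homOfLE (X.basicOpen_le g)).op g) ^ n • y := by
  have key : ∀ (V' : X.Opens) (_ : hV.fromSpec ''ᵁ ⊤ = V') (g : Γ(X, V'))
      (y : Γ(F, X.basicOpen g)), ∃ (n : ℕ) (x : Γ(F, V')),
      F.presheaf.map (homOfLE (X.basicOpen_le g)).op x =
        (X.presheaf.map (homOfLE (X.basicOpen_le g)).op g) ^ n • y := by
    rintro _ rfl g y
    exact exists_pow_smul_eq_map_of_openImmersion F hV.fromSpec g y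
  exact key V (by rw [Scheme.Hom.image_top_eq_opensRange, hV.opensRange_fromSpec]) g y

/-- A section of a quasi-coherent module over a quasi-compact open `U` that vanishes on `D(f)`,
`f` a function on `U`, is killed by a power of `f`. -/
theorem exists_pow_smul_eq_zero_of_isCompact {U : X.Opens} (hU : IsCompact (U : Set X))
    (f : Γ(X, U)) (s : Γ(F, U))
    (hs : F.presheaf.map (homOfLE (X.basicOpen_le f)).op s = 0) : ∃ n : ℕ, f ^ n • s = 0 := by
  obtain ⟨S, hS, e⟩ := isCompact_and_isOpen_iff_finite_and_eq_biUnion_affineOpens.mp ⟨hU, U.2⟩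
  replace e : U = iSup fun i : S => (i : X.Opens) := by ext1; simpa using e
  have h₁ (i : S) : i.1.1 ≤ U := by rw [e]; exact le_iSup (fun (i : S) => (i : X.Opens)) _
  have H' := fun i : S => exists_pow_smul_eq_zero_of_isAffineOpen F i.1.2
      (X.presheaf.map (homOfLE (h₁ i)).op f) (F.presheaf.map (homOfLE (h₁ i)).op s) ?_
  swap
  · have hle : X.basicOpen (X.presheaf.map (homOfLE (h₁ i)).op f) ≤ X.basicOpen f := by
      rw [Scheme.basicOpen_res]; exact inf_le_right
    rw [← ConcreteCategory.comp_apply, ← Functor.map_comp, ← op_comp]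
    have : (homOfLE (X.basicOpen_le (X.presheaf.map (homOfLE (h₁ i)).op f)) ≫ homOfLE (h₁ i)) =
        homOfLE hle ≫ homOfLE (X.basicOpen_le f) := Subsingleton.elim _ _
    rw [this, op_comp, Functor.map_comp, ConcreteCategory.comp_apply, hs, map_zero]
  choose n hn using H'
  have := hS.to_subtype
  cases nonempty_fintype S
  refine ⟨Finset.univ.sup n, ?_⟩
  suffices ∀ i : S, F.presheaf.map (homOfLE (h₁ i)).op (f ^ Finset.univ.sup n • s) = 0 by
    subst e
    apply TopCat.Sheaf.eq_of_locally_eq ⟨F.presheaf, F.isSheaf⟩ fun i : S => (i : X.Opens)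
    intro i
    change _ = (F.presheaf.map _) 0
    rw [map_zero]
    apply this
  intro i
  rw [Scheme.Modules.map_smul, map_pow]
  have hle : n i ≤ Finset.univ.sup n := Finset.le_sup (Finset.mem_univ i)
  rw [← Nat.sub_add_cancel hle, pow_add, mul_smul, hn i, smul_zero]

end Groth.Agent.Lib.Helper22
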