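import Mathlib
import Groth.Agent.Lib.Helper22.QCohLoc

/-!
# Extending sections of quasi-coherent modules from `X_f` (helper22)

`exists_pow_smul_eq_map_of_isCompact_of_isQuasiSeparated`: for `F` quasi-coherent, `U` a qcqs open,
`f` a function on `U` and `t` a section of `F` over `D(f)`, some `f ^ n • t` extends to `U`.
-/

namespace Groth.Agent.Lib.Helper22

open AlgebraicGeometry CategoryTheory Opposite TopologicalSpace

universe u

variable {X : Scheme.{u}} (F : X.Modules)

section res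

variable {U V W : X.Opens}

theorem res_res (i : W ⟶ V) (j : V ⟶ U) (x : Γ(F, U)) :
    F.presheaf.map i.op (F.presheaf.map j.op x) =
      F.presheaf.map (homOfLE (i.le.trans j.le)).op x := by
  rw [← ConcreteCategory.comp_apply, ← Functor.map_comp, ← op_comp]
  rfl

theorem resX_resX (i : W ⟶ V) (j : V ⟶ U) (x : Γ(X, U)) :
    X.presheaf.map i.op (X.presheaf.map j.op x) =
      X.presheaf.map (homOfLE (i.le.trans j.le)).op x := by
  rw [← CommRingCat.comp_apply, ← Functor.map_comp, ← op_comp]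
  rfl

theorem res_congr (i j : V ⟶ U) (x : Γ(F, U)) :
    F.presheaf.map i.op x = F.presheaf.map j.op x := by
  rw [Subsingleton.elim i j]

theorem resX_congr (i j : V ⟶ U) (x : Γ(X, U)) :
    X.presheaf.map i.op x = X.presheaf.map j.op x := by
  rw [Subsingleton.elim i j]

end res

variable [F.IsQuasicoherent]

theorem basicOpen_res_le {U V : X.Opens} (h : V ≤ U) (f : Γ(X, U)) :
    X.basicOpen (X.presheaf.map (homOfLE h).op f) ≤ X.basicOpen f := by
  rw [Scheme.basicOpen_res]; exact inf_le_right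

/-- For `F` quasi-coherent, `U` a quasi-compact quasi-separated open, `f` a function on `U` and `t`
a section of `F` over `D(f)`, some `f ^ n • t` extends to a section over `U`. -/
theorem exists_pow_smul_eq_map_of_isCompact_of_isQuasiSeparated {U : X.Opens}
    (hU : IsCompact (U : Set X)) (hU' : IsQuasiSeparated (U : Set X))
    (f : Γ(X, U)) (t : Γ(F, X.basicOpen f)) :
    ∃ (n : ℕ) (s : Γ(F, U)), F.presheaf.map (homOfLE (X.basicOpen_le f)).op s =
      (X.presheaf.map (homOfLE (X.basicOpen_le f)).op f) ^ n • t := by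
  obtain ⟨S, hS, e⟩ := isCompact_and_isOpen_iff_finite_and_eq_biUnion_affineOpens.mp ⟨hU, U.2⟩
  replace e : U = iSup fun i : S => (i : X.Opens) := by ext1; simpa using e
  have h₁ (i : S) : i.1.1 ≤ U := by rw [e]; exact le_iSup (fun (i : S) => (i : X.Opens)) _
  have := hS.to_subtype
  cases nonempty_fintype S
  -- step 2: local extensions
  have H2 := fun i : S => exists_pow_smul_eq_map_of_isAffineOpen F i.1.2
    (X.presheaf.map (homOfLE (h₁ i)).op f)
    (F.presheaf.map (homOfLE (basicOpen_res_le (h₁ i) f)).op t)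
  choose n y hy using H2
  -- step 3: common exponent
  set N := Finset.univ.sup n with hN
  have hnN (i : S) : n i ≤ N := Finset.le_sup (Finset.mem_univ i)
  obtain ⟨y', hy'def⟩ : ∃ y' : ∀ i : S, Γ(F, i.1.1), ∀ i, y' i =
      (X.presheaf.map (homOfLE (h₁ i)).op f) ^ (N - n i) • y i := ⟨_, fun _ => rfl⟩
  have hy' (i : S) : F.presheaf.map (homOfLE (X.basicOpen_le
      (X.presheaf.map (homOfLE (h₁ i)).op f))).op (y' i) =
      (X.presheaf.map (homOfLE ((X.basicOpen_le
        (X.presheaf.map (homOfLE (h₁ i)).op f)).trans (h₁ i))).op f) ^ N •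
        F.presheaf.map (homOfLE (basicOpen_res_le (h₁ i) f)).op t := by
    rw [hy'def, Scheme.Modules.map_smul, hy i, map_pow, ← mul_smul, ← pow_add, Nat.sub_add_cancel (hnN i),
      resX_resX]
  have hyZ (i : S) (Z : X.Opens)
      (hZ : Z ≤ X.basicOpen (X.presheaf.map (homOfLE (h₁ i)).op f)) :
      F.presheaf.map (homOfLE (hZ.trans (X.basicOpen_le _))).op (y' i) =
      (X.presheaf.map (homOfLE (hZ.trans ((X.basicOpen_le _).trans (h₁ i)))).op f) ^ N •
        F.presheaf.map (homOfLE (hZ.trans (basicOpen_res_le (h₁ i) f))).op t := by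
    have := congr(F.presheaf.map (homOfLE hZ).op $(hy' i))
    rw [res_res, Scheme.Modules.map_smul, map_pow, resX_resX, res_res] at this
    exact this
  -- step 4: on overlaps
  have hW (i j : S) : IsCompact ((i.1.1 ⊓ j.1.1 : X.Opens) : Set X) :=
    hU' _ _ (h₁ i) i.1.1.2 i.1.2.isCompact (h₁ j) j.1.1.2 j.1.2.isCompact
  have hDW₁ (i j : S) : X.basicOpen (X.presheaf.map
      (homOfLE ((inf_le_left : i.1.1 ⊓ j.1.1 ≤ i.1.1).trans (h₁ i))).op f) ≤
      X.basicOpen (X.presheaf.map (homOfLE (h₁ i)).op f) := by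
    rw [Scheme.basicOpen_res, Scheme.basicOpen_res]; exact inf_le_inf_right _ inf_le_left
  have hDW₂ (i j : S) : X.basicOpen (X.presheaf.map
      (homOfLE ((inf_le_left : i.1.1 ⊓ j.1.1 ≤ i.1.1).trans (h₁ i))).op f) ≤
      X.basicOpen (X.presheaf.map (homOfLE (h₁ j)).op f) := by
    rw [Scheme.basicOpen_res, Scheme.basicOpen_res]; exact inf_le_inf_right _ inf_le_right
  have H4 := fun p : S × S => exists_pow_smul_eq_zero_of_isCompact F (hW p.1 p.2)
    (X.presheaf.map (homOfLE ((inf_le_left : p.1.1.1 ⊓ p.2.1.1 ≤ p.1.1.1).trans (h₁ p.1))).op f)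
    (F.presheaf.map (homOfLE (inf_le_left : p.1.1.1 ⊓ p.2.1.1 ≤ p.1.1.1)).op (y' p.1) -
      F.presheaf.map (homOfLE (inf_le_right : p.1.1.1 ⊓ p.2.1.1 ≤ p.2.1.1)).op (y' p.2)) (by
      rw [map_sub, sub_eq_zero, res_res, res_res]
      rw [hyZ p.1 _ (hDW₁ p.1 p.2), hyZ p.2 _ (hDW₂ p.1 p.2)])
  choose m hm using H4
  -- step 5: common exponent on overlaps
  set M := Finset.univ.sup m with hM
  have hmM (p : S × S) : m p ≤ M := Finset.le_sup (Finset.mem_univ p)
  obtain ⟨a, hadef⟩ : ∃ a : ∀ i : S, Γ(F, i.1.1), ∀ i, a i =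
      (X.presheaf.map (homOfLE (h₁ i)).op f) ^ M • y' i := ⟨_, fun _ => rfl⟩
  let Fs : TopCat.Sheaf Ab X := ⟨F.presheaf, F.isSheaf⟩
  have hcompat : TopCat.Presheaf.IsCompatible Fs.1 (fun i : S => (i : X.Opens)) a := by
    intro i j
    change F.presheaf.map (homOfLE (inf_le_left : i.1.1 ⊓ j.1.1 ≤ i.1.1)).op (a i) =
      F.presheaf.map (homOfLE (inf_le_right : i.1.1 ⊓ j.1.1 ≤ j.1.1)).op (a j)
    rw [hadef, hadef, Scheme.Modules.map_smul, Scheme.Modules.map_smul, map_pow, map_pow,
      resX_resX, resX_resX, ← sub_eq_zero, ← smul_sub, ← Nat.sub_add_cancel (hmM (i, j)), pow_add,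
      mul_smul]
    erw [hm (i, j)]
    rw [smul_zero]
  -- step 6: glue
  obtain ⟨s, hs, -⟩ := Fs.existsUnique_gluing' (fun i : S => (i : X.Opens)) U
    (fun i => homOfLE (h₁ i)) (le_of_eq e) a hcompat
  refine ⟨M + N, s, ?_⟩
  -- step 7: check on the cover `D(f|_{V_i})` of `D(f)`
  have hcover : X.basicOpen f ≤ ⨆ i : S, X.basicOpen (X.presheaf.map (homOfLE (h₁ i)).op f) := by
    simp only [Scheme.basicOpen_res]
    rw [← iSup_inf_eq, ← e]
    exact le_inf (X.basicOpen_le f) le_rfl
  apply Fs.eq_of_locally_eq' (fun i : S => X.basicOpen (X.presheaf.map (homOfLE (h₁ i)).op f))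
    (X.basicOpen f) (fun i => homOfLE (basicOpen_res_le (h₁ i) f)) hcover
  intro i
  change F.presheaf.map (homOfLE (basicOpen_res_le (h₁ i) f)).op
    (F.presheaf.map (homOfLE (X.basicOpen_le f)).op s) =
    F.presheaf.map (homOfLE (basicOpen_res_le (h₁ i) f)).op _
  have h1 : F.presheaf.map (homOfLE (basicOpen_res_le (h₁ i) f)).op
      (F.presheaf.map (homOfLE (X.basicOpen_le f)).op s) =
      F.presheaf.map (homOfLE (X.basicOpen_le (X.presheaf.map (homOfLE (h₁ i)).op f))).op (a i) := by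
    rw [← hs i]
    change _ = F.presheaf.map _ (F.presheaf.map (homOfLE (h₁ i)).op s)
    rw [res_res, res_res]
  rw [h1, hadef, Scheme.Modules.map_smul, hy' i, Scheme.Modules.map_smul, map_pow, map_pow,
    resX_resX, resX_resX, pow_add, mul_smul]

end Groth.Agent.Lib.Helper22
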