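import Mathlib
import Groth.Prelude.Def_LCI2
import Groth.Prelude.Def_CAlgX

set_option autoImplicit false
universe u

namespace Groth.Agent.Lib.Helper22.KoszulH1

open CategoryTheory CochainComplex HomComplex

variable {A : Type u} [CommRing A]

/-- the submodule of trivial (Koszul) relations -/
def Triv (n : ℕ) (g : Fin n → A) : Submodule A (Fin n → A) :=
  Submodule.span A {v | ∃ i j : Fin n, v = Pi.single i (g j) - Pi.single j (g i)}

/-- explicit description of the three top degrees of a Koszul-type complex -/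
structure Model (K : CochainComplex (ModuleCat.{u} A) ℤ) (n : ℕ) (g : Fin n → A) where
  ε : A ≃ₗ[A] K.X 0
  α : (Fin n → A) ≃ₗ[A] K.X (-1)
  hd1 : ∀ a, (K.d (-1) 0).hom (α a) = ε (∑ i, a i * g i)
  hd2 : ∀ w : K.X (-2), ∃ t ∈ Triv n g, (K.d (-2) (-1)).hom w = α t
  hX : ∀ i : ℤ, 0 < i → Limits.IsZero (K.X i)

lemma h1_of_model {K : CochainComplex (ModuleCat.{u} A) ℤ} {n : ℕ} {g : Fin n → A}
    (m : Model K n g) (h : Limits.IsZero (K.homology (-1))) : CAlgX.IsH1Regular g := by
  intro a ha
  have hz : (K.d (-1) 0).hom (m.α a) = 0 := by rw [m.hd1, ha, map_zero]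
  have hex : K.ExactAt (-1) := (K.exactAt_iff_isZero_homology (-1)).mpr h
  rw [K.exactAt_iff' (-2) (-1) 0 (by simp) (by simp)] at hex
  rw [ShortComplex.moduleCat_exact_iff] at hex
  obtain ⟨w, hw⟩ := hex (m.α a) hz
  obtain ⟨t, ht, hwt⟩ := m.hd2 w
  have hat : m.α a = m.α t := by
    rw [← hwt]
    exact hw.symm
  rw [m.α.injective hat]
  exact ht


section step
variable (K : CochainComplex (ModuleCat.{u} A) ℤ) (f : A)

open mappingCone

lemma fst_inl (p q : ℤ) (hpq : q + 1 = p) (x : K.X p) :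
    ((fst (f • 𝟙 K)).1.v q p hpq).hom
      (((inl (f • 𝟙 K)).v p q (by rw [← hpq, add_neg_cancel_right])).hom x) = x := by
  have := congrArg (fun t => t.hom x) (inl_v_fst_v (f • 𝟙 K) p q hpq)
  simp only [ModuleCat.hom_comp, LinearMap.comp_apply, ModuleCat.hom_id, LinearMap.id_apply] at this
  exact this

lemma snd_inl (p q : ℤ) (hpq : p + (-1) = q) (x : K.X p) :
    ((snd (f • 𝟙 K)).v q q (add_zero q)).hom (((inl (f • 𝟙 K)).v p q hpq).hom x) = 0 := by
  have := congrArg (fun t => t.hom x) (inl_v_snd_v (f • 𝟙 K) p q hpq)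
  simp only [ModuleCat.hom_comp, LinearMap.comp_apply, ModuleCat.hom_zero, LinearMap.zero_apply] at this
  exact this

lemma fst_inr (p q : ℤ) (hpq : p + 1 = q) (y : K.X p) :
    ((fst (f • 𝟙 K)).1.v p q hpq).hom (((inr (f • 𝟙 K)).f p).hom y) = 0 := by
  have := congrArg (fun t => t.hom y) (inr_f_fst_v (f • 𝟙 K) p q hpq)
  simp only [ModuleCat.hom_comp, LinearMap.comp_apply, ModuleCat.hom_zero, LinearMap.zero_apply] at this
  exact this

lemma snd_inr (p : ℤ) (y : K.X p) :
    ((snd (f • 𝟙 K)).v p p (add_zero p)).hom (((inr (f • 𝟙 K)).f p).hom y) = y := by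
  have := congrArg (fun t => t.hom y) (inr_f_snd_v (f • 𝟙 K) p)
  simp only [ModuleCat.hom_comp, LinearMap.comp_apply, ModuleCat.hom_id, LinearMap.id_apply] at this
  exact this

lemma decomp (p q : ℤ) (hpq : p + 1 = q) (z : (mappingCone (f • 𝟙 K)).X p) :
    z = ((inl (f • 𝟙 K)).v q p (by rw [← hpq, add_neg_cancel_right])).hom
          (((fst (f • 𝟙 K)).1.v p q hpq).hom z) +
        ((inr (f • 𝟙 K)).f p).hom (((snd (f • 𝟙 K)).v p p (add_zero p)).hom z) := by
  have := congrArg (fun t => t.hom z) (id_X (f • 𝟙 K) p q hpq)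
  simpa using this.symm

lemma d_inl (i j k : ℤ) (hij : i + (-1) = j) (hik : k + (-1) = i) (x : K.X i) :
    ((mappingCone (f • 𝟙 K)).d j i).hom (((inl (f • 𝟙 K)).v i j hij).hom x) =
      ((inr (f • 𝟙 K)).f i).hom (f • x) -
        ((inl (f • 𝟙 K)).v k i hik).hom ((K.d i k).hom x) := by
  have := congrArg (fun t => t.hom x) (inl_v_d (f • 𝟙 K) i j k hij hik)
  simpa using this

lemma d_inr (n₁ n₂ : ℤ) (y : K.X n₁) :
    ((mappingCone (f • 𝟙 K)).d n₁ n₂).hom (((inr (f • 𝟙 K)).f n₁).hom y) =
      ((inr (f • 𝟙 K)).f n₂).hom ((K.d n₁ n₂).hom y) := by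
  have := congrArg (fun t => t.hom y) (inr_f_d (f • 𝟙 K) n₁ n₂)
  simp only [ModuleCat.hom_comp, LinearMap.comp_apply] at this
  exact this

end step


section triv
variable (n : ℕ) (g : Fin n → A) (f : A)

/-- prepend a zero coordinate -/
def consZero : (Fin n → A) →ₗ[A] (Fin (n + 1) → A) where
  toFun t := Fin.cons 0 t
  map_add' t t' := by
    funext k
    refine Fin.cases ?_ (fun k' => ?_) k <;> simp
  map_smul' r t := by
    funext k
    refine Fin.cases ?_ (fun k' => ?_) k <;> simp

lemma consZero_apply (t : Fin n → A) : consZero n t = Fin.cons 0 t := rfl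

lemma consZero_mem_triv (t : Fin n → A) (ht : t ∈ Triv n g) :
    (Fin.cons 0 t : Fin (n + 1) → A) ∈ Triv (n + 1) (Fin.cons f g) := by
  have hle : Triv n g ≤ (Triv (n + 1) (Fin.cons f g)).comap (consZero (A := A) n) := by
    unfold Triv
    rw [Submodule.span_le]
    rintro _ ⟨i, j, rfl⟩
    rw [SetLike.mem_coe, Submodule.mem_comap]
    apply Submodule.subset_span
    refine ⟨i.succ, j.succ, ?_⟩
    rw [consZero_apply]
    funext k
    refine Fin.cases ?_ (fun k' => ?_) k
    · simp [Pi.single_apply, Fin.succ_ne_zero, (Fin.succ_ne_zero _).symm]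
    · simp [Pi.single_apply, Fin.succ_inj]
  exact hle ht

lemma cons_eq (b t : Fin n → A) :
    (Fin.cons (-(∑ i, b i * g i)) (f • b + t) : Fin (n + 1) → A) =
      ∑ i, b i • ((Pi.single i.succ f - Pi.single 0 (g i) : Fin (n + 1) → A)) + Fin.cons 0 t := by
  funext k
  refine Fin.cases ?_ (fun k' => ?_) k
  · simp [Finset.sum_apply, Pi.single_apply, (Fin.succ_ne_zero _).symm, Finset.sum_neg_distrib]
  · simp [Finset.sum_apply, Pi.single_apply, Fin.succ_inj, Finset.sum_ite_eq, mul_comm]

lemma cons_mem_triv (b t : Fin n → A) (ht : t ∈ Triv n g) :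
    (Fin.cons (-(∑ i, b i * g i)) (f • b + t) : Fin (n + 1) → A) ∈ Triv (n + 1) (Fin.cons f g) := by
  rw [cons_eq]
  refine Submodule.add_mem _ (Submodule.sum_mem _ (fun i _ => Submodule.smul_mem _ _ ?_))
    (consZero_mem_triv n g f t ht)
  apply Submodule.subset_span
  exact ⟨i.succ, 0, by simp⟩

end triv


section stepModel
open mappingCone
variable (K : CochainComplex (ModuleCat.{u} A) ℤ) (f : A)

lemma eq_zero_of_isZero {M : ModuleCat.{u} A} (h : Limits.IsZero M) (x : M) : x = 0 :=
  (ModuleCat.subsingleton_of_isZero h).elim _ _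

/-- an element of the cone from its two components -/
noncomputable def coneMk (p q : ℤ) (hpq : p + 1 = q) (x : K.X q) (y : K.X p) :
    (mappingCone (f • 𝟙 K)).X p :=
  ((inl (f • 𝟙 K)).v q p (by rw [← hpq, add_neg_cancel_right])).hom x + ((inr (f • 𝟙 K)).f p).hom y

lemma fst_mk (p q : ℤ) (hpq : p + 1 = q) (x : K.X q) (y : K.X p) :
    ((fst (f • 𝟙 K)).1.v p q hpq).hom (coneMk K f p q hpq x y) = x := by
  unfold coneMk
  rw [map_add, fst_inl K f q p hpq, fst_inr, add_zero]

lemma snd_mk (p q : ℤ) (hpq : p + 1 = q) (x : K.X q) (y : K.X p) :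
    ((snd (f • 𝟙 K)).v p p (add_zero p)).hom (coneMk K f p q hpq x y) = y := by
  unfold coneMk
  rw [map_add, snd_inl, snd_inr, zero_add]

lemma mk_fst_snd (p q : ℤ) (hpq : p + 1 = q) (z : (mappingCone (f • 𝟙 K)).X p) :
    coneMk K f p q hpq (((fst (f • 𝟙 K)).1.v p q hpq).hom z)
      (((snd (f • 𝟙 K)).v p p (add_zero p)).hom z) = z :=
  (decomp K f p q hpq z).symm

lemma mk_add (p q : ℤ) (hpq : p + 1 = q) (x x' : K.X q) (y y' : K.X p) :
    coneMk K f p q hpq (x + x') (y + y') = coneMk K f p q hpq x y + coneMk K f p q hpq x' y' := by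
  unfold coneMk
  rw [map_add, map_add]
  abel

lemma mk_smul (p q : ℤ) (hpq : p + 1 = q) (r : A) (x : K.X q) (y : K.X p) :
    coneMk K f p q hpq (r • x) (r • y) = r • coneMk K f p q hpq x y := by
  unfold coneMk
  rw [map_smul, map_smul, smul_add]

lemma d_mk (p q r : ℤ) (hpq : p + 1 = q) (hqr : q + 1 = r) (x : K.X q) (y : K.X p) :
    ((mappingCone (f • 𝟙 K)).d p q).hom (coneMk K f p q hpq x y) =
      coneMk K f q r hqr (-(K.d q r).hom x) (f • x + (K.d p q).hom y) := by
  unfold coneMk
  rw [map_add, d_inl K f q p r (by rw [← hpq, add_neg_cancel_right])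
    (by rw [← hqr, add_neg_cancel_right]), d_inr, map_neg, map_add]
  abel

variable {K} {n : ℕ} {g : Fin n → A}

/-- the model of the cone -/
noncomputable def Model.step (m : Model K n g) (f : A) :
    Model (mappingCone (f • 𝟙 K)) (n + 1) (Fin.cons f g) where
  ε :=
    { toFun := fun a => coneMk K f 0 1 (zero_add 1) 0 (m.ε a)
      map_add' := fun a b => by rw [map_add, ← mk_add, add_zero]
      map_smul' := fun r a => by rw [map_smul, RingHom.id_apply, ← mk_smul, smul_zero]
      invFun := fun z => m.ε.symm (((snd (f • 𝟙 K)).v 0 0 (add_zero 0)).hom z)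
      left_inv := fun a => by
        show m.ε.symm (((snd (f • 𝟙 K)).v 0 0 (add_zero 0)).hom (coneMk K f 0 1 (zero_add 1) 0 (m.ε a))) = a
        rw [snd_mk, LinearEquiv.symm_apply_apply]
      right_inv := fun z => by
        show coneMk K f 0 1 (zero_add 1) 0 (m.ε (m.ε.symm (((snd (f • 𝟙 K)).v 0 0 (add_zero 0)).hom z))) = z
        rw [LinearEquiv.apply_symm_apply]
        have h1 : ((fst (f • 𝟙 K)).1.v 0 1 (zero_add 1)).hom z = 0 :=
          eq_zero_of_isZero (m.hX 1 one_pos) _
        rw [← h1]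
        exact mk_fst_snd K f 0 1 (zero_add 1) z }
  α :=
    { toFun := fun a => coneMk K f (-1) 0 (neg_add_cancel 1) (m.ε (a 0)) (m.α (Fin.tail a))
      map_add' := fun a b => by
        have : Fin.tail (a + b) = Fin.tail a + Fin.tail b := rfl
        rw [this, Pi.add_apply, map_add, map_add, mk_add]
      map_smul' := fun r a => by
        have : Fin.tail (r • a) = r • Fin.tail a := rfl
        rw [this, Pi.smul_apply, map_smul, map_smul, RingHom.id_apply, mk_smul]
      invFun := fun z => Fin.cons (m.ε.symm (((fst (f • 𝟙 K)).1.v (-1) 0 (neg_add_cancel 1)).hom z))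
        (m.α.symm (((snd (f • 𝟙 K)).v (-1) (-1) (add_zero (-1))).hom z))
      left_inv := fun a => by
        dsimp only
        rw [fst_mk, snd_mk, LinearEquiv.symm_apply_apply, LinearEquiv.symm_apply_apply]
        exact Fin.cons_self_tail a
      right_inv := fun z => by
        dsimp only
        rw [Fin.cons_zero, Fin.tail_cons, LinearEquiv.apply_symm_apply, LinearEquiv.apply_symm_apply]
        exact mk_fst_snd K f (-1) 0 (neg_add_cancel 1) z }
  hd1 := fun a => by
    show ((mappingCone (f • 𝟙 K)).d (-1) 0).hom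
      (coneMk K f (-1) 0 (neg_add_cancel 1) (m.ε (a 0)) (m.α (Fin.tail a))) =
      coneMk K f 0 1 (zero_add 1) 0 (m.ε (∑ i, a i * (Fin.cons f g : Fin (n + 1) → A) i))
    rw [d_mk K f (-1) 0 1 (neg_add_cancel 1) (zero_add 1), m.hd1]
    have h1 : (K.d 0 1).hom (m.ε (a 0)) = 0 := eq_zero_of_isZero (m.hX 1 one_pos) _
    rw [h1, neg_zero, ← map_smul, ← map_add, Fin.sum_univ_succ]
    congr 2
    simp [Fin.tail, mul_comm]
  hd2 := fun w => by
    obtain ⟨t, ht, hyt⟩ := m.hd2 (((snd (f • 𝟙 K)).v (-2) (-2) (add_zero (-2))).hom w)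
    set x := ((fst (f • 𝟙 K)).1.v (-2) (-1) (by norm_num)).hom w with hx
    set b := m.α.symm x with hb
    have hxb : x = m.α b := by rw [hb, LinearEquiv.apply_symm_apply]
    refine ⟨Fin.cons (-(∑ i, b i * g i)) (f • b + t), cons_mem_triv n g f b t ht, ?_⟩
    have hw := mk_fst_snd K f (-2) (-1) (by norm_num) w
    rw [← hw, d_mk K f (-2) (-1) 0 (by norm_num) (neg_add_cancel 1), hyt, ← hx, hxb, m.hd1]
    show _ = coneMk K f (-1) 0 (neg_add_cancel 1)
      (m.ε ((Fin.cons (-(∑ i, b i * g i)) (f • b + t) : Fin (n + 1) → A) 0))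
      (m.α (Fin.tail (Fin.cons (-(∑ i, b i * g i)) (f • b + t) : Fin (n + 1) → A)))
    rw [Fin.cons_zero, Fin.tail_cons, map_neg, map_add, map_smul]
  hX := fun i hi => by
    rw [isZero_X_iff]
    exact ⟨m.hX (i + 1) (by omega), m.hX i hi⟩

end stepModel

section base

/-- the model of the one-term complex -/
noncomputable def Model.base :
    Model ((HomologicalComplex.single (ModuleCat.{u} A) (ComplexShape.up ℤ) 0).obj (ModuleCat.of A A))
      0 Fin.elim0 where
  ε := (HomologicalComplex.singleObjXSelf (ComplexShape.up ℤ) 0 (ModuleCat.of A A)).symm.toLinearEquiv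
  α :=
    haveI : Subsingleton (((HomologicalComplex.single (ModuleCat.{u} A) (ComplexShape.up ℤ) 0).obj
        (ModuleCat.of A A)).X (-1)) :=
      ModuleCat.subsingleton_of_isZero
        (HomologicalComplex.isZero_single_obj_X (ComplexShape.up ℤ) 0 (ModuleCat.of A A) (-1) (by norm_num))
    LinearEquiv.ofSubsingleton _ _
  hd1 := fun a => by
    have h0 : ∀ z : ((HomologicalComplex.single (ModuleCat.{u} A) (ComplexShape.up ℤ) 0).obj
        (ModuleCat.of A A)).X (-1), z = 0 := fun z => eq_zero_of_isZero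
        (HomologicalComplex.isZero_single_obj_X (ComplexShape.up ℤ) 0 (ModuleCat.of A A) (-1) (by norm_num)) z
    rw [Finset.univ_eq_empty, Finset.sum_empty, map_zero]
    have h1 : ∀ z, (((HomologicalComplex.single (ModuleCat.{u} A) (ComplexShape.up ℤ) 0).obj
        (ModuleCat.of A A)).d (-1) 0).hom z = 0 := fun z => by rw [h0 z, map_zero]
    exact h1 _
  hd2 := fun w => by
    have h0 : ∀ z : ((HomologicalComplex.single (ModuleCat.{u} A) (ComplexShape.up ℤ) 0).obj
        (ModuleCat.of A A)).X (-1), z = 0 := fun z => eq_zero_of_isZero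
        (HomologicalComplex.isZero_single_obj_X (ComplexShape.up ℤ) 0 (ModuleCat.of A A) (-1) (by norm_num)) z
    exact ⟨0, Submodule.zero_mem _, (h0 _).trans (h0 _).symm⟩
  hX := fun i hi =>
    HomologicalComplex.isZero_single_obj_X (ComplexShape.up ℤ) 0 (ModuleCat.of A A) i (by omega)

end base

/-- the model of the Koszul complex of a list -/
noncomputable def model : (l : List A) → Model (Koszul.koszul A l) l.length l.get
  | [] => by
    have : ([] : List A).get = Fin.elim0 := by
      funext i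
      exact i.elim0
    rw [this]
    exact Model.base
  | f :: l => by
    have : (f :: l).get = Fin.cons f l.get := by
      funext i
      refine Fin.cases ?_ (fun i' => ?_) i <;> rfl
    rw [this]
    exact (model l).step f

/-- **Koszul-regular sequences are `H_1`-regular** (mapping-cone model of the Koszul complex). -/
theorem isH1Regular_of_isKoszulRegularSeq (l : List A) (h : LCI.IsKoszulRegularSeq A l) :
    CAlgX.IsH1Regular l.get :=
  h1_of_model (model l) (h (-1) (by norm_num))

end Groth.Agent.Lib.Helper22.KoszulH1
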