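import Mathlib
import Groth.Agent.S1833

/-!
helper22: algebraic core of "flat pullback of a principal divisor".

For a flat local homomorphism `ψ : O → A` of Noetherian local rings, a prime `P` of `O` and
`a ∉ P`, assuming `A / P A` has dimension `≤ 1` and `V(PA + aA) ⊆ {m_A}`:

`ord_{O/P}(a) * length_A(A / m_O A)
   = ∑_{q ⊇ PA, q ≠ m_A} ord_{A/q}(ψ a) * length_{A_q}((A/PA)_q)`.
-/

set_option autoImplicit false
universe u
open IsLocalRing TensorProduct Pointwise

namespace Groth.Agent.Lib.Helper22.FlatDivAlg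

section
variable {O A : Type u} [CommRing O] [CommRing A]

/-- `ord_{O/P}(a) = length_O(O/(P + a))`. -/
lemma ord_quot_eq (P : Ideal O) (a : O) :
    Ring.ord (O ⧸ P) (Ideal.Quotient.mk P a) =
      Module.length O (O ⧸ (P ⊔ Ideal.span {a})) := by
  unfold Ring.ord
  have h1 : Module.length O ((O ⧸ P) ⧸ Ideal.span {Ideal.Quotient.mk P a}) =
      Module.length (O ⧸ P) ((O ⧸ P) ⧸ Ideal.span {Ideal.Quotient.mk P a}) :=
    Module.length_eq_of_surjective (S := O) (R := O ⧸ P) Ideal.Quotient.mk_surjective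
  rw [← h1]
  have h2 : (Ideal.span {a}).map (Ideal.Quotient.mkₐ O P) =
      Ideal.span {Ideal.Quotient.mk P a} := by
    rw [Ideal.map_span, Set.image_singleton]
    rfl
  have e := (DoubleQuot.quotQuotEquivQuotSupₐ O P (Ideal.span {a})).toLinearEquiv
  rw [h2] at e
  exact e.length_eq

lemma smul_top_eq_map_span (I : Ideal A) (c : A) :
    c • (⊤ : Submodule A (A ⧸ I)) =
      Submodule.map (Submodule.mkQ I) (Ideal.span {c} : Submodule A A) := by
  ext z
  rw [Submodule.mem_smul_pointwise_iff_exists, Submodule.mem_map]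
  constructor
  · rintro ⟨w, -, rfl⟩
    obtain ⟨t, rfl⟩ := Submodule.Quotient.mk_surjective _ w
    refine ⟨c * t, Ideal.mem_span_singleton'.mpr ⟨t, mul_comm _ _⟩, ?_⟩
    show Submodule.Quotient.mk (c * t) = c • Submodule.Quotient.mk t
    rfl
  · rintro ⟨y, hy, rfl⟩
    obtain ⟨t, rfl⟩ := Ideal.mem_span_singleton'.mp hy
    refine ⟨Submodule.Quotient.mk t, trivial, ?_⟩
    show c • Submodule.Quotient.mk t = Submodule.Quotient.mk (t * c)
    rw [mul_comm]
    rfl

end

variable {O A : Type u} [CommRing O] [CommRing A] [IsNoetherianRing O] [IsNoetherianRing A]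
  [IsLocalRing O] [IsLocalRing A]

theorem core (ψ : O →+* A) [IsLocalHom ψ] (hψ : ψ.Flat) (P : Ideal O) [P.IsPrime] (a : O)
    (ha : a ∉ P)
    (hd1 : Module.supportDim A (A ⧸ Ideal.map ψ P) ≤ 1)
    (hd0 : ∀ q : PrimeSpectrum A, Ideal.map ψ P ≤ q.asIdeal → ψ a ∈ q.asIdeal →
      q = closedPoint A) :
    Ring.ord (O ⧸ P) (Ideal.Quotient.mk P a) *
        Module.length A (A ⧸ Ideal.map ψ (maximalIdeal O)) =
      ∑ᶠ (q : PrimeSpectrum A) (_ : Ideal.map ψ P ≤ q.asIdeal ∧
          q.asIdeal ≠ maximalIdeal A),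
        Ring.ord (A ⧸ q.asIdeal) (Ideal.Quotient.mk q.asIdeal (ψ a)) *
          Module.length (Localization.AtPrime q.asIdeal)
            (LocalizedModule q.asIdeal.primeCompl (A ⧸ Ideal.map ψ P)) := by
  algebraize [ψ]
  have hloc : IsLocalHom (algebraMap O A) := by
    rw [RingHom.algebraMap_toAlgebra]; infer_instance
  -- G1, G2
  have g1 := ord_quot_eq P a
  have g2a := IsLocalRing.length_baseChange O A (O ⧸ (P ⊔ Ideal.span {a}))
  have g2b := (Algebra.TensorProduct.quotIdealMapEquivTensorQuot A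
    (P ⊔ Ideal.span {a})).toLinearEquiv.length_eq
  rw [← g2b] at g2a
  have hJ : Ideal.map (algebraMap O A) (P ⊔ Ideal.span {a}) =
      Ideal.map ψ P ⊔ Ideal.span {ψ a} := by
    rw [Ideal.map_sup, Ideal.map_span, Set.image_singleton]
    rfl
  rw [hJ] at g2a
  -- G3: the module M = A / P A
  have e3 : ((A ⧸ Ideal.map ψ P) ⧸ (ψ a) • (⊤ : Submodule A (A ⧸ Ideal.map ψ P))) ≃ₗ[A]
      A ⧸ (Ideal.map ψ P ⊔ Ideal.span {ψ a}) := by
    rw [smul_top_eq_map_span]
    exact Submodule.quotientQuotientEquivQuotientSup (R := A) (M := A) (Ideal.map ψ P)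
      (Ideal.span {ψ a})
  have hd0' : Module.supportDim A
      ((A ⧸ Ideal.map ψ P) ⧸ (ψ a) • (⊤ : Submodule A (A ⧸ Ideal.map ψ P))) ≤ 0 := by
    rw [Module.supportDim_eq_of_equiv e3]
    unfold Module.supportDim
    have hss : Subsingleton (Module.support A (A ⧸ (Ideal.map ψ P ⊔ Ideal.span {ψ a}))) := by
      constructor
      rintro ⟨q1, h1⟩ ⟨q2, h2⟩
      rw [Module.support_eq_zeroLocus, Ideal.annihilator_quotient,
        PrimeSpectrum.mem_zeroLocus] at h1 h2
      apply Subtype.ext
      have a1 : ψ a ∈ q1.asIdeal := h1 (Ideal.mem_sup_right (Ideal.mem_span_singleton_self _))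
      have a2 : ψ a ∈ q2.asIdeal := h2 (Ideal.mem_sup_right (Ideal.mem_span_singleton_self _))
      show q1 = q2
      exact (hd0 q1 (le_trans le_sup_left h1) a1).trans
        (hd0 q2 (le_trans le_sup_left h2) a2).symm
    exact Order.krullDim_nonpos_of_subsingleton
  have key := Groth.Agent.S1833.result A (A ⧸ Ideal.map ψ P) (ψ a) hd1 hd0'
  -- G4: regularity
  have hreg : IsSMulRegular (A ⧸ Ideal.map ψ P) (ψ a) := by
    haveI : IsDomain (O ⧸ P) := Ideal.Quotient.isDomain P
    have r0 : IsSMulRegular (O ⧸ P) a := by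
      intro z w hzw
      have hne : Ideal.Quotient.mk P a ≠ 0 := by
        rw [Ne, Ideal.Quotient.eq_zero_iff_mem]; exact ha
      have : Ideal.Quotient.mk P a * z = Ideal.Quotient.mk P a * w := hzw
      exact mul_left_cancel₀ hne this
    have r1 : IsSMulRegular (A ⊗[O] (O ⧸ P)) (algebraMap O A a) :=
      IsSMulRegular.of_flat_of_isBaseChange (TensorProduct.isBaseChange O (O ⧸ P) A) r0
    exact ((Algebra.TensorProduct.quotIdealMapEquivTensorQuot A P).toLinearEquiv.isSMulRegular_congr
      (algebraMap O A a)).mpr r1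
  have hker : LinearMap.ker (LinearMap.lsmul A (A ⧸ Ideal.map ψ P) (ψ a)) = ⊥ := by
    rw [LinearMap.ker_eq_bot]
    exact hreg
  rw [hker, Module.length_bot, zero_add, e3.length_eq, g2a, ← g1] at key
  have hmax : Ideal.map (algebraMap O A) (maximalIdeal O) = Ideal.map ψ (maximalIdeal O) := rfl
  rw [hmax] at key
  rw [key]
  apply finsum_congr
  intro q
  have hiff : (q ∈ Module.support A (A ⧸ Ideal.map ψ P) ∧ q.asIdeal ≠ maximalIdeal A) ↔
      (Ideal.map ψ P ≤ q.asIdeal ∧ q.asIdeal ≠ maximalIdeal A) := by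
    rw [Module.support_eq_zeroLocus, Ideal.annihilator_quotient, PrimeSpectrum.mem_zeroLocus]
    rfl
  classical
  rw [finsum_eq_if, finsum_eq_if]
  by_cases hq : Ideal.map ψ P ≤ q.asIdeal ∧ q.asIdeal ≠ maximalIdeal A
  · rw [if_pos (hiff.mpr hq), if_pos hq]
  · rw [if_neg (fun h => hq (hiff.mp h)), if_neg hq]

section LocQuot

lemma length_quot_map {R S : Type u} [CommRing R] [CommRing S] (π : R →+* S)
    (hπ : Function.Bijective π) (I : Ideal R) :
    Module.length S (S ⧸ Ideal.map π I) = Module.length R (R ⧸ I) := by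
  algebraize [π]
  have h1 : Module.length R (S ⧸ Ideal.map π I) = Module.length S (S ⧸ Ideal.map π I) :=
    Module.length_eq_of_surjective (S := R) (R := S) (M := S ⧸ Ideal.map π I) hπ.surjective
  rw [← h1]
  let e0 : R ⧸ I ≃+* S ⧸ Ideal.map π I :=
    Ideal.quotientEquiv I (Ideal.map π I) (RingEquiv.ofBijective π hπ) rfl
  let e : (R ⧸ I) ≃ₗ[R] (S ⧸ Ideal.map π I) :=
    { e0.toAddEquiv with
      map_smul' := by
        intro r m
        obtain ⟨a, rfl⟩ := Ideal.Quotient.mk_surjective m
        show e0 (r • Ideal.Quotient.mk I a) = r • e0 (Ideal.Quotient.mk I a)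
        rw [Algebra.smul_def, map_mul, Algebra.smul_def]
        rfl }
  exact e.length_eq.symm

theorem len_loc_quot {A : Type u} [CommRing A] (q : Ideal A) [q.IsPrime] (I : Ideal A)
    (S : Type u) [CommRing S] [Algebra A S] [IsLocalization.AtPrime S q] :
    Module.length (Localization.AtPrime q) (LocalizedModule q.primeCompl (A ⧸ I)) =
      Module.length S (S ⧸ Ideal.map (algebraMap A S) I) := by
  have hb : IsBaseChange (Localization.AtPrime q)
      (LocalizedModule.mkLinearMap q.primeCompl (A ⧸ I)) :=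
    IsLocalizedModule.isBaseChange q.primeCompl (Localization.AtPrime q) _
  have e1 := hb.equiv.length_eq
  have e2 := (Algebra.TensorProduct.quotIdealMapEquivTensorQuot (Localization.AtPrime q)
    I).toLinearEquiv.length_eq
  let π : Localization.AtPrime q ≃ₐ[A] S :=
    IsLocalization.algEquiv q.primeCompl (Localization.AtPrime q) S
  have e3 := length_quot_map (π : Localization.AtPrime q →+* S) π.bijective
    (Ideal.map (algebraMap A (Localization.AtPrime q)) I)
  have e4 : Ideal.map (π : Localization.AtPrime q →+* S)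
      (Ideal.map (algebraMap A (Localization.AtPrime q)) I) = Ideal.map (algebraMap A S) I := by
    rw [Ideal.map_map]
    congr 1
    ext a
    exact π.commutes a
  rw [e4] at e3
  rw [← e1, ← e2, e3]

end LocQuot

end Groth.Agent.Lib.Helper22.FlatDivAlg
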