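import Mathlib
import Groth.Prelude.Def_Tame

/-!
helper22: behaviour of `CycAlg.ordFrac` under flat local homomorphisms.

* `ordFrac_div` : explicit value on a fraction.
* `ordFrac_flat` : for a flat local homomorphism `ψ : A → B` of one-dimensional Noetherian local
  domains, compatible with `φ : K → L` on fraction fields,
  `ord_B (φ g) = ord_A g * length_B (B / m_A B)`.
-/

set_option autoImplicit false
universe u v
open IsLocalRing TensorProduct

namespace Groth.Agent.Lib.Helper22.OrdFlat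

section
variable {A : Type u} [CommRing A] {K : Type v} [Field K] [Algebra A K]

theorem ordFrac_eq_log (hA : IsNoetherianRing A ∧ Ring.KrullDimLE 1 A ∧ Nontrivial A ∧
    IsFractionRing A K) (g : K) :
    CycAlg.ordFrac A K g =
      haveI := hA.1; haveI := hA.2.1; haveI := hA.2.2.1; haveI := hA.2.2.2
      WithZero.log (Ring.ordFrac A g) := by
  unfold CycAlg.ordFrac
  rw [dif_pos hA]
  rfl

theorem ordFrac_div (hA : IsNoetherianRing A ∧ Ring.KrullDimLE 1 A ∧ Nontrivial A ∧
    IsFractionRing A K) (a b : A) (ha : a ∈ nonZeroDivisors A) (hb : b ∈ nonZeroDivisors A) :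
    CycAlg.ordFrac A K (algebraMap A K a / algebraMap A K b) =
      ((Ring.ord A a).toNat : ℤ) - ((Ring.ord A b).toNat : ℤ) := by
  rw [ordFrac_eq_log hA]
  haveI := hA.1; haveI := hA.2.1; haveI := hA.2.2.1; haveI := hA.2.2.2
  show WithZero.log (Ring.ordFrac A (algebraMap A K a / algebraMap A K b)) = _
  haveI : IsDomain A := (FaithfulSMul.algebraMap_injective A K).isDomain
  have ha0 : a ≠ 0 := nonZeroDivisors.ne_zero ha
  have hb0 : b ≠ 0 := nonZeroDivisors.ne_zero hb
  rw [map_div₀, Ring.ordFrac_eq_ord A ha0, Ring.ordFrac_eq_ord A hb0]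
  obtain ⟨n, hn⟩ := ENat.ne_top_iff_exists.mp (Ring.ord_ne_top ha)
  obtain ⟨m, hm⟩ := ENat.ne_top_iff_exists.mp (Ring.ord_ne_top hb)
  rw [Ring.ordMonoidWithZeroHom_eq_coe A ha hn.symm, Ring.ordMonoidWithZeroHom_eq_coe A hb hm.symm,
    ← hn, ← hm]
  rw [WithZero.log_div (by simp) (by simp)]
  rfl

end

theorem ordFrac_zero {A : Type u} [CommRing A] {K : Type v} [Field K] [Algebra A K] :
    CycAlg.ordFrac A K (0 : K) = 0 := by
  unfold CycAlg.ordFrac
  split_ifs with h
  · haveI := h.1; haveI := h.2.1; haveI := h.2.2.1; haveI := h.2.2.2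
    show WithZero.log (Ring.ordFrac A (0 : K)) = 0
    rw [map_zero]; rfl
  · rfl

section Flat
variable {A B : Type u} [CommRing A] [CommRing B] {K L : Type v} [Field K] [Field L]
  [Algebra A K] [Algebra B L] [IsLocalRing A] [IsLocalRing B]

theorem ord_flat (ψ : A →+* B) [IsLocalHom ψ] (hψ : ψ.Flat) (a : A) :
    Ring.ord B (ψ a) =
      Ring.ord A a * Module.length B (B ⧸ Ideal.map ψ (maximalIdeal A)) := by
  algebraize [ψ]
  have hloc : IsLocalHom (algebraMap A B) := by
    rw [RingHom.algebraMap_toAlgebra]; infer_instance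
  have h1 := IsLocalRing.length_baseChange A B (A ⧸ Ideal.span {a})
  have h2 := (Algebra.TensorProduct.quotIdealMapEquivTensorQuot B
    (Ideal.span {a})).toLinearEquiv.length_eq
  rw [← h2] at h1
  unfold Ring.ord
  rw [Ideal.map_span, Set.image_singleton] at h1
  exact h1

theorem ordFrac_flat (ψ : A →+* B) [IsLocalHom ψ] (hψ : ψ.Flat) (φ : K →+* L)
    (hcomm : ∀ a, φ (algebraMap A K a) = algebraMap B L (ψ a))
    (hA : IsNoetherianRing A ∧ Ring.KrullDimLE 1 A ∧ Nontrivial A ∧ IsFractionRing A K)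
    (hB : IsNoetherianRing B ∧ Ring.KrullDimLE 1 B ∧ Nontrivial B ∧ IsFractionRing B L) (g : K) :
    CycAlg.ordFrac B L (φ g) = CycAlg.ordFrac A K g *
      ((Module.length B (B ⧸ Ideal.map ψ (maximalIdeal A))).toNat : ℤ) := by
  haveI := hA.2.2.2
  haveI := hB.2.2.2
  haveI : IsDomain A := (FaithfulSMul.algebraMap_injective A K).isDomain
  haveI : IsDomain B := (FaithfulSMul.algebraMap_injective B L).isDomain
  obtain ⟨a, b, hb, rfl⟩ := IsFractionRing.div_surjective (A := A) g
  by_cases ha0 : a = 0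
  · subst ha0
    simp only [map_zero, zero_div, ordFrac_zero, zero_mul]
  · have ha : a ∈ nonZeroDivisors A := mem_nonZeroDivisors_of_ne_zero ha0
    have hne : ∀ c : A, c ≠ 0 → ψ c ≠ 0 := by
      intro c hc h
      have h1 := hcomm c
      rw [h, map_zero] at h1
      have h2 : algebraMap A K c = 0 := φ.injective (by rw [h1, map_zero])
      exact hc ((FaithfulSMul.algebraMap_injective A K) (by rw [h2, map_zero]))
    have hψa : ψ a ∈ nonZeroDivisors B := mem_nonZeroDivisors_of_ne_zero (hne a ha0)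
    have hψb : ψ b ∈ nonZeroDivisors B :=
      mem_nonZeroDivisors_of_ne_zero (hne b (nonZeroDivisors.ne_zero hb))
    rw [map_div₀, hcomm, hcomm, ordFrac_div hB _ _ hψa hψb, ordFrac_div hA _ _ ha hb,
      ord_flat ψ hψ, ord_flat ψ hψ, ENat.toNat_mul, ENat.toNat_mul]
    push_cast
    ring

end Flat

end Groth.Agent.Lib.Helper22.OrdFlat
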