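import Mathlib
import Groth.Prelude.Def_Cyc
import Groth.Agent.S6477
import Groth.Agent.S6462
import Groth.Agent.Lib.Helper91.GenPrime2
import Groth.Agent.Lib.Helper22.OrdFlat
import Groth.Agent.Lib.Helper22.FlatDivAlg

/-!
helper22: flat pullback of a principal divisor, pointwise formula (general, base-free version).
-/

set_option autoImplicit false
universe u
open CategoryTheory AlgebraicGeometry IsLocalRing
open Cyc

namespace Groth.Agent.Lib.Helper22.FlatDiv

open Groth.Agent.S6479 (MaxFib key_fib exists_max_gen dim_iff)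
open Groth.Agent.S6477 (dim_le)
open Groth.Agent.S6459 (pt pt_specializes_iff pt_injective pt_closedPoint exists_pt_eq pt_specializes)
open Groth.Agent.S6462 (pt_ker_specMap ker_specMap_isPrime dim_locQuot)
open Groth.Agent.Lib.Helper91.GenPrime (primeOf isLocalization_stalkSpecializes)
open Groth.Agent.Lib.Helper22.OrdFlat Groth.Agent.Lib.Helper22.FlatDivAlg

section basic
variable {X : Scheme.{u}}

lemma locQuot_inj (x ξ : X) (h : ξ ⤳ x) :
    Function.Injective (algebraMap (Cyc.LocQuot x ξ h) (X.residueField ξ)) := by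
  show Function.Injective (Ideal.Quotient.lift (RingHom.ker (specMap x ξ h)) (specMap x ξ h) _)
  exact RingHom.lift_injective_of_ker_le_ideal _ _ le_rfl

lemma locQuot_algebraMap_mk (x ξ : X) (h : ξ ⤳ x) (a : X.presheaf.stalk x) :
    algebraMap (Cyc.LocQuot x ξ h) (X.residueField ξ) (Ideal.Quotient.mk _ a) = specMap x ξ h a :=
  rfl

lemma ker_specMap_eq_primeOf (x ξ : X) (h : ξ ⤳ x) :
    RingHom.ker (specMap x ξ h) = primeOf h := by
  ext a
  unfold primeOf
  rw [RingHom.mem_ker, Ideal.mem_comap, ← IsLocalRing.residue_eq_zero_iff]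
  rfl

/-- `κ(ξ)` is the fraction field of `O_x / p_ξ`. -/
lemma locQuot_isFractionRing (x ξ : X) (h : ξ ⤳ x) :
    IsFractionRing (Cyc.LocQuot x ξ h) (X.residueField ξ) := by
  haveI : FaithfulSMul (Cyc.LocQuot x ξ h) (X.residueField ξ) :=
    (faithfulSMul_iff_algebraMap_injective _ _).mpr (locQuot_inj x ξ h)
  refine IsFractionRing.of_field _ _ (fun z => ?_)
  obtain ⟨w, rfl⟩ := X.residue_surjective ξ z
  letI := (X.presheaf.stalkSpecializes h).hom.toAlgebra
  haveI := isLocalization_stalkSpecializes h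
  obtain ⟨⟨a, t⟩, hw⟩ := IsLocalization.surj (primeOf h).primeCompl w
  have hw' : w * (X.presheaf.stalkSpecializes h).hom t.1 = (X.presheaf.stalkSpecializes h).hom a :=
    hw
  refine ⟨Ideal.Quotient.mk _ a, Ideal.Quotient.mk _ t.1, ?_⟩
  rw [locQuot_algebraMap_mk, locQuot_algebraMap_mk]
  have ht : specMap x ξ h t.1 ≠ 0 := by
    intro h0
    have : t.1 ∈ RingHom.ker (specMap x ξ h) := h0
    rw [ker_specMap_eq_primeOf] at this
    exact t.2 this
  rw [eq_div_iff ht]
  show (X.residue ξ).hom w * (X.residue ξ).hom ((X.presheaf.stalkSpecializes h).hom t.1) =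
    (X.residue ξ).hom ((X.presheaf.stalkSpecializes h).hom a)
  rw [← map_mul, hw']

end basic

section maps
variable {X' X : Scheme.{u}} (p : X' ⟶ X)

lemma spec_compat (x ξ : X') (h : ξ ⤳ x) (a : X.presheaf.stalk (p x)) :
    specMap x ξ h ((p.stalkMap x).hom a) =
      (p.residueFieldMap ξ).hom (specMap (p x) (p ξ) (p.base.hom.map_specializes h) a) := by
  have e1 := Scheme.Hom.stalkSpecializes_stalkMap p ξ x h
  have e2 := Scheme.residue_residueFieldMap p ξ
  have : (p.stalkMap x ≫ X'.presheaf.stalkSpecializes h) ≫ X'.residue ξ =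
      (X.presheaf.stalkSpecializes (p.base.hom.map_specializes h) ≫ X.residue (p ξ)) ≫
        p.residueFieldMap ξ := by
    rw [← e1, Category.assoc, ← e2, Category.assoc]
  exact congrArg (fun φ => φ.hom a) this

/-- compatibility with the transported function. -/
lemma g_compat (x' ξ' : X') (h' : ξ' ⤳ x') (ξ : X) (hξ' : p ξ' = ξ) (hξx : ξ ⤳ p x')
    (a : X.presheaf.stalk (p x')) :
    (p.residueFieldMap ξ').hom ((X.residueFieldCongr hξ'.symm).hom (specMap (p x') ξ hξx a)) =
      specMap x' ξ' h' ((p.stalkMap x').hom a) := by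
  subst hξ'
  rw [spec_compat]
  rfl

lemma pt_map (x' : X') (q : PrimeSpectrum (X'.presheaf.stalk x')) :
    p (pt x' q) = pt (p x') (PrimeSpectrum.comap (p.stalkMap x').hom q) := by
  unfold pt
  have : p (X'.fromSpecStalk x' q) =
      X.fromSpecStalk (p x') (Spec.map (p.stalkMap x') q) := by
    rw [← Scheme.Hom.comp_apply, ← Scheme.Hom.comp_apply, Scheme.SpecMap_stalkMap_fromSpecStalk]
  exact this

/-- `P A ≤ q` iff `ξ ⤳ p (pt q)`. -/
lemma supp_iff (x' : X') (ξ : X) (hξx : ξ ⤳ p x') (q : PrimeSpectrum (X'.presheaf.stalk x')) :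
    Ideal.map (p.stalkMap x').hom (RingHom.ker (specMap (p x') ξ hξx)) ≤ q.asIdeal ↔
      ξ ⤳ p (pt x' q) := by
  rw [pt_map, Ideal.map_le_iff_le_comap]
  conv_rhs => rw [← pt_ker_specMap (p x') ξ hξx]
  rw [pt_specializes_iff]
  rfl

end maps

section fib
variable {X' X : Scheme.{u}} (p : X' ⟶ X)

lemma asIdeal_eq_ker (x' : X') (q : PrimeSpectrum (X'.presheaf.stalk x')) (ξ' : X')
    (h' : ξ' ⤳ x') (hq : pt x' q = ξ') : q.asIdeal = RingHom.ker (specMap x' ξ' h') := by
  have := pt_ker_specMap x' ξ' h'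
  have h2 := pt_injective x' (this.trans hq.symm)
  exact (congrArg PrimeSpectrum.asIdeal h2).symm

lemma pt_eq_self_iff (x' : X') (q : PrimeSpectrum (X'.presheaf.stalk x')) :
    pt x' q = x' ↔ q.asIdeal = maximalIdeal (X'.presheaf.stalk x') := by
  constructor
  · intro h
    have := pt_injective x' (h.trans (pt_closedPoint x').symm)
    rw [this]; rfl
  · intro h
    have : q = closedPoint (X'.presheaf.stalk x') := PrimeSpectrum.ext h
    rw [this, pt_closedPoint]

/-- the fibre multiplicity at a point which is generic in its fibre is finite. -/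
lemma len_fib_finite [IsLocallyNoetherian X'] (z : X') (hz : MaxFib p z) :
    Module.length (X'.presheaf.stalk z) (X'.presheaf.stalk z ⧸
      Ideal.map (p.stalkMap z).hom (maximalIdeal (X.presheaf.stalk (p z)))) ≠ ⊤ := by
  set I := Ideal.map (p.stalkMap z).hom (maximalIdeal (X.presheaf.stalk (p z))) with hI
  have hIle : I ≤ maximalIdeal (X'.presheaf.stalk z) :=
    ((local_hom_TFAE (p.stalkMap z).hom).out 0 2).mp
      (inferInstance : IsLocalHom (p.stalkMap z).hom)
  haveI : Nontrivial (X'.presheaf.stalk z ⧸ I) := by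
    rw [Ideal.Quotient.nontrivial_iff]
    intro h
    rw [h] at hIle
    exact (maximalIdeal.isMaximal _).ne_top (top_le_iff.mp hIle)
  haveI : IsNoetherianRing (X'.presheaf.stalk z) := inferInstance
  haveI : Ring.KrullDimLE 0 (X'.presheaf.stalk z ⧸ I) := by
    rw [Ring.krullDimLE_zero_iff]
    intro Q hQ
    have hqp : (Ideal.comap (Ideal.Quotient.mk I) Q).IsPrime := inferInstance
    let q : PrimeSpectrum (X'.presheaf.stalk z) := ⟨Ideal.comap (Ideal.Quotient.mk I) Q, hqp⟩
    have hIq : I ≤ q.asIdeal := by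
      intro a ha
      show Ideal.Quotient.mk I a ∈ Q
      rw [Ideal.Quotient.eq_zero_iff_mem.mpr ha]
      exact Q.zero_mem
    have h1 : p (pt z q) = p z := (key_fib p z q).mp hIq
    have h2 : pt z q = z := hz _ h1 (pt_specializes z q)
    have h3 : q.asIdeal = maximalIdeal (X'.presheaf.stalk z) := (pt_eq_self_iff z q).mp h2
    have h4 : Q = Ideal.map (Ideal.Quotient.mk I) (maximalIdeal (X'.presheaf.stalk z)) := by
      rw [← h3]
      exact (Ideal.map_comap_of_surjective _ Ideal.Quotient.mk_surjective Q).symm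
    rcases Ideal.map_eq_top_or_isMaximal_of_surjective (Ideal.Quotient.mk I)
      Ideal.Quotient.mk_surjective (maximalIdeal.isMaximal (X'.presheaf.stalk z)) with h5 | h5
    · exact absurd (h4.trans h5) hQ.ne_top
    · rw [h4]; exact h5
  haveI : IsArtinianRing (X'.presheaf.stalk z ⧸ I) :=
    IsNoetherianRing.isArtinianRing_of_krullDimLE_zero
  have h1 : Module.length (X'.presheaf.stalk z) (X'.presheaf.stalk z ⧸ I) =
      Module.length (X'.presheaf.stalk z ⧸ I) (X'.presheaf.stalk z ⧸ I) :=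
    Module.length_eq_of_surjective (S := X'.presheaf.stalk z) (R := X'.presheaf.stalk z ⧸ I)
      Ideal.Quotient.mk_surjective
  rw [h1, Module.length_ne_top_iff, isFiniteLength_iff_isNoetherian_isArtinian]
  exact ⟨inferInstance, inferInstance⟩

end fib

section core
variable {X' X : Scheme.{u}} (p : X' ⟶ X) (δ : X → ℤ) (δ' : X' → ℤ)

/-- the fibre multiplicity used by `Cyc.pullFun`. -/
noncomputable abbrev fibLen (z : X') : ℕ∞ :=
  Module.length (X'.presheaf.stalk z) (X'.presheaf.stalk z ⧸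
    Ideal.map (p.stalkMap z).hom (maximalIdeal (X.presheaf.stalk (p z))))

variable (hδ : Cyc.IsDimFun X δ) (hδ' : Cyc.IsDimFun X' δ') (c : ℤ)
  (hc : ∀ x' : X', MaxFib p x' → δ' x' = δ (p x') + c)
  (x' : X') (hx' : MaxFib p x') (ξ : X) (hξx : ξ ⤳ p x') (hdim : δ (p x') + 1 = δ ξ)

include hδ hδ' hc hx' hdim in
lemma Q_props (q : PrimeSpectrum (X'.presheaf.stalk x'))
    (hq1 : Ideal.map (p.stalkMap x').hom (RingHom.ker (specMap (p x') ξ hξx)) ≤ q.asIdeal)
    (hq2 : q.asIdeal ≠ maximalIdeal (X'.presheaf.stalk x')) :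
    MaxFib p (pt x' q) ∧ p (pt x' q) = ξ := by
  have h1 : ξ ⤳ p (pt x' q) := (supp_iff p x' ξ hξx q).mp hq1
  have h2 : pt x' q ⤳ x' := pt_specializes x' q
  have h3 : pt x' q ≠ x' := fun h => hq2 ((pt_eq_self_iff x' q).mp h)
  have h4 := (hδ' _ _ h2 h3).1
  have h5 := dim_le p δ δ' hδ' c hc (pt x' q)
  have h6 := Groth.Agent.S6459.delta_le δ hδ h1
  have h7 := hc x' hx'
  have h8 : δ' (pt x' q) = δ (p (pt x' q)) + c := by omega
  refine ⟨(dim_iff p δ δ' hδ' c hc _).mp h8, ?_⟩
  by_contra hne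
  have := (hδ ξ _ h1 (Ne.symm hne)).1
  omega

include hdim in
lemma Q_of_pt (ξ' : X') (h' : ξ' ⤳ x') (hξ' : p ξ' = ξ)
    (q : PrimeSpectrum (X'.presheaf.stalk x')) (hq : pt x' q = ξ') :
    Ideal.map (p.stalkMap x').hom (RingHom.ker (specMap (p x') ξ hξx)) ≤ q.asIdeal ∧
      q.asIdeal ≠ maximalIdeal (X'.presheaf.stalk x') := by
  constructor
  · rw [supp_iff, hq, hξ']
  · intro h
    have h1 : ξ' = x' := hq.symm.trans ((pt_eq_self_iff x' q).mpr h)
    rw [h1] at hξ'
    rw [hξ'] at hdim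
    omega

include hδ hδ' hc hx' hdim in
lemma hd1 : Module.supportDim (X'.presheaf.stalk x') (X'.presheaf.stalk x' ⧸
    Ideal.map (p.stalkMap x').hom (RingHom.ker (specMap (p x') ξ hξx))) ≤ 1 := by
  unfold Module.supportDim
  rw [Order.krullDim_le_one_iff]
  rintro ⟨q, hq⟩
  rw [Module.support_eq_zeroLocus, Ideal.annihilator_quotient, PrimeSpectrum.mem_zeroLocus] at hq
  by_cases hm : q.asIdeal = maximalIdeal (X'.presheaf.stalk x')
  · right
    rintro ⟨q', hq'⟩ hle
    show q' ≤ q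
    have : q'.asIdeal ≤ q.asIdeal := by
      rw [hm]; exact IsLocalRing.le_maximalIdeal q'.2.ne_top
    exact this
  · left
    rintro ⟨q', hq'⟩ hle
    rw [Module.support_eq_zeroLocus, Ideal.annihilator_quotient,
      PrimeSpectrum.mem_zeroLocus] at hq'
    have hle' : q' ≤ q := hle
    show q ≤ q'
    have hm' : q'.asIdeal ≠ maximalIdeal (X'.presheaf.stalk x') := by
      intro h
      apply hm
      apply le_antisymm (IsLocalRing.le_maximalIdeal q.2.ne_top)
      rw [← h]; exact hle'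
    obtain ⟨m1, e1⟩ := Q_props p δ δ' hδ hδ' c hc x' hx' ξ hξx hdim q hq hm
    obtain ⟨m2, e2⟩ := Q_props p δ δ' hδ hδ' c hc x' hx' ξ hξx hdim q' hq' hm'
    have hsp : pt x' q' ⤳ pt x' q := (pt_specializes_iff x' q' q).mpr hle'
    have := m1 (pt x' q') (e2.trans e1.symm) hsp
    rw [pt_injective x' this]

include hδ hδ' hc hx' hdim in
lemma hd0 (a : X.presheaf.stalk (p x')) (ha : a ∉ RingHom.ker (specMap (p x') ξ hξx))
    (q : PrimeSpectrum (X'.presheaf.stalk x'))
    (hq1 : Ideal.map (p.stalkMap x').hom (RingHom.ker (specMap (p x') ξ hξx)) ≤ q.asIdeal)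
    (hq2 : (p.stalkMap x').hom a ∈ q.asIdeal) : q = closedPoint (X'.presheaf.stalk x') := by
  by_contra hne
  have hm : q.asIdeal ≠ maximalIdeal (X'.presheaf.stalk x') := by
    intro h; exact hne (PrimeSpectrum.ext h)
  obtain ⟨-, e1⟩ := Q_props p δ δ' hδ hδ' c hc x' hx' ξ hξx hdim q hq1 hm
  have h' : pt x' q ⤳ x' := pt_specializes x' q
  rw [asIdeal_eq_ker x' q (pt x' q) h' rfl, RingHom.mem_ker, ← g_compat p x' (pt x' q) h' ξ e1 hξx,
    map_eq_zero, map_eq_zero] at hq2
  exact ha hq2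

end core

section loc
variable {X' X : Scheme.{u}} (p : X' ⟶ X)

lemma len_loc_eq (x' ξ' : X') (h' : ξ' ⤳ x') (ξ : X) (hξ' : p ξ' = ξ) (hξx : ξ ⤳ p x')
    (𝔮 : Ideal (X'.presheaf.stalk x')) [h𝔮p : 𝔮.IsPrime]
    (h𝔮 : 𝔮 = RingHom.ker (specMap x' ξ' h')) :
    Module.length (Localization.AtPrime 𝔮) (LocalizedModule 𝔮.primeCompl
      (X'.presheaf.stalk x' ⧸
        Ideal.map (p.stalkMap x').hom (RingHom.ker (specMap (p x') ξ hξx)))) = fibLen p ξ' := by
  subst hξ'
  rw [ker_specMap_eq_primeOf] at h𝔮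
  subst h𝔮
  letI alg := (X'.presheaf.stalkSpecializes h').hom.toAlgebra
  haveI := isLocalization_stalkSpecializes h'
  rw [len_loc_quot (primeOf h') _ (X'.presheaf.stalk ξ')]
  have hnat : (X'.presheaf.stalkSpecializes h').hom.comp (p.stalkMap x').hom =
      (p.stalkMap ξ').hom.comp (X.presheaf.stalkSpecializes hξx).hom := by
    have := Scheme.Hom.stalkSpecializes_stalkMap p ξ' x' h'
    ext a
    exact (congrArg (fun φ => φ.hom a) this).symm
  have hmax : Ideal.map (X.presheaf.stalkSpecializes hξx).hom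
      (RingHom.ker (specMap (p x') (p ξ') hξx)) = maximalIdeal (X.presheaf.stalk (p ξ')) := by
    rw [ker_specMap_eq_primeOf]
    letI := (X.presheaf.stalkSpecializes hξx).hom.toAlgebra
    haveI := isLocalization_stalkSpecializes hξx
    exact IsLocalization.AtPrime.map_eq_maximalIdeal (primeOf hξx) (X.presheaf.stalk (p ξ'))
  have : Ideal.map (algebraMap (X'.presheaf.stalk x') (X'.presheaf.stalk ξ'))
      (Ideal.map (p.stalkMap x').hom (RingHom.ker (specMap (p x') (p ξ') hξx))) =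
      Ideal.map (p.stalkMap ξ').hom (maximalIdeal (X.presheaf.stalk (p ξ'))) := by
    rw [Ideal.map_map]
    show Ideal.map ((X'.presheaf.stalkSpecializes h').hom.comp (p.stalkMap x').hom) _ = _
    rw [hnat, ← Ideal.map_map, hmax]
  rw [this]

end loc

lemma toNat_finset_sum {ι : Type*} (s : Finset ι) (f : ι → ℕ∞) (h : ∀ i ∈ s, f i ≠ ⊤) :
    (∑ i ∈ s, f i).toNat = ∑ i ∈ s, (f i).toNat := by
  have : ∑ i ∈ s, f i = ((∑ i ∈ s, (f i).toNat : ℕ) : ℕ∞) := by
    rw [Nat.cast_sum]
    exact Finset.sum_congr rfl (fun i hi => (ENat.coe_toNat (h i hi)).symm)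
  rw [this, ENat.toNat_coe]

section core2
variable {X' X : Scheme.{u}} (p : X' ⟶ X) [Flat p] [IsLocallyNoetherian X]
  [IsLocallyNoetherian X'] (δ : X → ℤ) (δ' : X' → ℤ)
  (hδ : Cyc.IsDimFun X δ) (hδ' : Cyc.IsDimFun X' δ') (c : ℤ)
  (hc : ∀ x' : X', MaxFib p x' → δ' x' = δ (p x') + c)
  (x' : X') (hx' : MaxFib p x') (ξ : X) (hξx : ξ ⤳ p x') (hdim : δ (p x') + 1 = δ ξ)

/-- the index type: primes of `O_{x'}` containing `p_ξ O_{x'}`, other than the maximal ideal. -/
abbrev QIdx : Type u :=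
  {q : PrimeSpectrum (X'.presheaf.stalk x') //
    Ideal.map (p.stalkMap x').hom (RingHom.ker (specMap (p x') ξ hξx)) ≤ q.asIdeal ∧
      q.asIdeal ≠ maximalIdeal (X'.presheaf.stalk x')}

include hδ hδ' hc hx' hdim in
lemma Q_min (q : QIdx p x' ξ hξx) (q' : PrimeSpectrum (X'.presheaf.stalk x'))
    (hq' : Ideal.map (p.stalkMap x').hom (RingHom.ker (specMap (p x') ξ hξx)) ≤ q'.asIdeal)
    (hle : q' ≤ q.1) : q' = q.1 := by
  have hm' : q'.asIdeal ≠ maximalIdeal (X'.presheaf.stalk x') := by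
    intro h
    apply q.2.2
    apply le_antisymm (IsLocalRing.le_maximalIdeal q.1.2.ne_top)
    have hle2 : q'.asIdeal ≤ q.1.asIdeal := hle
    exact le_of_eq_of_le h.symm hle2
  obtain ⟨m1, e1⟩ := Q_props p δ δ' hδ hδ' c hc x' hx' ξ hξx hdim q.1 q.2.1 q.2.2
  obtain ⟨m2, e2⟩ := Q_props p δ δ' hδ hδ' c hc x' hx' ξ hξx hdim q' hq' hm'
  have hsp : pt x' q' ⤳ pt x' q.1 := (pt_specializes_iff x' q' q.1).mpr hle
  exact pt_injective x' (m1 (pt x' q') (e2.trans e1.symm) hsp)

include hδ hδ' hc hx' hdim in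
lemma Q_finite : Finite (QIdx p x' ξ hξx) := by
  haveI : IsNoetherianRing (X'.presheaf.stalk x') := inferInstance
  have hfin := Ideal.finite_minimalPrimes_of_isNoetherianRing (X'.presheaf.stalk x')
    (Ideal.map (p.stalkMap x').hom (RingHom.ker (specMap (p x') ξ hξx)))
  haveI := hfin.to_subtype
  let g : QIdx p x' ξ hξx → (Ideal.map (p.stalkMap x').hom
      (RingHom.ker (specMap (p x') ξ hξx))).minimalPrimes := fun q =>
    ⟨q.1.asIdeal, ⟨q.1.2, q.2.1⟩, fun J hJ hle => by
      have := Q_min p δ δ' hδ hδ' c hc x' hx' ξ hξx hdim q ⟨J, hJ.1⟩ hJ.2 hle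
      exact (congrArg PrimeSpectrum.asIdeal this).ge⟩
  apply Finite.of_injective g
  intro q q' h
  apply Subtype.ext
  apply PrimeSpectrum.ext
  exact congrArg Subtype.val h

include hδ hδ' hc hx' hdim in
theorem core_int (a : X.presheaf.stalk (p x'))
    (ha : a ∉ RingHom.ker (specMap (p x') ξ hξx)) :
    ((Ring.ord (LocQuot (p x') ξ hξx) (Ideal.Quotient.mk _ a)).toNat : ℤ) *
        ((fibLen p x').toNat : ℤ) =
      ∑ᶠ q : QIdx p x' ξ hξx,
        ((Ring.ord (X'.presheaf.stalk x' ⧸ q.1.asIdeal)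
          (Ideal.Quotient.mk _ ((p.stalkMap x').hom a))).toNat : ℤ) *
          ((fibLen p (pt x' q.1)).toNat : ℤ) := by
  classical
  haveI : IsNoetherianRing (X'.presheaf.stalk x') := inferInstance
  haveI : IsNoetherianRing (X.presheaf.stalk (p x')) := inferInstance
  haveI : (RingHom.ker (specMap (p x') ξ hξx)).IsPrime := ker_specMap_isPrime _ _ _
  have hcore := core (p.stalkMap x').hom (Flat.stalkMap p x') (RingHom.ker (specMap (p x') ξ hξx))
    a ha (hd1 p δ δ' hδ hδ' c hc x' hx' ξ hξx hdim)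
    (hd0 p δ δ' hδ hδ' c hc x' hx' ξ hξx hdim a ha)
  rw [← finsum_subtype_eq_finsum_cond] at hcore
  haveI := Q_finite p δ δ' hδ hδ' c hc x' hx' ξ hξx hdim
  haveI : Fintype (QIdx p x' ξ hξx) := Fintype.ofFinite _
  rw [finsum_eq_sum_of_fintype] at hcore ⊢
  -- rewrite the lengths
  have hlen : ∀ q : QIdx p x' ξ hξx,
      Module.length (Localization.AtPrime q.1.asIdeal) (LocalizedModule q.1.asIdeal.primeCompl
        (X'.presheaf.stalk x' ⧸
          Ideal.map (p.stalkMap x').hom (RingHom.ker (specMap (p x') ξ hξx)))) =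
        fibLen p (pt x' q.1) := by
    intro q
    obtain ⟨-, e1⟩ := Q_props p δ δ' hδ hδ' c hc x' hx' ξ hξx hdim q.1 q.2.1 q.2.2
    exact len_loc_eq p x' (pt x' q.1) (pt_specializes x' q.1) ξ e1 hξx q.1.asIdeal
      (asIdeal_eq_ker x' q.1 _ _ rfl)
  simp only [hlen] at hcore
  -- finiteness of the terms
  have hfin : ∀ q : QIdx p x' ξ hξx,
      Ring.ord (X'.presheaf.stalk x' ⧸ q.1.asIdeal)
        (Ideal.Quotient.mk _ ((p.stalkMap x').hom a)) * fibLen p (pt x' q.1) ≠ ⊤ := by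
    intro q
    obtain ⟨m1, e1⟩ := Q_props p δ δ' hδ hδ' c hc x' hx' ξ hξx hdim q.1 q.2.1 q.2.2
    have h' : pt x' q.1 ⤳ x' := pt_specializes x' q.1
    have hker := asIdeal_eq_ker x' q.1 (pt x' q.1) h' rfl
    have hdimq : Ring.KrullDimLE 1 (X'.presheaf.stalk x' ⧸ q.1.asIdeal) := by
      rw [hker, Ring.krullDimLE_iff, dim_locQuot δ' hδ' (pt x' q.1) x' h']
      have h7 := hc x' hx'
      have h8 := hc _ m1
      rw [e1] at h8
      have : (δ' (pt x' q.1) - δ' x').toNat = 1 := by omega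
      rw [this]
    haveI := hdimq
    have hnz : Ideal.Quotient.mk q.1.asIdeal ((p.stalkMap x').hom a) ∈
        nonZeroDivisors (X'.presheaf.stalk x' ⧸ q.1.asIdeal) := by
      apply mem_nonZeroDivisors_of_ne_zero
      rw [Ne, Ideal.Quotient.eq_zero_iff_mem]
      intro hmem
      have := hd0 p δ δ' hδ hδ' c hc x' hx' ξ hξx hdim a ha q.1 q.2.1 hmem
      exact q.2.2 (by rw [this]; rfl)
    exact WithTop.mul_ne_top (Ring.ord_ne_top hnz) (len_fib_finite p _ m1)
  have h1 := congrArg ENat.toNat hcore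
  rw [ENat.toNat_mul, toNat_finset_sum _ _ (fun q _ => hfin q)] at h1
  simp only [ENat.toNat_mul] at h1
  have h2 := congrArg (fun n : ℕ => (n : ℤ)) h1
  simp only [Nat.cast_mul, Nat.cast_sum] at h2
  exact h2

end core2

lemma ord_congr_ideal {A : Type u} [CommRing A] (I J : Ideal A) (h : I = J) (a : A) :
    Ring.ord (A ⧸ I) (Ideal.Quotient.mk I a) = Ring.ord (A ⧸ J) (Ideal.Quotient.mk J a) := by
  subst h; rfl

lemma locQuot_conds {X : Scheme.{u}} [IsLocallyNoetherian X] (δ : X → ℤ) (hδ : Cyc.IsDimFun X δ)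
    (x ξ : X) (h : ξ ⤳ x) (hd : δ x + 1 = δ ξ) :
    IsNoetherianRing (LocQuot x ξ h) ∧ Ring.KrullDimLE 1 (LocQuot x ξ h) ∧
      Nontrivial (LocQuot x ξ h) ∧ IsFractionRing (LocQuot x ξ h) (X.residueField ξ) := by
  haveI : IsNoetherianRing (X.presheaf.stalk x) := inferInstance
  refine ⟨inferInstance, ?_, Ideal.Quotient.nontrivial_iff.mpr (RingHom.ker_ne_top _),
    locQuot_isFractionRing x ξ h⟩
  rw [Ring.krullDimLE_iff, dim_locQuot δ hδ ξ x h]
  have : (δ ξ - δ x).toNat = 1 := by omega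
  rw [this]

section core3
variable {X' X : Scheme.{u}} (p : X' ⟶ X) [Flat p] [IsLocallyNoetherian X]
  [IsLocallyNoetherian X'] (δ : X → ℤ) (δ' : X' → ℤ)
  (hδ : Cyc.IsDimFun X δ) (hδ' : Cyc.IsDimFun X' δ') (c : ℤ)
  (hc : ∀ x' : X', MaxFib p x' → δ' x' = δ (p x') + c)
  (x' : X') (hx' : MaxFib p x') (ξ : X) (hξx : ξ ⤳ p x') (hdim : δ (p x') + 1 = δ ξ)

/-- the transported rational function on a point over `ξ`. -/
noncomputable abbrev gUp (ξ' : X') (hξ' : p ξ' = ξ) (g : X.residueField ξ) : X'.residueField ξ' :=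
  (p.residueFieldMap ξ').hom ((X.residueFieldCongr hξ'.symm).hom g)

include hδ hδ' hc hx' hdim in
/-- the value of the summand at the point attached to a prime in `QIdx`, for `g = a / b`. -/
lemma term_eq (q : QIdx p x' ξ hξx) (a b : X.presheaf.stalk (p x'))
    (ha : a ∉ RingHom.ker (specMap (p x') ξ hξx)) (hb : b ∉ RingHom.ker (specMap (p x') ξ hξx))
    (hξ' : p (pt x' q.1) = ξ) :
    divFun δ' (pt x' q.1) (gUp p ξ (pt x' q.1) hξ'
        (specMap (p x') ξ hξx a / specMap (p x') ξ hξx b)) x' =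
      ((Ring.ord (X'.presheaf.stalk x' ⧸ q.1.asIdeal)
          (Ideal.Quotient.mk _ ((p.stalkMap x').hom a))).toNat : ℤ) -
        ((Ring.ord (X'.presheaf.stalk x' ⧸ q.1.asIdeal)
          (Ideal.Quotient.mk _ ((p.stalkMap x').hom b))).toNat : ℤ) := by
  obtain ⟨m1, e1⟩ := Q_props p δ δ' hδ hδ' c hc x' hx' ξ hξx hdim q.1 q.2.1 q.2.2
  have h' : pt x' q.1 ⤳ x' := pt_specializes x' q.1
  have hker := asIdeal_eq_ker x' q.1 (pt x' q.1) h' rfl
  have hd' : δ' x' + 1 = δ' (pt x' q.1) := by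
    have h7 := hc x' hx'
    have h8 := hc _ m1
    rw [e1] at h8
    omega
  have hB := locQuot_conds δ' hδ' x' (pt x' q.1) h' hd'
  unfold divFun
  rw [dif_pos ⟨h', hd'⟩]
  unfold ordAt gUp
  rw [map_div₀, map_div₀, g_compat p x' (pt x' q.1) h' ξ hξ' hξx a,
    g_compat p x' (pt x' q.1) h' ξ hξ' hξx b]
  have hne : ∀ t : X.presheaf.stalk (p x'), t ∉ RingHom.ker (specMap (p x') ξ hξx) →
      (Ideal.Quotient.mk (RingHom.ker (specMap x' (pt x' q.1) h')) ((p.stalkMap x').hom t)) ∈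
        nonZeroDivisors (LocQuot x' (pt x' q.1) h') := by
    intro t ht
    haveI : (RingHom.ker (specMap x' (pt x' q.1) h')).IsPrime := ker_specMap_isPrime _ _ _
    haveI : IsDomain (LocQuot x' (pt x' q.1) h') :=
      Ideal.Quotient.isDomain (RingHom.ker (specMap x' (pt x' q.1) h'))
    apply mem_nonZeroDivisors_of_ne_zero
    rw [Ne, Ideal.Quotient.eq_zero_iff_mem, RingHom.mem_ker,
      ← g_compat p x' (pt x' q.1) h' ξ hξ' hξx t, map_eq_zero, map_eq_zero]
    exact ht
  have := ordFrac_div hB _ _ (hne a ha) (hne b hb)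
  rw [locQuot_algebraMap_mk, locQuot_algebraMap_mk] at this
  rw [this, ord_congr_ideal _ _ hker, ord_congr_ideal _ _ hker]

end core3

section core4
variable {X' X : Scheme.{u}} (p : X' ⟶ X) [Flat p] [IsLocallyNoetherian X]
  [IsLocallyNoetherian X'] (δ : X → ℤ) (δ' : X' → ℤ)
  (hδ : Cyc.IsDimFun X δ) (hδ' : Cyc.IsDimFun X' δ') (c : ℤ)
  (hc : ∀ x' : X', MaxFib p x' → δ' x' = δ (p x') + c)
  (x' : X') (hx' : MaxFib p x') (ξ : X) (hξx : ξ ⤳ p x') (hdim : δ (p x') + 1 = δ ξ)

lemma divFun_zero (ξ' : X') (z : X') : divFun δ' ξ' (0 : X'.residueField ξ') z = 0 := by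
  unfold divFun
  split_ifs with h
  · unfold ordAt
    exact ordFrac_zero
  · rfl

include hδ hδ' hc hx' hdim in
theorem flat_div_point (g : X.residueField ξ) :
    ordAt (p x') ξ hξx g * ((fibLen p x').toNat : ℤ) =
      ∑ᶠ ξ' : {ξ' : X' // MaxFib p ξ' ∧ p ξ' = ξ},
        ((fibLen p ξ'.1).toNat : ℤ) * divFun δ' ξ'.1 (gUp p ξ ξ'.1 ξ'.2.2 g) x' := by
  classical
  have hA := locQuot_conds δ hδ (p x') ξ hξx hdim
  haveI := hA.2.2.2
  haveI := hA.2.2.1
  obtain ⟨a0, b0, hb0, rfl⟩ := IsFractionRing.div_surjective (A := LocQuot (p x') ξ hξx) g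
  obtain ⟨a, rfl⟩ := Ideal.Quotient.mk_surjective a0
  obtain ⟨b, rfl⟩ := Ideal.Quotient.mk_surjective b0
  rw [locQuot_algebraMap_mk, locQuot_algebraMap_mk]
  have hb : b ∉ RingHom.ker (specMap (p x') ξ hξx) := by
    intro h
    have := nonZeroDivisors.ne_zero hb0
    exact this (Ideal.Quotient.eq_zero_iff_mem.mpr h)
  by_cases ha : a ∈ RingHom.ker (specMap (p x') ξ hξx)
  · have h0 : specMap (p x') ξ hξx a = 0 := ha
    rw [h0, zero_div]
    unfold ordAt
    rw [ordFrac_zero, zero_mul]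
    symm
    apply finsum_eq_zero_of_forall_eq_zero
    intro ξ'
    unfold gUp
    rw [map_zero, map_zero, divFun_zero, mul_zero]
  · -- the injection of the index types
    let Φ : QIdx p x' ξ hξx → {ξ' : X' // MaxFib p ξ' ∧ p ξ' = ξ} := fun q =>
      ⟨pt x' q.1, Q_props p δ δ' hδ hδ' c hc x' hx' ξ hξx hdim q.1 q.2.1 q.2.2⟩
    have hΦ : Function.Injective Φ := by
      intro q q' h
      apply Subtype.ext
      have h2 : (Φ q).1 = (Φ q').1 := congrArg Subtype.val h
      exact pt_injective x' h2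
    set F : {ξ' : X' // MaxFib p ξ' ∧ p ξ' = ξ} → ℤ := fun ξ' =>
      ((fibLen p ξ'.1).toNat : ℤ) * divFun δ' ξ'.1
        (gUp p ξ ξ'.1 ξ'.2.2 (specMap (p x') ξ hξx a / specMap (p x') ξ hξx b)) x' with hF
    have hsupp : Function.support F ⊆ Set.range Φ := by
      intro ξ' hξ'
      have h1 : divFun δ' ξ'.1
          (gUp p ξ ξ'.1 ξ'.2.2 (specMap (p x') ξ hξx a / specMap (p x') ξ hξx b)) x' ≠ 0 := by
        intro h0
        apply hξ'
        show ((fibLen p ξ'.1).toNat : ℤ) * _ = 0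
        rw [h0, mul_zero]
      have hsp : ξ'.1 ⤳ x' := by
        unfold divFun at h1
        by_contra hns
        rw [dif_neg (fun h => hns h.1)] at h1
        exact h1 rfl
      obtain ⟨q, hq⟩ := exists_pt_eq x' ξ'.1 hsp
      have hQ := Q_of_pt p δ x' ξ hξx hdim ξ'.1 hsp ξ'.2.2 q hq
      exact ⟨⟨q, hQ⟩, Subtype.ext hq⟩
    have stepA : ∑ᶠ ξ', F ξ' = ∑ᶠ q, F (Φ q) := by
      rw [← finsum_mem_range hΦ, finsum_mem_def, Set.indicator_eq_self.mpr hsupp]
    rw [stepA]
    haveI := Q_finite p δ δ' hδ hδ' c hc x' hx' ξ hξx hdim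
    have hterm : ∀ q : QIdx p x' ξ hξx, F (Φ q) =
        ((Ring.ord (X'.presheaf.stalk x' ⧸ q.1.asIdeal)
          (Ideal.Quotient.mk _ ((p.stalkMap x').hom a))).toNat : ℤ) *
            ((fibLen p (pt x' q.1)).toNat : ℤ) -
        ((Ring.ord (X'.presheaf.stalk x' ⧸ q.1.asIdeal)
          (Ideal.Quotient.mk _ ((p.stalkMap x').hom b))).toNat : ℤ) *
            ((fibLen p (pt x' q.1)).toNat : ℤ) := by
      intro q
      show ((fibLen p (pt x' q.1)).toNat : ℤ) * divFun δ' (pt x' q.1) _ x' = _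
      rw [term_eq p δ δ' hδ hδ' c hc x' hx' ξ hξx hdim q a b ha hb]
      ring
    rw [finsum_congr hterm, finsum_sub_distrib (Set.toFinite _) (Set.toFinite _),
      ← core_int p δ δ' hδ hδ' c hc x' hx' ξ hξx hdim a ha,
      ← core_int p δ δ' hδ hδ' c hc x' hx' ξ hξx hdim b hb]
    have hnz : ∀ t : X.presheaf.stalk (p x'), t ∉ RingHom.ker (specMap (p x') ξ hξx) →
        Ideal.Quotient.mk (RingHom.ker (specMap (p x') ξ hξx)) t ∈
          nonZeroDivisors (LocQuot (p x') ξ hξx) := by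
      intro t ht
      haveI : (RingHom.ker (specMap (p x') ξ hξx)).IsPrime := ker_specMap_isPrime _ _ _
      haveI : IsDomain (LocQuot (p x') ξ hξx) :=
        Ideal.Quotient.isDomain (RingHom.ker (specMap (p x') ξ hξx))
      apply mem_nonZeroDivisors_of_ne_zero
      rw [Ne, Ideal.Quotient.eq_zero_iff_mem]
      exact ht
    have := ordFrac_div hA _ _ (hnz a ha) (hnz b hb)
    rw [locQuot_algebraMap_mk, locQuot_algebraMap_mk] at this
    unfold ordAt
    rw [this]
    ring

end core4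

section core5
variable {X' X : Scheme.{u}} (p : X' ⟶ X)

lemma ordFrac_unit' {A : Type u} [CommRing A] {K : Type u} [Field K] [Algebra A K] (a : A)
    (ha : IsUnit a) : CycAlg.ordFrac A K (algebraMap A K a) = 0 := by
  by_cases hA : IsNoetherianRing A ∧ Ring.KrullDimLE 1 A ∧ Nontrivial A ∧ IsFractionRing A K
  · have h1 : algebraMap A K a = algebraMap A K a / algebraMap A K 1 := by
      rw [map_one, div_one]
    have ord_unit : ∀ b : A, IsUnit b → Ring.ord A b = 0 := by
      intro b hb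
      unfold Ring.ord
      rw [Module.length_eq_zero_iff, Ideal.Quotient.subsingleton_iff,
        Ideal.span_singleton_eq_top]
      exact hb
    rw [h1, ordFrac_div hA a 1 ha.mem_nonZeroDivisors (one_mem _), ord_unit a ha,
      ord_unit 1 isUnit_one]
    simp
  · unfold CycAlg.ordFrac
    rw [dif_neg hA]

/-- if `x'` and `ξ'` lie over the same point `ξ`, every function coming from `κ(ξ)` has order `0`
along `ξ' ⤳ x'`. -/
lemma ordAt_same_fibre (x' ξ' : X') (h' : ξ' ⤳ x') (ξ : X) (hξ' : p ξ' = ξ) (hx' : p x' = ξ)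
    (g : X.residueField ξ) : ordAt x' ξ' h' (gUp p ξ ξ' hξ' g) = 0 := by
  by_cases hg : g = 0
  · subst hg
    unfold ordAt gUp
    rw [map_zero, map_zero]
    exact ordFrac_zero
  · have hξx : ξ ⤳ p x' := by rw [hx']
    -- lift g to a unit of the stalk at `p x'`
    obtain ⟨u, hu⟩ : ∃ u : X.presheaf.stalk (p x'), specMap (p x') ξ hξx u = g := by
      subst hx'
      obtain ⟨u, hu⟩ := X.residue_surjective (p x') g
      refine ⟨u, ?_⟩
      show (X.residue (p x')).hom ((X.presheaf.stalkSpecializes hξx).hom u) = g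
      have : (X.presheaf.stalkSpecializes hξx).hom u = u := by
        have h1 := TopCat.Presheaf.stalkSpecializes_refl (F := X.presheaf) (p x')
        have : X.presheaf.stalkSpecializes hξx = 𝟙 _ := h1
        rw [this]; rfl
      rw [this]; exact hu
    have huu : IsUnit u := by
      by_contra hnu
      apply hg
      rw [← hu]
      have : u ∈ maximalIdeal (X.presheaf.stalk (p x')) := hnu
      have h2 : (X.presheaf.stalkSpecializes hξx).hom u ∈ maximalIdeal (X.presheaf.stalk ξ) := by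
        by_contra hcon
        have hunit : IsUnit ((X.presheaf.stalkSpecializes hξx).hom u) := by
          by_contra h3; exact hcon h3
        -- `stalkSpecializes` for `ξ = p x'` is an isomorphism, hence local
        subst hx'
        have h1 := TopCat.Presheaf.stalkSpecializes_refl (F := X.presheaf) (p x')
        have h4 : X.presheaf.stalkSpecializes hξx = 𝟙 _ := h1
        rw [h4] at hunit
        exact hnu hunit
      show (X.residue ξ).hom ((X.presheaf.stalkSpecializes hξx).hom u) = 0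
      exact (IsLocalRing.residue_eq_zero_iff _).mpr h2
    unfold ordAt
    rw [← hu]
    unfold gUp
    rw [g_compat p x' ξ' h' ξ hξ' hξx u, ← locQuot_algebraMap_mk]
    exact ordFrac_unit' _ ((huu.map (p.stalkMap x').hom).map _)

variable [Flat p] [IsLocallyNoetherian X] [IsLocallyNoetherian X'] (δ : X → ℤ) (δ' : X' → ℤ)
  (hδ : Cyc.IsDimFun X δ) (hδ' : Cyc.IsDimFun X' δ') (c : ℤ)
  (hc : ∀ x' : X', MaxFib p x' → δ' x' = δ (p x') + c)

include hδ hδ' hc in
/-- **Flat pullback of a principal divisor**, pointwise and base-free. -/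
theorem pull_div_point (ξ : X) (g : X.residueField ξ) (x' : X') :
    Cyc.pullFun p δ' δ c (Cyc.divFun δ ξ g) x' =
      ∑ᶠ ξ' : {ξ' : X' // MaxFib p ξ' ∧ p ξ' = ξ},
        ((fibLen p ξ'.1).toNat : ℤ) * divFun δ' ξ'.1 (gUp p ξ ξ'.1 ξ'.2.2 g) x' := by
  have hiff := dim_iff p δ δ' hδ' c hc
  have hle := dim_le p δ δ' hδ' c hc
  unfold Cyc.pullFun
  by_cases c1 : δ' x' = δ (p x') + c
  · rw [if_pos c1]
    have hx' : MaxFib p x' := (hiff x').mp c1
    by_cases c2 : ξ ⤳ p x' ∧ δ (p x') + 1 = δ ξ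
    · have := flat_div_point p δ δ' hδ hδ' c hc x' hx' ξ c2.1 c2.2 g
      rw [← this]
      unfold Cyc.divFun
      rw [dif_pos c2]
    · have h0 : Cyc.divFun δ ξ g (p x') = 0 := by
        unfold Cyc.divFun; rw [dif_neg c2]
      rw [h0, zero_mul]
      symm
      apply finsum_eq_zero_of_forall_eq_zero
      intro ξ'
      have : divFun δ' ξ'.1 (gUp p ξ ξ'.1 ξ'.2.2 g) x' = 0 := by
        unfold divFun
        rw [dif_neg]
        rintro ⟨h1, h2⟩
        apply c2
        have h3 := hc _ ξ'.2.1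
        rw [ξ'.2.2] at h3
        refine ⟨?_, by omega⟩
        have := p.base.hom.map_specializes h1
        rw [← ξ'.2.2]; exact this
      rw [this, mul_zero]
  · rw [if_neg c1]
    symm
    apply finsum_eq_zero_of_forall_eq_zero
    intro ξ'
    have : divFun δ' ξ'.1 (gUp p ξ ξ'.1 ξ'.2.2 g) x' = 0 := by
      unfold divFun
      by_cases c3 : ξ'.1 ⤳ x' ∧ δ' x' + 1 = δ' ξ'.1
      · rw [dif_pos c3]
        have h3 := hc _ ξ'.2.1
        rw [ξ'.2.2] at h3
        have h4 := hle x'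
        have h5 : ξ ⤳ p x' := by
          have := p.base.hom.map_specializes c3.1
          rw [← ξ'.2.2]; exact this
        have h6 : p x' = ξ := by
          by_contra hne
          have := (hδ ξ (p x') h5 (Ne.symm hne)).1
          omega
        exact ordAt_same_fibre p x' ξ'.1 c3.1 ξ ξ'.2.2 h6 g
      · rw [dif_neg c3]
    rw [this, mul_zero]

end core5

end Groth.Agent.Lib.Helper22.FlatDiv
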