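import Mathlib
import Groth.Prelude.Def_C1
import Groth.Agent.Lib.QCoh.Helper18_StalkLinear
import Groth.Agent.Lib.Ample.Helper50_LocalGen

/-!
helper22: stalks of invertible modules and the fibres `L(ξ)`; the order `Cyc.secOrdAt` of a
rational section in terms of a basis of `L(ξ)`.
-/

set_option autoImplicit false
universe u
open CategoryTheory AlgebraicGeometry IsLocalRing TopologicalSpace Opposite
open Cyc

namespace Groth.Agent.Lib.Helper22.InvStalk

open Groth.Agent.Lib.QCoh Groth.Agent.Lib.Ample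

variable {X : Scheme.{u}} {L : X.Modules}

lemma germ_resSec {U V : X.Opens} (h : V ≤ U) (x : X) (hx : x ∈ V) (s : Γ(L, U)) :
    L.presheaf.germ V x hx (resSec L h s) = L.presheaf.germ U x (h hx) s :=
  TopCat.Presheaf.germ_res_apply L.presheaf (homOfLE h) x hx s

lemma germ_resFn {U V : X.Opens} (h : V ≤ U) (x : X) (hx : x ∈ V) (r : Γ(X, U)) :
    X.presheaf.germ V x hx (resFn h r) = X.presheaf.germ U x (h hx) r :=
  TopCat.Presheaf.germ_res_apply X.presheaf (homOfLE h) x hx r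

/-- G1: the germ of a local generator spans the stalk. -/
lemma gen_span {U : X.Opens} {e : Γ(L, U)} (he : IsGenerator L U e) (x : X) (hx : x ∈ U)
    (m : L.presheaf.stalk x) : ∃ a : X.presheaf.stalk x, m = a • L.presheaf.germ U x hx e := by
  obtain ⟨V, hxV, s, rfl⟩ := L.presheaf.exists_germ_eq m
  have hW : x ∈ V ⊓ U := ⟨hxV, hx⟩
  obtain ⟨r, hr⟩ := (he (V ⊓ U) inf_le_right).2 (resSec L inf_le_left s)
  refine ⟨X.presheaf.germ (V ⊓ U) x hW r, ?_⟩
  have h1 := germ_resSec (L := L) (inf_le_left : V ⊓ U ≤ V) x hW s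
  rw [← h1, ← hr]
  show L.presheaf.germ (V ⊓ U) x hW (r • resSec L (inf_le_right : V ⊓ U ≤ U) e) = _
  rw [germ_smul, germ_resSec]

/-- G2: the germ of a local generator is a free generator. -/
lemma gen_free {U : X.Opens} {e : Γ(L, U)} (he : IsGenerator L U e) (x : X) (hx : x ∈ U)
    (a : X.presheaf.stalk x) (h : a • L.presheaf.germ U x hx e = 0) : a = 0 := by
  obtain ⟨V, hxV, r, rfl⟩ := X.presheaf.exists_germ_eq a
  have hW : x ∈ V ⊓ U := ⟨hxV, hx⟩
  have h1 : L.presheaf.germ (V ⊓ U) x hW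
      (resFn (inf_le_left : V ⊓ U ≤ V) r • resSec L (inf_le_right : V ⊓ U ≤ U) e) =
      L.presheaf.germ (V ⊓ U) x hW 0 := by
    rw [germ_smul, germ_resSec, germ_resFn, map_zero]
    exact h
  obtain ⟨W, hxW, iU, iV, hres⟩ := TopCat.Presheaf.germ_eq L.presheaf x hW hW _ _ h1
  have hle : W ≤ V ⊓ U := iU.le
  have h2 : resSec L hle
      (resFn (inf_le_left : V ⊓ U ≤ V) r • resSec L (inf_le_right : V ⊓ U ≤ U) e) = 0 := by
    have : resSec L hle (0 : Γ(L, V ⊓ U)) = 0 := map_zero _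
    rw [← this]
    exact hres
  rw [resSec_smul, resSec_resSec] at h2
  have h3 : resFn hle (resFn (inf_le_left : V ⊓ U ≤ V) r) = 0 := by
    apply (he W (hle.trans inf_le_right)).1
    show _ • resSec L _ e = (0 : Γ(X, W)) • resSec L _ e
    rw [zero_smul]
    exact h2
  have h4 := germ_resFn hle x hxW (resFn (inf_le_left : V ⊓ U ≤ V) r)
  rw [h3, map_zero, germ_resFn] at h4
  exact h4.symm

lemma sp_germ (M : X.Modules) {y x : X} (h : y ⤳ x) {W : X.Opens} (hx : x ∈ W) (s : Γ(M, W)) :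
    (M.presheaf.stalkSpecializes h).hom (M.presheaf.germ W x hx s) =
      M.presheaf.germ W y (h.mem_open W.isOpen hx) s :=
  TopCat.Presheaf.germ_stalkSpecializes_apply M.presheaf hx h s

lemma spO_germ {y x : X} (h : y ⤳ x) {W : X.Opens} (hx : x ∈ W) (s : Γ(X, W)) :
    (X.presheaf.stalkSpecializes h).hom (X.presheaf.germ W x hx s) =
      X.presheaf.germ W y (h.mem_open W.isOpen hx) s :=
  TopCat.Presheaf.germ_stalkSpecializes_apply X.presheaf hx h s

/-- specialization maps of a module are semilinear. -/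
lemma sp_smul (M : X.Modules) {y x : X} (h : y ⤳ x) (r : X.presheaf.stalk x)
    (m : M.presheaf.stalk x) :
    (M.presheaf.stalkSpecializes h).hom (r • m) =
      (X.presheaf.stalkSpecializes h).hom r • (M.presheaf.stalkSpecializes h).hom m := by
  obtain ⟨W, hx, a, s, rfl, rfl⟩ := exists_germ_eq_pair M x r m
  rw [← germ_smul, sp_germ, sp_germ, spO_germ, germ_smul]

/-- `g ∈ L(ξ)` is a basis of the fibre. -/
def IsBasis (ξ : X) (g : secFibre L ξ) : Prop :=
  (∀ s : secFibre L ξ, ∃ φ : X.presheaf.stalk ξ, s = φ • g) ∧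
    ∀ φ : X.presheaf.stalk ξ, φ • g = 0 → φ ∈ maximalIdeal (X.presheaf.stalk ξ)

lemma max_smul_eq_zero (ξ : X) (μ : X.presheaf.stalk ξ)
    (hμ : μ ∈ maximalIdeal (X.presheaf.stalk ξ)) (v : secFibre L ξ) : μ • v = 0 := by
  obtain ⟨n, rfl⟩ := Submodule.Quotient.mk_surjective _ v
  rw [← Submodule.Quotient.mk_smul, Submodule.Quotient.mk_eq_zero]
  exact Submodule.smul_mem_smul hμ trivial

/-- Lemma B: the image of a generator of `L_x` is a basis of `L(ξ)` for `ξ ⤳ x`. -/
lemma isBasis_of_gen (hL : PicF.IsInvertible L) {ξ x : X} (h : ξ ⤳ x)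
    (t₀ : L.presheaf.stalk x) (ht₀ : Submodule.span (X.presheaf.stalk x) {t₀} = ⊤) :
    IsBasis ξ (Submodule.Quotient.mk ((L.presheaf.stalkSpecializes h).hom t₀) :
      secFibre L ξ) := by
  obtain ⟨U, hxU, e, he⟩ := exists_isGenerator_of_isInvertible hL x
  have hξU : ξ ∈ U := h.mem_open U.isOpen hxU
  obtain ⟨a, ha⟩ := gen_span he x hxU t₀
  obtain ⟨b, hb⟩ : ∃ b : X.presheaf.stalk x, b • t₀ = L.presheaf.germ U x hxU e := by
    have : L.presheaf.germ U x hxU e ∈ Submodule.span (X.presheaf.stalk x) {t₀} := by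
      rw [ht₀]; trivial
    exact Submodule.mem_span_singleton.mp this
  have hba : b * a = 1 := by
    have : (b * a - 1) • L.presheaf.germ U x hxU e = 0 := by
      rw [sub_smul, mul_smul, ← ha, hb, one_smul, sub_self]
    have := gen_free he x hxU _ this
    exact sub_eq_zero.mp this
  set a' := (X.presheaf.stalkSpecializes h).hom a with ha'
  set b' := (X.presheaf.stalkSpecializes h).hom b with hb'
  have hba' : b' * a' = 1 := by
    rw [hb', ha', ← map_mul, hba, map_one]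
  have hsp : (L.presheaf.stalkSpecializes h).hom t₀ = a' • L.presheaf.germ U ξ hξU e := by
    rw [ha, sp_smul, sp_germ]
  have hmem : ∀ m ∈ (maximalIdeal (X.presheaf.stalk ξ) •
      (⊤ : Submodule (X.presheaf.stalk ξ) (L.presheaf.stalk ξ))),
      ∃ μ ∈ maximalIdeal (X.presheaf.stalk ξ), m = μ • L.presheaf.germ U ξ hξU e := by
    intro m hm
    refine Submodule.smul_induction_on hm ?_ ?_
    · intro μ hμ n _
      obtain ⟨c, rfl⟩ := gen_span he ξ hξU n
      exact ⟨μ * c, Ideal.mul_mem_right _ _ hμ, by rw [mul_smul]⟩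
    · rintro m₁ m₂ ⟨μ₁, h₁, rfl⟩ ⟨μ₂, h₂, rfl⟩
      exact ⟨μ₁ + μ₂, Ideal.add_mem _ h₁ h₂, by rw [add_smul]⟩
  constructor
  · intro s
    obtain ⟨m, rfl⟩ := Submodule.Quotient.mk_surjective _ s
    obtain ⟨c, hc⟩ := gen_span he ξ hξU m
    refine ⟨c * b', ?_⟩
    rw [← Submodule.Quotient.mk_smul, hsp, hc, mul_smul, ← mul_smul b', hba', one_smul]
  · intro φ hφ
    rw [← Submodule.Quotient.mk_smul, Submodule.Quotient.mk_eq_zero] at hφ
    obtain ⟨μ, hμ, hμe⟩ := hmem _ hφ
    rw [hsp, ← mul_smul] at hμe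
    have h0 : (φ * a' - μ) • L.presheaf.germ U ξ hξU e = 0 := by
      rw [sub_smul, hμe, sub_self]
    have h1 : φ * a' = μ := sub_eq_zero.mp (gen_free he ξ hξU _ h0)
    have : φ = (φ * a') * b' := by
      rw [mul_assoc, mul_comm a', hba', mul_one]
    rw [this, h1]
    exact Ideal.mul_mem_right _ _ hμ

lemma exists_gen (hL : PicF.IsInvertible L) (x : X) :
    ∃ t : L.presheaf.stalk x, Submodule.span (X.presheaf.stalk x) {t} = ⊤ := by
  obtain ⟨U, hxU, e, he⟩ := exists_isGenerator_of_isInvertible hL x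
  refine ⟨L.presheaf.germ U x hxU e, ?_⟩
  rw [eq_top_iff]
  intro m _
  obtain ⟨a, rfl⟩ := gen_span he x hxU m
  exact Submodule.mem_span_singleton.mpr ⟨a, rfl⟩

/-- Lemma R: the ratio of the coordinates of two sections does not depend on the basis. -/
lemma ratio_indep (ξ : X) (g g' : secFibre L ξ) (hg : IsBasis ξ g) (hg' : IsBasis ξ g')
    (σ t : secFibre L ξ) (ht : t ≠ 0) (φ₁ φ₂ φ₁' φ₂' : X.presheaf.stalk ξ)
    (h1 : σ = φ₁ • g) (h2 : t = φ₂ • g) (h1' : σ = φ₁' • g') (h2' : t = φ₂' • g') :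
    (X.residue ξ).hom φ₁ / (X.residue ξ).hom φ₂ =
      (X.residue ξ).hom φ₁' / (X.residue ξ).hom φ₂' := by
  obtain ⟨ψ, hψ⟩ := hg.1 g'
  have e1 : (X.residue ξ).hom φ₁ = (X.residue ξ).hom φ₁' * (X.residue ξ).hom ψ := by
    rw [← map_mul, ← sub_eq_zero, ← map_sub]
    apply (IsLocalRing.residue_eq_zero_iff _).mpr
    apply hg.2
    rw [sub_smul, mul_smul, ← hψ, ← h1, ← h1', sub_self]
  have e2 : (X.residue ξ).hom φ₂ = (X.residue ξ).hom φ₂' * (X.residue ξ).hom ψ := by
    rw [← map_mul, ← sub_eq_zero, ← map_sub]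
    apply (IsLocalRing.residue_eq_zero_iff _).mpr
    apply hg.2
    rw [sub_smul, mul_smul, ← hψ, ← h2, ← h2', sub_self]
  have n1 : (X.residue ξ).hom φ₂' ≠ 0 := by
    intro h0
    apply ht
    rw [h2', max_smul_eq_zero ξ φ₂' ((IsLocalRing.residue_eq_zero_iff _).mp h0)]
  have n2 : (X.residue ξ).hom ψ ≠ 0 := by
    intro h0
    apply ht
    rw [h2', hψ, max_smul_eq_zero ξ ψ ((IsLocalRing.residue_eq_zero_iff _).mp h0), smul_zero]
  rw [e1, e2]
  field_simp

/-- evaluation of `secOrdAt` through a basis depending only on `x`. -/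
lemma secOrdAt_eq (hL : PicF.IsInvertible L) {ξ x : X} (h : ξ ⤳ x) :
    ∃ g : secFibre L ξ, IsBasis ξ g ∧ ∀ s : secFibre L ξ, ∃ φ : X.presheaf.stalk ξ,
      s = φ • g ∧ secOrdAt L ξ x h s = ordAt x ξ h ((X.residue ξ).hom φ) := by
  have ht := exists_gen hL x
  have hb := isBasis_of_gen hL h (Classical.choose ht) (Classical.choose_spec ht)
  refine ⟨_, hb, fun s => ?_⟩
  have hφ : ∃ φ : X.presheaf.stalk ξ,
      s = φ • (Submodule.Quotient.mk ((L.presheaf.stalkSpecializes h) (Classical.choose ht)) :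
        secFibre L ξ) := hb.1 s
  refine ⟨Classical.choose hφ, Classical.choose_spec hφ, ?_⟩
  unfold secOrdAt
  rw [dif_pos ht, dif_pos hφ]

end Groth.Agent.Lib.Helper22.InvStalk
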