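import Mathlib
import Groth.Prelude.Def_C1
import Groth.Agent.Lib.Helper22.InvStalk
import Groth.Agent.Lib.Helper22.FlatDiv

/-!
helper22: `c_1(L) ∩ α` does not depend, up to rational equivalence, on the chosen rational sections.
-/

set_option autoImplicit false
universe u
open CategoryTheory AlgebraicGeometry IsLocalRing TopologicalSpace Opposite
open Cyc

namespace Groth.Agent.Lib.Helper22.C1Indep

open Groth.Agent.Lib.Helper22.InvStalk Groth.Agent.Lib.Helper22.OrdFlat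
open Groth.Agent.Lib.Helper22.FlatDiv (locQuot_conds)

section alg
variable {A : Type u} [CommRing A] {K : Type u} [Field K] [Algebra A K]

lemma ordFrac_div' (hA : IsNoetherianRing A ∧ Ring.KrullDimLE 1 A ∧ Nontrivial A ∧
    IsFractionRing A K) (a b : K) (ha : a ≠ 0) (hb : b ≠ 0) :
    CycAlg.ordFrac A K (a / b) = CycAlg.ordFrac A K a - CycAlg.ordFrac A K b := by
  rw [ordFrac_eq_log hA, ordFrac_eq_log hA, ordFrac_eq_log hA]
  haveI := hA.1; haveI := hA.2.1; haveI := hA.2.2.1; haveI := hA.2.2.2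
  show WithZero.log (Ring.ordFrac A (a / b)) =
    WithZero.log (Ring.ordFrac A a) - WithZero.log (Ring.ordFrac A b)
  rw [map_div₀, WithZero.log_div ((map_ne_zero _).mpr ha) ((map_ne_zero _).mpr hb)]

lemma ordFrac_zpow (g : K) (n : ℤ) :
    CycAlg.ordFrac A K (g ^ n) = n * CycAlg.ordFrac A K g := by
  by_cases hA : IsNoetherianRing A ∧ Ring.KrullDimLE 1 A ∧ Nontrivial A ∧ IsFractionRing A K
  · rw [ordFrac_eq_log hA, ordFrac_eq_log hA]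
    haveI := hA.1; haveI := hA.2.1; haveI := hA.2.2.1; haveI := hA.2.2.2
    show WithZero.log (Ring.ordFrac A (g ^ n)) = n * WithZero.log (Ring.ordFrac A g)
    rw [map_zpow₀, WithZero.log_zpow]
    simp
  · unfold CycAlg.ordFrac
    rw [dif_neg hA, dif_neg hA, mul_zero]

end alg

variable {X : Scheme.{u}}

lemma divFun_zpow (δ : X → ℤ) (ξ : X) (g : X.residueField ξ) (n : ℤ) (x : X) :
    divFun δ ξ (g ^ n) x = n * divFun δ ξ g x := by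
  unfold divFun
  split_ifs with h
  · unfold ordAt
    exact ordFrac_zpow g n
  · rw [mul_zero]

variable {L : X.Modules}

/-- the ratio `σ / t ∈ κ(ξ)` of two rational sections. -/
lemma exists_ratio (hL : PicF.IsInvertible L) (ξ : X) (σ t : secFibre L ξ) (hσ : σ ≠ 0)
    (ht : t ≠ 0) :
    ∃ c : X.residueField ξ, c ≠ 0 ∧ ∀ (g : secFibre L ξ) (_ : IsBasis ξ g)
      (φ₁ φ₂ : X.presheaf.stalk ξ), σ = φ₁ • g → t = φ₂ • g →
        (X.residue ξ).hom φ₁ ≠ 0 ∧ (X.residue ξ).hom φ₂ ≠ 0 ∧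
          (X.residue ξ).hom φ₁ / (X.residue ξ).hom φ₂ = c := by
  obtain ⟨g₀, hg₀, hs⟩ := secOrdAt_eq hL (specializes_rfl : ξ ⤳ ξ)
  obtain ⟨ψ₁, hψ₁, -⟩ := hs σ
  obtain ⟨ψ₂, hψ₂, -⟩ := hs t
  have nz : ∀ (g : secFibre L ξ) (s : secFibre L ξ) (φ : X.presheaf.stalk ξ), s ≠ 0 →
      s = φ • g → (X.residue ξ).hom φ ≠ 0 := by
    intro g s φ hs0 hsφ h0
    apply hs0
    rw [hsφ, max_smul_eq_zero ξ φ ((IsLocalRing.residue_eq_zero_iff _).mp h0)]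
  refine ⟨(X.residue ξ).hom ψ₁ / (X.residue ξ).hom ψ₂,
    div_ne_zero (nz g₀ σ ψ₁ hσ hψ₁) (nz g₀ t ψ₂ ht hψ₂), ?_⟩
  intro g hg φ₁ φ₂ h1 h2
  exact ⟨nz g σ φ₁ hσ h1, nz g t φ₂ ht h2,
    ratio_indep ξ g g₀ hg hg₀ σ t ht φ₁ φ₂ ψ₁ ψ₂ h1 h2 hψ₁ hψ₂⟩

lemma secOrdAt_sub [IsLocallyNoetherian X] (δ : X → ℤ) (hδ : Cyc.IsDimFun X δ)
    (hL : PicF.IsInvertible L) (ξ : X) (σ t : secFibre L ξ)
    (c : X.residueField ξ)
    (hc : ∀ (g : secFibre L ξ) (_ : IsBasis ξ g)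
      (φ₁ φ₂ : X.presheaf.stalk ξ), σ = φ₁ • g → t = φ₂ • g →
        (X.residue ξ).hom φ₁ ≠ 0 ∧ (X.residue ξ).hom φ₂ ≠ 0 ∧
          (X.residue ξ).hom φ₁ / (X.residue ξ).hom φ₂ = c) (x : X) :
    secDivFun δ L ξ σ x - secDivFun δ L ξ t x = divFun δ ξ c x := by
  unfold secDivFun divFun
  by_cases h : ξ ⤳ x ∧ δ x + 1 = δ ξ
  · rw [dif_pos h, dif_pos h, dif_pos h]
    obtain ⟨g, hg, hs⟩ := secOrdAt_eq hL h.1
    obtain ⟨φ₁, h1, e1⟩ := hs σ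
    obtain ⟨φ₂, h2, e2⟩ := hs t
    obtain ⟨n1, n2, hr⟩ := hc g hg φ₁ φ₂ h1 h2
    rw [e1, e2, ← hr]
    unfold ordAt
    rw [ordFrac_div' (locQuot_conds δ hδ x ξ h.1 h.2) _ _ n1 n2]
  · rw [dif_neg h, dif_neg h, dif_neg h, sub_zero]

lemma secDivFun_ne_zero (δ : X → ℤ) (ξ : X) (s : secFibre L ξ) (x : X)
    (h : secDivFun δ L ξ s x ≠ 0) : ξ ⤳ x := by
  unfold secDivFun at h
  by_contra hn
  rw [dif_neg (fun hh => hn hh.1)] at h
  exact h rfl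

lemma finite_gen_support (α : AlgebraicCycle X ℤ) (x : X) :
    {ξ : X | α ξ ≠ 0 ∧ ξ ⤳ x}.Finite := by
  obtain ⟨t', ht', hfin⟩ := α.supportLocallyFiniteWithinDomain' x (Set.mem_univ x)
  refine hfin.subset ?_
  rintro ξ ⟨h1, h2⟩
  refine ⟨?_, h1⟩
  exact interior_subset (h2.mem_open isOpen_interior (mem_interior_iff_mem_nhds.mpr ht'))

theorem c1Cap_indep [IsLocallyNoetherian X] (δ : X → ℤ) (hδ : Cyc.IsDimFun X δ)
    (hL : PicF.IsInvertible L) (k : ℤ) (α : AlgebraicCycle X ℤ) (hα : α ∈ Cyc.Zk X δ (k + 1))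
    (σ t : (ξ : X) → secFibre L ξ) (hσ : ∀ ξ, σ ξ ≠ 0) (ht : ∀ ξ, t ξ ≠ 0) :
    ∃ (ι : Type u) (ξ : ι → X) (f : (i : ι) → X.residueField (ξ i)),
      (∀ i, δ (ξ i) = k + 1) ∧ (∀ i, f i ≠ 0) ∧
      (∀ x : X, ∃ U : Set X, IsOpen U ∧ x ∈ U ∧ {i | (closure {ξ i} ∩ U).Nonempty}.Finite) ∧
      ∀ x : X, c1CapFun δ L (⇑α) σ x - c1CapFun δ L (⇑α) t x =
        ∑ᶠ i, divFun δ (ξ i) (f i) x := by
  choose c hc0 hc using fun ξ => exists_ratio hL ξ (σ ξ) (t ξ) (hσ ξ) (ht ξ)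
  refine ⟨{ξ : X // α ξ ≠ 0}, fun i => i.1, fun i => c i.1 ^ (α i.1), ?_, ?_, ?_, ?_⟩
  · intro i
    by_contra hne
    exact i.2 (hα i.1 hne)
  · intro i
    exact zpow_ne_zero _ (hc0 i.1)
  · intro x
    obtain ⟨t', ht', hfin⟩ := α.supportLocallyFiniteWithinDomain' x (Set.mem_univ x)
    refine ⟨interior t', isOpen_interior, mem_interior_iff_mem_nhds.mpr ht', ?_⟩
    have : {i : {ξ : X // α ξ ≠ 0} | (closure {i.1} ∩ interior t').Nonempty} ⊆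
        Subtype.val ⁻¹' (t' ∩ Function.support ⇑α) := by
      rintro i ⟨z, hz1, hz2⟩
      have hsp : i.1 ⤳ z := specializes_iff_mem_closure.mpr hz1
      exact ⟨interior_subset (hsp.mem_open isOpen_interior hz2), i.2⟩
    exact (hfin.preimage Subtype.val_injective.injOn).subset this
  · intro x
    unfold c1CapFun
    have hf1 : (Function.support fun ξ : X => α ξ * secDivFun δ L ξ (σ ξ) x).Finite := by
      refine (finite_gen_support α x).subset ?_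
      intro ξ hξ
      have h0 : α ξ * secDivFun δ L ξ (σ ξ) x ≠ 0 := hξ
      exact ⟨left_ne_zero_of_mul h0, secDivFun_ne_zero δ ξ _ x (right_ne_zero_of_mul h0)⟩
    have hf2 : (Function.support fun ξ : X => α ξ * secDivFun δ L ξ (t ξ) x).Finite := by
      refine (finite_gen_support α x).subset ?_
      intro ξ hξ
      have h0 : α ξ * secDivFun δ L ξ (t ξ) x ≠ 0 := hξ
      exact ⟨left_ne_zero_of_mul h0, secDivFun_ne_zero δ ξ _ x (right_ne_zero_of_mul h0)⟩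
    rw [← finsum_sub_distrib hf1 hf2]
    have hterm : ∀ ξ : X, α ξ * secDivFun δ L ξ (σ ξ) x - α ξ * secDivFun δ L ξ (t ξ) x =
        divFun δ ξ (c ξ ^ (α ξ)) x := by
      intro ξ
      rw [← mul_sub, secOrdAt_sub δ hδ hL ξ (σ ξ) (t ξ) (c ξ) (hc ξ) x, divFun_zpow]
    have hs : ∑ᶠ i : {ξ : X // α ξ ≠ 0}, divFun δ i.1 (c i.1 ^ (α i.1)) x =
        ∑ᶠ (ξ : X) (_ : α ξ ≠ 0), divFun δ ξ (c ξ ^ (α ξ)) x :=
      finsum_subtype_eq_finsum_cond (f := fun ξ : X => divFun δ ξ (c ξ ^ (α ξ)) x)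
        (fun ξ => α ξ ≠ 0)
    rw [finsum_congr hterm, hs]
    show _ = ∑ᶠ ξ ∈ {ξ : X | α ξ ≠ 0}, divFun δ ξ (c ξ ^ (α ξ)) x
    rw [finsum_mem_def, Set.indicator_eq_self.mpr]
    intro ξ hξ
    show α ξ ≠ 0
    intro h0
    apply hξ
    show divFun δ ξ (c ξ ^ (α ξ)) x = 0
    rw [divFun_zpow, h0, zero_mul]

end Groth.Agent.Lib.Helper22.C1Indep
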