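import Mathlib

/-!
# Maximal separable subfields of central division algebras

* `adjoin_comm` : the subalgebra generated by pairwise commuting elements is commutative.
* `centralizer_eq_of_maximal_comm` : a maximal commutative subalgebra is its own centralizer.
* `exists_larger_separable_subfield` : Jacobson–Noether step: a separable subfield `F ⊆ D` whose
  centralizer is strictly larger (and whose double centralizer is itself) can be enlarged.
* `exists_maximal_comm_separable` : Köthe's theorem, assuming the double centralizer property.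
-/

set_option autoImplicit false
set_option linter.style.haveILetI false

namespace Groth.Agent.Lib.Helper22.CSAMaxSep

open Polynomial
open scoped IntermediateField

universe u v w

section comm

variable {k : Type u} [CommSemiring k] {D : Type v} [Semiring D] [Algebra k D]

theorem adjoin_comm {s : Set D} (hs : ∀ a ∈ s, ∀ b ∈ s, a * b = b * a) :
    ∀ x ∈ Algebra.adjoin k s, ∀ y ∈ Algebra.adjoin k s, x * y = y * x := by
  have h1 : Algebra.adjoin k s ≤ Subalgebra.centralizer k s :=
    Algebra.adjoin_le (fun a ha => (Subalgebra.mem_centralizer_iff k).mpr (fun g hg => hs g hg a ha))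
  have h2 : Algebra.adjoin k s ≤ Subalgebra.centralizer k (Algebra.adjoin k s : Set D) :=
    Algebra.adjoin_le (fun a ha => (Subalgebra.mem_centralizer_iff k).mpr
      (fun g hg => (((Subalgebra.mem_centralizer_iff k).mp (h1 hg)) a ha).symm))
  intro x hx y hy
  exact ((Subalgebra.mem_centralizer_iff k).mp (h2 hy) x hx)

theorem centralizer_eq_of_maximal_comm (L : Subalgebra k D)
    (hcomm : ∀ x ∈ L, ∀ y ∈ L, x * y = y * x)
    (hmax : ∀ L' : Subalgebra k D, (∀ x ∈ L', ∀ y ∈ L', x * y = y * x) → L ≤ L' → L' = L) :
    Subalgebra.centralizer k (L : Set D) = L := by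
  apply le_antisymm
  · intro x hx
    have hs : ∀ a ∈ (L : Set D) ∪ {x}, ∀ b ∈ (L : Set D) ∪ {x}, a * b = b * a := by
      rintro a (ha | ha) b (hb | hb)
      · exact hcomm a ha b hb
      · rw [Set.mem_singleton_iff] at hb
        subst hb
        exact ((Subalgebra.mem_centralizer_iff k).mp hx a ha)
      · rw [Set.mem_singleton_iff] at ha
        subst ha
        exact ((Subalgebra.mem_centralizer_iff k).mp hx b hb).symm
      · rw [Set.mem_singleton_iff] at ha hb
        rw [ha, hb]
    have hle : L ≤ Algebra.adjoin k ((L : Set D) ∪ {x}) := fun y hy =>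
      Algebra.subset_adjoin (Or.inl hy)
    have := hmax _ (adjoin_comm hs) hle
    rw [← this]
    exact Algebra.subset_adjoin (Or.inr rfl)
  · intro x hx
    exact (Subalgebra.mem_centralizer_iff k).mpr (fun g hg => hcomm g hg x hx)

end comm

section JN

variable (k : Type u) [Field k] (D : Type v) [DivisionRing D] [Algebra k D]
  [FiniteDimensional k D]

/-- Jacobson–Noether step. -/
theorem exists_larger_separable_subfield
    (F : Type w) [Field F] [Algebra k F] [FiniteDimensional k F] [Algebra.IsSeparable k F]
    (j : F →ₐ[k] D)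
    (hdc : Subalgebra.centralizer k (Subalgebra.centralizer k (j.range : Set D) : Set D) = j.range)
    (hne : Subalgebra.centralizer k (j.range : Set D) ≠ j.range) :
    ∃ (F' : Type w) (_ : Field F') (_ : Algebra k F') (_ : FiniteDimensional k F')
      (_ : Algebra.IsSeparable k F') (_ : F' →ₐ[k] D),
      Module.finrank k F < Module.finrank k F' := by
  classical
  set C := Subalgebra.centralizer k (j.range : Set D) with hC
  have hjC : ∀ f : F, j f ∈ C := by
    intro f
    rw [hC, Subalgebra.mem_centralizer_iff]
    rintro _ ⟨g, rfl⟩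
    show j g * j f = j f * j g
    rw [← map_mul, ← map_mul, mul_comm]
  let i : F →+* C :=
    { toFun := fun f => ⟨j f, hjC f⟩
      map_one' := Subtype.ext (map_one j)
      map_mul' := fun a b => Subtype.ext (map_mul j a b)
      map_zero' := Subtype.ext (map_zero j)
      map_add' := fun a b => Subtype.ext (map_add j a b) }
  letI : Algebra F C := i.toAlgebra' (fun f c => by
    apply Subtype.ext
    show j f * (c : D) = (c : D) * j f
    exact (Subalgebra.mem_centralizer_iff k).mp c.2 (j f) ⟨f, rfl⟩)
  have halg : ∀ f : F, ((algebraMap F C f : C) : D) = j f := fun _ => rfl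
  haveI : IsScalarTower k F C := IsScalarTower.of_algebraMap_eq (fun a => by
    apply Subtype.ext
    rw [halg, AlgHom.commutes]
    rfl)
  letI : DivisionRing C := divisionRingOfFiniteDimensional k C
  haveI : Module.Finite F C := Module.Finite.of_restrictScalars_finite k F C
  haveI : Algebra.IsAlgebraic F C := Algebra.IsAlgebraic.of_finite F C
  haveI : Algebra.IsCentral F C := by
    constructor
    intro z hz
    have hz' : (z : D) ∈ Subalgebra.centralizer k (C : Set D) := by
      rw [Subalgebra.mem_centralizer_iff]
      intro c hc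
      have := Subalgebra.mem_center_iff.mp hz ⟨c, hc⟩
      exact congrArg Subtype.val this
    rw [hdc] at hz'
    obtain ⟨f, hf⟩ := hz'
    exact Algebra.mem_bot.mpr ⟨f, Subtype.ext hf⟩
  have hbt : (⊥ : Subalgebra F C) ≠ ⊤ := by
    intro h
    apply hne
    apply le_antisymm
    · intro c hc
      have : (⟨c, hc⟩ : C) ∈ (⊥ : Subalgebra F C) := h ▸ Algebra.mem_top
      obtain ⟨f, hf⟩ := Algebra.mem_bot.mp this
      exact ⟨f, congrArg Subtype.val hf⟩
    · rintro d ⟨f, rfl⟩
      exact hjC f
  obtain ⟨x, hxb, hxs⟩ := JacobsonNoether.exists_separable_and_not_isCentral' hbt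
  have hxi : IsIntegral F x := Algebra.IsIntegral.isIntegral x
  have hpirr : Irreducible (minpoly F x) := minpoly.irreducible hxi
  haveI : Fact (Irreducible (minpoly F x)) := ⟨hpirr⟩
  have hpm : (minpoly F x).Monic := minpoly.monic hxi
  have hp0 : minpoly F x ≠ 0 := hpm.ne_zero
  haveI : FiniteDimensional F (AdjoinRoot (minpoly F x)) := hpm.finite_adjoinRoot
  haveI : FiniteDimensional k (AdjoinRoot (minpoly F x)) :=
    Module.Finite.trans F (AdjoinRoot (minpoly F x))
  have hroot : IsSeparable F (AdjoinRoot.root (minpoly F x)) := by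
    show (minpoly F (AdjoinRoot.root (minpoly F x))).Separable
    rw [AdjoinRoot.minpoly_root hp0, hpm.leadingCoeff, inv_one, map_one, mul_one]
    exact hxs
  haveI : Algebra.IsSeparable F (AdjoinRoot (minpoly F x)) := by
    haveI h1 := (IntermediateField.isSeparable_adjoin_simple_iff_isSeparable F
      (AdjoinRoot (minpoly F x))).mpr hroot
    refine ⟨fun y => ?_⟩
    have hy : y ∈ F⟮AdjoinRoot.root (minpoly F x)⟯ := by
      rw [IntermediateField.adjoin_root_eq_top]
      exact IntermediateField.mem_top
    exact IntermediateField.isSeparable_of_mem_isSeparable F _ hy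
  haveI : Algebra.IsSeparable k (AdjoinRoot (minpoly F x)) :=
    Algebra.IsSeparable.trans k F (AdjoinRoot (minpoly F x))
  let φ : AdjoinRoot (minpoly F x) →ₐ[F] C :=
    Ideal.Quotient.liftₐ (Ideal.span {minpoly F x}) (Polynomial.aeval x) (by
      intro a ha
      obtain ⟨q, rfl⟩ := Ideal.mem_span_singleton.mp ha
      rw [map_mul, minpoly.aeval, zero_mul])
  let j' : AdjoinRoot (minpoly F x) →ₐ[k] D := C.val.comp (φ.restrictScalars k)
  have hdeg : 2 ≤ (minpoly F x).natDegree :=
    (minpoly.two_le_natDegree_iff hxi).mpr (fun hx => hxb (by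
      rcases hx with ⟨f, hf⟩
      exact Algebra.mem_bot.mpr ⟨f, hf⟩))
  have hfr : Module.finrank F (AdjoinRoot (minpoly F x)) = (minpoly F x).natDegree := by
    rw [(AdjoinRoot.powerBasis hp0).finrank, AdjoinRoot.powerBasis_dim]
  have htower := Module.finrank_mul_finrank k F (AdjoinRoot (minpoly F x))
  refine ⟨AdjoinRoot (minpoly F x), inferInstance, inferInstance, inferInstance, inferInstance,
    j', ?_⟩
  rw [← htower, hfr]
  have hpos : 0 < Module.finrank k F := Module.finrank_pos
  nlinarith

/-- Köthe's theorem, assuming the double centralizer property for simple subalgebras of `D`. -/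
theorem exists_maximal_comm_separable
    (hdc : ∀ (B : Subalgebra k D) [IsSimpleRing B],
      Subalgebra.centralizer k (Subalgebra.centralizer k (B : Set D) : Set D) = B) :
    ∃ L : Subalgebra k D, (∀ x ∈ L, ∀ y ∈ L, x * y = y * x) ∧
      (∀ L' : Subalgebra k D, (∀ x ∈ L', ∀ y ∈ L', x * y = y * x) → L ≤ L' → L' = L) ∧
      Algebra.IsSeparable k L := by
  classical
  let P : ℕ → Prop := fun n => ∃ (F : Type u) (_ : Field F) (_ : Algebra k F)
    (_ : FiniteDimensional k F) (_ : Algebra.IsSeparable k F) (_ : F →ₐ[k] D),
    Module.finrank k F = n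
  have hP1 : P 1 := ⟨k, inferInstance, inferInstance, inferInstance, inferInstance,
    Algebra.ofId k D, Module.finrank_self k⟩
  have h1D : 1 ≤ Module.finrank k D := Module.finrank_pos
  have hbound : ∀ n, P n → n ≤ Module.finrank k D := by
    rintro n ⟨F, _, _, _, _, j, rfl⟩
    exact LinearMap.finrank_le_finrank_of_injective (f := j.toLinearMap)
      (RingHom.injective j.toRingHom)
  obtain ⟨F, _, _, _, _, j, hFN⟩ := Nat.findGreatest_spec (P := P) h1D hP1
  have hj : Function.Injective j := RingHom.injective j.toRingHom
  have hcomm : ∀ x ∈ j.range, ∀ y ∈ j.range, x * y = y * x := by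
    rintro _ ⟨a, rfl⟩ _ ⟨b, rfl⟩
    show j a * j b = j b * j a
    rw [← map_mul, ← map_mul, mul_comm]
  refine ⟨j.range, hcomm, ?_, ?_⟩
  · intro L' hL' hle
    by_contra hne
    haveI : IsSimpleRing j.range :=
      IsSimpleRing.of_ringEquiv (AlgEquiv.ofInjective j hj).toRingEquiv inferInstance
    have hC : Subalgebra.centralizer k (j.range : Set D) ≠ j.range := by
      intro hC
      apply hne
      apply le_antisymm _ hle
      rw [← hC]
      intro y hy
      exact (Subalgebra.mem_centralizer_iff k).mpr (fun g hg => hL' g (hle hg) y hy)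
    obtain ⟨F', _, _, _, _, j', hlt⟩ :=
      exists_larger_separable_subfield k D F j (hdc j.range) hC
    have hP' : P (Module.finrank k F') := ⟨F', _, _, inferInstance, inferInstance, j', rfl⟩
    have := Nat.le_findGreatest (P := P) (hbound _ hP') hP'
    omega
  · refine ⟨fun y => ?_⟩
    obtain ⟨y, f, rfl⟩ := y
    show (minpoly k (⟨j f, f, rfl⟩ : j.range)).Separable
    have h1 : minpoly k (⟨j f, f, rfl⟩ : j.range) = minpoly k f := by
      rw [← minpoly.algHom_eq j.range.val Subtype.val_injective]
      exact minpoly.algHom_eq j hj f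
    rw [h1]
    exact Algebra.IsSeparable.isSeparable k f

end JN

end Groth.Agent.Lib.Helper22.CSAMaxSep
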