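import Mathlib
import Groth.Prelude.Def_Curves
import Groth.Agent.Lib.Helper59.CSA
import Groth.Agent.S11683

/-!
# Splitting fields of central simple algebras

* `splits_of_isSepClosed` : a f.d. CSA over `k` is split by every separably closed extension.
-/

set_option autoImplicit false
set_option linter.style.haveILetI false

namespace Groth.Agent.Lib.Helper22.CSASplit

open TensorProduct

universe u v w

theorem splits_of_isSepClosed (k : Type u) [Field k] (A : Type v) [Ring A] [Algebra k A]
    [Algebra.IsCentral k A] [IsSimpleRing A] [FiniteDimensional k A]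
    (K : Type w) [Field K] [Algebra k K] [IsSepClosed K] : Curves.Splits k A K := by
  haveI := Groth.Agent.Lib.Helper59.CSA.isSimpleRing_baseChange k A K
  haveI := Groth.Agent.Lib.Helper59.CSA.isCentral_baseChange k A K
  obtain ⟨n, ⟨e⟩⟩ := Groth.Agent.S11683.result K (K ⊗[k] A)
  refine ⟨n, ?_, ⟨e⟩⟩
  rintro rfl
  have : Subsingleton (K ⊗[k] A) := e.toEquiv.subsingleton
  exact not_subsingleton _ this

theorem mem_range_mapMatrix {k : Type*} {K : Type*} [Field k] [Field K] [Algebra k K]
    (F : IntermediateField k K) {n : Type*} [Fintype n] [DecidableEq n] (M : Matrix n n K)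
    (h : ∀ i j, M i j ∈ F) : M ∈ (F.val.mapMatrix (m := n)).range :=
  ⟨fun i j => ⟨M i j, h i j⟩, by ext; rfl⟩

/-- Descent of a splitting to all sufficiently large intermediate fields. -/
theorem exists_finite_splits (k : Type u) [Field k] (A : Type v) [Ring A] [Algebra k A]
    [Algebra.IsCentral k A] [IsSimpleRing A] [FiniteDimensional k A]
    (K : Type w) [Field K] [Algebra k K] (h : Curves.Splits k A K) :
    ∃ S : Set K, S.Finite ∧ ∀ F : IntermediateField k K, S ⊆ F → Curves.Splits k A F := by
  classical
  obtain ⟨n, hn, ⟨e⟩⟩ := h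
  haveI : NeZero n := ⟨hn⟩
  let e₀ : A →ₐ[k] Matrix (Fin n) (Fin n) K :=
    (e.toAlgHom.restrictScalars k).comp Algebra.TensorProduct.includeRight
  let b := Module.finBasis k A
  refine ⟨Set.range (fun p : Fin (Module.finrank k A) × Fin n × Fin n => e₀ (b p.1) p.2.1 p.2.2),
    Set.finite_range _, fun F hF => ?_⟩
  let φ : Matrix (Fin n) (Fin n) F →ₐ[k] Matrix (Fin n) (Fin n) K := F.val.mapMatrix
  have hφ : Function.Injective φ := by
    intro M N hMN
    ext i j
    have := congrFun (congrFun hMN i) j
    exact this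
  have hmem : ∀ a, e₀ a ∈ φ.range := by
    intro a
    rw [← b.sum_repr a, map_sum]
    refine Subalgebra.sum_mem _ fun l _ => ?_
    rw [map_smul]
    refine Subalgebra.smul_mem _ ?_ _
    exact mem_range_mapMatrix F _ (fun i j => hF ⟨(l, i, j), rfl⟩)
  let e₀F : A →ₐ[k] Matrix (Fin n) (Fin n) F :=
    (AlgEquiv.ofInjective φ hφ).symm.toAlgHom.comp (e₀.codRestrict φ.range hmem)
  let Ψ : F ⊗[k] A →ₐ[F] Matrix (Fin n) (Fin n) F :=
    Algebra.TensorProduct.lift (Algebra.ofId F _) e₀F (fun x y => Algebra.commutes x _)
  haveI := Groth.Agent.Lib.Helper59.CSA.isSimpleRing_baseChange k A F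
  have hinj : Function.Injective Ψ := RingHom.injective Ψ.toRingHom
  have hdimK : Module.finrank k A = n * n := by
    have h1 : Module.finrank K (K ⊗[k] A) = Module.finrank k A := Module.finrank_baseChange
    have h2 : Module.finrank K (K ⊗[k] A) = Module.finrank K (Matrix (Fin n) (Fin n) K) :=
      e.toLinearEquiv.finrank_eq
    rw [← h1, h2, Module.finrank_matrix]
    simp
  have hdim : Module.finrank F (F ⊗[k] A) = Module.finrank F (Matrix (Fin n) (Fin n) F) := by
    rw [Module.finrank_baseChange, hdimK, Module.finrank_matrix]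
    simp
  have hsurj : Function.Surjective Ψ :=
    (LinearMap.injective_iff_surjective_of_finrank_eq_finrank (f := Ψ.toLinearMap) hdim).mp hinj
  exact ⟨n, hn, ⟨AlgEquiv.ofBijective Ψ ⟨hinj, hsurj⟩⟩⟩

/-- A `k`-algebra split by some field extension is finite central simple. -/
theorem csa_of_splits (k : Type u) [Field k] (A : Type v) [Ring A] [Algebra k A]
    (K : Type w) [Field K] [Algebra k K] (h : Curves.Splits k A K) :
    Algebra.IsCentral k A ∧ IsSimpleRing A ∧ FiniteDimensional k A := by
  classical
  obtain ⟨n, hn, ⟨e⟩⟩ := h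
  haveI : NeZero n := ⟨hn⟩
  haveI hsK : IsSimpleRing (K ⊗[k] A) := IsSimpleRing.of_ringEquiv e.symm.toRingEquiv inferInstance
  haveI hcK : Algebra.IsCentral K (K ⊗[k] A) := by
    constructor
    intro x hx
    have hex : e x ∈ Subalgebra.center K (Matrix (Fin n) (Fin n) K) := by
      rw [Subalgebra.mem_center_iff] at hx ⊢
      intro M
      obtain ⟨y, rfl⟩ := e.surjective M
      rw [← map_mul, ← map_mul, hx y]
    obtain ⟨c, hc⟩ := (Algebra.IsCentral.mem_center_iff K).mp hex
    refine Algebra.mem_bot.mpr ⟨c, ?_⟩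
    apply e.injective
    rw [hc, AlgEquiv.commutes]
  haveI hfK : Module.Finite K (K ⊗[k] A) := Module.Finite.equiv e.symm.toLinearEquiv
  have hnt : Nontrivial A := by
    by_contra hcon
    rw [not_nontrivial_iff_subsingleton] at hcon
    have : Subsingleton (K ⊗[k] A) := by
      refine ⟨fun x y => ?_⟩
      have h0 : ∀ z : K ⊗[k] A, z = 0 := by
        intro z
        induction z using TensorProduct.induction_on with
        | zero => rfl
        | tmul x a => rw [Subsingleton.elim a 0, TensorProduct.tmul_zero]
        | add x y hx hy => rw [hx, hy, add_zero]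
      rw [h0 x, h0 y]
    exact not_subsingleton _ this
  have hfin : FiniteDimensional k A := by
    show Module.Finite k A
    rw [← Module.rank_lt_aleph0_iff]
    have h1 := Module.rank_baseChange (R := K) (S := k) (M' := A)
    have h2 : Module.rank K (K ⊗[k] A) < Cardinal.aleph0 := Module.rank_lt_aleph0 K _
    rw [h1] at h2
    exact Cardinal.lift_lt_aleph0.mp h2
  have hcentral : Algebra.IsCentral k A := by
    constructor
    intro z hz
    by_contra hzn
    let P : Submodule k A := LinearMap.range (Algebra.linearMap k A)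
    have hzP : z ∉ P := fun ⟨c, hc⟩ => hzn (Algebra.mem_bot.mpr ⟨c, hc⟩)
    obtain ⟨f', hfz', hfP'⟩ := Submodule.exists_dual_map_eq_bot_of_notMem hzP inferInstance
    obtain ⟨f, hfz, hfP⟩ : ∃ f : A →ₗ[k] k, f z ≠ 0 ∧ Submodule.map f P = ⊥ := ⟨f', hfz', hfP'⟩
    have hf1 : f 1 = 0 := by
      have h1P : (1 : A) ∈ P := ⟨1, by simp⟩
      have : f 1 ∈ Submodule.map f P := Submodule.mem_map_of_mem h1P
      rw [hfP, Submodule.mem_bot] at this
      exact this
    have hc : (1 : K) ⊗ₜ[k] z ∈ Subalgebra.center K (K ⊗[k] A) := by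
      rw [Subalgebra.mem_center_iff]
      intro w
      induction w using TensorProduct.induction_on with
      | zero => simp
      | tmul x a =>
        simp [Algebra.TensorProduct.tmul_mul_tmul, (Subalgebra.mem_center_iff.mp hz a)]
      | add x y hx hy => rw [add_mul, mul_add, hx, hy]
    obtain ⟨c, hc'⟩ := (Algebra.IsCentral.mem_center_iff K).mp hc
    have h3 := congrArg (LinearMap.baseChange K f) hc'
    rw [Algebra.TensorProduct.algebraMap_apply, LinearMap.baseChange_tmul,
      LinearMap.baseChange_tmul, hf1, TensorProduct.tmul_zero] at h3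
    have h4 := congrArg (TensorProduct.rid k K) h3
    rw [TensorProduct.rid_tmul, map_zero] at h4
    apply hfz
    by_contra hne
    have : (f z) • (1 : K) ≠ 0 := by
      rw [Algebra.smul_def, mul_one]
      exact (map_ne_zero (algebraMap k K)).mpr hne
    exact this h4
  have hsimple : IsSimpleRing A := by
    apply IsSimpleRing.of_eq_bot_or_eq_top
    intro I
    by_cases hI : I = ⊤
    · exact Or.inr hI
    left
    have h1I : (1 : A) ∉ I := by
      intro h1
      apply hI
      rw [eq_top_iff]
      intro y _
      have := I.mul_mem_left y 1 h1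
      simpa using this
    have hQ : Nontrivial I.ringCon.Quotient := by
      refine ⟨⟨(1 : A), (0 : A), ?_⟩⟩
      intro h10
      apply h1I
      rw [TwoSidedIdeal.mem_iff]
      exact Quotient.exact h10
    let π : A →ₐ[k] I.ringCon.Quotient := I.ringCon.mkₐ k
    let Φ : K ⊗[k] A →ₐ[K] K ⊗[k] I.ringCon.Quotient :=
      Algebra.TensorProduct.map (AlgHom.id K K) π
    haveI : Nontrivial (K ⊗[k] I.ringCon.Quotient) :=
      (Algebra.TensorProduct.includeRight_injective (R := k) (A := K) (B := I.ringCon.Quotient)
        (FaithfulSMul.algebraMap_injective k K)).nontrivial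
    have hΦ : Function.Injective Φ := RingHom.injective Φ.toRingHom
    rw [eq_bot_iff]
    intro a ha
    have hπa : π a = 0 := by
      show ((a : A) : I.ringCon.Quotient) = ((0 : A) : I.ringCon.Quotient)
      exact Quotient.sound ((TwoSidedIdeal.mem_iff I a).mp ha)
    have hΦa : Φ ((1 : K) ⊗ₜ[k] a) = 0 := by
      simp [Φ, hπa]
    have h0 : (1 : K) ⊗ₜ[k] a = 0 := hΦ (by rw [hΦa, map_zero])
    have hinj := Algebra.TensorProduct.includeRight_injective (R := k) (A := K) (B := A)
        (FaithfulSMul.algebraMap_injective k K)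
    have : a = 0 := hinj (by simpa using h0)
    rw [this]
    exact TwoSidedIdeal.zero_mem _
  exact ⟨hcentral, hsimple, hfin⟩

end Groth.Agent.Lib.Helper22.CSASplit
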