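import Mathlib
import Groth.Prelude.Def_Curves
import Groth.Agent.Lib.Helper22.CSASplit
import Groth.Agent.S13268

/-!
# Splitting fields of central simple algebras, II

* `exists_finrank_eq_sq` : the dimension of a f.d. CSA is a (nonzero) square.
* `splits_of_algHom` : a `k`-algebra map `A → M_m(K)` with `m² = dim A` splits `A` over `K`.
* `splits_of_maximal_subfield` : a subfield `K` of a CSA `B` with `dim B = [K:k]²` splits `B`.
* `splits_of_matrix_algEquiv` : splitting fields only depend on the Brauer class.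
* `splits_op` : a splitting field of `A` splits `Aᵐᵒᵖ`.
-/

set_option autoImplicit false
set_option linter.style.haveILetI false

namespace Groth.Agent.Lib.Helper22.CSASplit

open TensorProduct

universe u v w

theorem finrank_eq_of_splits {k : Type u} [Field k] {A : Type v} [Ring A] [Algebra k A]
    {K : Type w} [Field K] [Algebra k K] {n : ℕ}
    (e : K ⊗[k] A ≃ₐ[K] Matrix (Fin n) (Fin n) K) : Module.finrank k A = n * n := by
  have h1 : Module.finrank K (K ⊗[k] A) = Module.finrank k A := Module.finrank_baseChange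
  have h2 : Module.finrank K (K ⊗[k] A) = Module.finrank K (Matrix (Fin n) (Fin n) K) :=
    e.toLinearEquiv.finrank_eq
  rw [← h1, h2, Module.finrank_matrix]
  simp

theorem exists_finrank_eq_sq (k : Type u) [Field k] (A : Type v) [Ring A] [Algebra k A]
    [Algebra.IsCentral k A] [IsSimpleRing A] [FiniteDimensional k A] :
    ∃ m : ℕ, m ≠ 0 ∧ Module.finrank k A = m * m := by
  obtain ⟨n, hn, ⟨e⟩⟩ := splits_of_isSepClosed k A (SeparableClosure k)
  exact ⟨n, hn, finrank_eq_of_splits e⟩

/-- Splitting criterion: a `k`-algebra map from a CSA `A` of dimension `m²` to `M_m(K)`. -/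
theorem splits_of_algHom (k : Type u) [Field k] (A : Type v) [Ring A] [Algebra k A]
    [Algebra.IsCentral k A] [IsSimpleRing A] [FiniteDimensional k A]
    (K : Type w) [Field K] [Algebra k K] (m : ℕ) (hm : m ≠ 0)
    (hdim : Module.finrank k A = m * m) (ρ : A →ₐ[k] Matrix (Fin m) (Fin m) K) :
    Curves.Splits k A K := by
  classical
  haveI : NeZero m := ⟨hm⟩
  let Ψ : K ⊗[k] A →ₐ[K] Matrix (Fin m) (Fin m) K :=
    Algebra.TensorProduct.lift (Algebra.ofId K _) ρ (fun x y => Algebra.commutes x _)
  haveI := Groth.Agent.Lib.Helper59.CSA.isSimpleRing_baseChange k A K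
  have hinj : Function.Injective Ψ := RingHom.injective Ψ.toRingHom
  have hdim' : Module.finrank K (K ⊗[k] A) = Module.finrank K (Matrix (Fin m) (Fin m) K) := by
    rw [Module.finrank_baseChange, hdim, Module.finrank_matrix]
    simp
  have hsurj : Function.Surjective Ψ :=
    (LinearMap.injective_iff_surjective_of_finrank_eq_finrank (f := Ψ.toLinearMap) hdim').mp hinj
  exact ⟨m, hm, ⟨AlgEquiv.ofBijective Ψ ⟨hinj, hsurj⟩⟩⟩

/-- A subfield `K` of a CSA `B` with `dim B = [K:k]²` splits `B`. -/
theorem splits_of_maximal_subfield (k : Type u) [Field k] (B : Type v) [Ring B] [Algebra k B]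
    [Algebra.IsCentral k B] [IsSimpleRing B] [FiniteDimensional k B]
    (K : Type w) [Field K] [Algebra k K] [FiniteDimensional k K] (ι : K →ₐ[k] B)
    (h : Module.finrank k B = Module.finrank k K ^ 2) : Curves.Splits k B K := by
  classical
  set n := Module.finrank k K with hn
  have hn0 : n ≠ 0 := (Module.finrank_pos (R := k) (M := K)).ne'
  let ιop : K →+* Bᵐᵒᵖ := ι.toRingHom.toOpposite (fun x y => by
    show Commute (ι x) (ι y)
    rw [Commute, SemiconjBy, ← map_mul, ← map_mul, mul_comm])
  letI : Module K B := Module.compHom B ιop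
  have hsmul : ∀ (c : K) (x : B), c • x = x * ι c := fun _ _ => rfl
  haveI : IsScalarTower k K B := ⟨fun a c x => by rw [hsmul, hsmul, map_smul, mul_smul_comm]⟩
  haveI : Module.Finite K B := Module.Finite.of_restrictScalars_finite k K B
  have hfin : Module.finrank K B = n := by
    have htower := Module.finrank_mul_finrank k K B
    rw [h, ← hn, sq] at htower
    exact Nat.eq_of_mul_eq_mul_left (Nat.pos_of_ne_zero hn0) htower
  let bK : Module.Basis (Fin n) K B := Module.finBasisOfFinrankEq K B hfin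
  let gR : B →+* Module.End K B :=
    { toFun := fun b =>
        { toFun := fun x => b * x
          map_add' := mul_add b
          map_smul' := fun c x => by simp only [hsmul, RingHom.id_apply, mul_assoc] }
      map_one' := by ext x; simp
      map_mul' := fun b b' => by ext x; simp [mul_assoc]
      map_zero' := by ext x; simp
      map_add' := fun b b' => by ext x; simp [add_mul] }
  let T := LinearMap.toMatrixAlgEquiv bK
  let ρ : B →ₐ[k] Matrix (Fin n) (Fin n) K :=
    { toRingHom := (T.toAlgHom.toRingHom).comp gR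
      commutes' := fun a => by
        show T (gR (algebraMap k B a)) = algebraMap k _ a
        have h1 : gR (algebraMap k B a) = algebraMap K (Module.End K B) (algebraMap k K a) := by
          ext x
          show algebraMap k B a * x = (algebraMap k K a) • x
          rw [hsmul, AlgHom.commutes, Algebra.commutes]
        rw [h1, AlgEquiv.commutes, ← IsScalarTower.algebraMap_apply] }
  exact splits_of_algHom k B K n hn0 (by rw [h, sq]) ρ

/-- Splitting fields only depend on the Brauer class. -/
theorem splits_of_matrix_algEquiv (k : Type u) [Field k] (A : Type v) [Ring A] [Algebra k A]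
    [Algebra.IsCentral k A] [IsSimpleRing A] [FiniteDimensional k A]
    (B : Type v) [Ring B] [Algebra k B]
    [Algebra.IsCentral k B] [IsSimpleRing B] [FiniteDimensional k B]
    (K : Type w) [Field K] [Algebra k K] (a b : ℕ) (ha : a ≠ 0) (hb : b ≠ 0)
    (e : Matrix (Fin a) (Fin a) A ≃ₐ[k] Matrix (Fin b) (Fin b) B) (h : Curves.Splits k B K) :
    Curves.Splits k A K := by
  classical
  obtain ⟨n, hn, ⟨eB⟩⟩ := h
  obtain ⟨m, hm, hAm⟩ := exists_finrank_eq_sq k A
  have hBn : Module.finrank k B = n * n := finrank_eq_of_splits eB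
  haveI : NeZero m := ⟨hm⟩
  haveI : NeZero n := ⟨hn⟩
  have hdim : a * m = b * n := by
    have h1 : Module.finrank k (Matrix (Fin a) (Fin a) A) =
        Module.finrank k (Matrix (Fin b) (Fin b) B) := e.toLinearEquiv.finrank_eq
    rw [Module.finrank_matrix, Module.finrank_matrix, hAm, hBn] at h1
    simp only [Fintype.card_fin] at h1
    have h2 : (a * m) * (a * m) = (b * n) * (b * n) := by
      calc (a * m) * (a * m) = a * a * (m * m) := by ring
        _ = b * b * (n * n) := h1
        _ = (b * n) * (b * n) := by ring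
    exact Nat.mul_self_inj.mp h2
  let c1 : Matrix (Fin a) (Fin a) (K ⊗[k] A) ≃ₐ[K]
      Matrix (Unit × Fin a) (Unit × Fin a) (K ⊗[k] A) :=
    (Matrix.reindexAlgEquiv K (K ⊗[k] A) (Equiv.punitProd (Fin a))).symm
  let c2 : Matrix (Unit × Fin a) (Unit × Fin a) (K ⊗[k] A) ≃ₐ[K]
      Matrix Unit Unit K ⊗[k] Matrix (Fin a) (Fin a) A :=
    (Matrix.kroneckerTMulAlgEquiv Unit (Fin a) k K K A).symm
  let c3 : Matrix Unit Unit K ⊗[k] Matrix (Fin a) (Fin a) A ≃ₐ[K]
      Matrix Unit Unit K ⊗[k] Matrix (Fin b) (Fin b) B :=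
    Algebra.TensorProduct.congr (AlgEquiv.refl : Matrix Unit Unit K ≃ₐ[K] _) e
  let c4 : Matrix Unit Unit K ⊗[k] Matrix (Fin b) (Fin b) B ≃ₐ[K]
      Matrix (Unit × Fin b) (Unit × Fin b) (K ⊗[k] B) :=
    Matrix.kroneckerTMulAlgEquiv Unit (Fin b) k K K B
  let c5 : Matrix (Unit × Fin b) (Unit × Fin b) (K ⊗[k] B) ≃ₐ[K]
      Matrix (Fin b) (Fin b) (K ⊗[k] B) :=
    Matrix.reindexAlgEquiv K (K ⊗[k] B) (Equiv.punitProd (Fin b))
  let c6 : Matrix (Fin b) (Fin b) (K ⊗[k] B) ≃ₐ[K]
      Matrix (Fin b) (Fin b) (Matrix (Fin n) (Fin n) K) := eB.mapMatrix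
  let c7 : Matrix (Fin b) (Fin b) (Matrix (Fin n) (Fin n) K) ≃ₐ[K]
      Matrix (Fin b × Fin n) (Fin b × Fin n) K := Matrix.compAlgEquiv (Fin b) (Fin n) K K
  let σ : Fin b × Fin n ≃ Fin a × Fin m :=
    Fintype.equivOfCardEq (by simp only [Fintype.card_prod, Fintype.card_fin]; exact hdim.symm)
  let c8 : Matrix (Fin b × Fin n) (Fin b × Fin n) K ≃ₐ[K]
      Matrix (Fin a × Fin m) (Fin a × Fin m) K := Matrix.reindexAlgEquiv K K σ
  let c9 : Matrix (Fin a × Fin m) (Fin a × Fin m) K ≃ₐ[K]
      Matrix (Fin a) (Fin a) (Matrix (Fin m) (Fin m) K) :=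
    (Matrix.compAlgEquiv (Fin a) (Fin m) K K).symm
  haveI := Groth.Agent.Lib.Helper59.CSA.isSimpleRing_baseChange k A K
  haveI := Groth.Agent.Lib.Helper59.CSA.isCentral_baseChange k A K
  obtain ⟨E⟩ := Groth.Agent.S13268.result K (K ⊗[k] A) (Matrix (Fin m) (Fin m) K) a ha
    (c1.trans (c2.trans (c3.trans (c4.trans (c5.trans (c6.trans (c7.trans (c8.trans c9))))))))
  exact ⟨m, hm, ⟨E⟩⟩

/-- A splitting field of `A` also splits the opposite algebra. -/
theorem splits_op (k : Type u) [Field k] (A : Type v) [Ring A] [Algebra k A]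
    [Algebra.IsCentral k A] [IsSimpleRing A] [FiniteDimensional k A]
    (K : Type w) [Field K] [Algebra k K] (h : Curves.Splits k A K) :
    Curves.Splits k Aᵐᵒᵖ K := by
  classical
  obtain ⟨n, hn, ⟨e⟩⟩ := h
  have hdim : Module.finrank k A = n * n := finrank_eq_of_splits e
  have hop : Module.finrank k Aᵐᵒᵖ = Module.finrank k A :=
    (MulOpposite.opLinearEquiv k (M := A)).symm.finrank_eq
  let e₀ : A →ₐ[k] Matrix (Fin n) (Fin n) K :=
    (e.toAlgHom.restrictScalars k).comp Algebra.TensorProduct.includeRight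
  let ρ : Aᵐᵒᵖ →ₐ[k] Matrix (Fin n) (Fin n) K :=
    (Matrix.transposeAlgEquiv (Fin n) k K).symm.toAlgHom.comp (AlgHom.op e₀)
  exact splits_of_algHom k Aᵐᵒᵖ K n hn (by rw [hop, hdim]) ρ

end Groth.Agent.Lib.Helper22.CSASplit
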