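import Mathlib
import Groth.Prelude.Def_Cyc
import Groth.Agent.Lib.Helper20.IrrCompLocFin
import Groth.Agent.Lib.Helper22.OrdFlat

/-!
helper22: principal divisors `Cyc.divFun δ ξ f` have locally finite support, and so do locally
finite sums of them.

* `maxpts_locfin` : maximal points of a closed subset of a locally Noetherian space are locally
  finite.
* `ordAt_unit_nbhd` : a nonzero `f ∈ κ(ξ)` has order zero along all `ξ ⤳ z` with `z` in some open
  neighbourhood of `ξ`.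
* `divFun_locfin`, `sum_divFun_locfin`.
-/

set_option autoImplicit false
universe u
open CategoryTheory AlgebraicGeometry TopologicalSpace Topology

namespace Groth.Agent.Lib.Helper22.DivLocFin

open Groth.Agent.Lib.Helper22.OrdFlat

lemma comp_of_max' {A : Type*} [TopologicalSpace A] [QuasiSober A] (t : A)
    (hmax : ∀ t' : A, t' ⤳ t → t' = t) : closure ({t} : Set A) ∈ irreducibleComponents A := by
  rw [irreducibleComponents_eq_maximals_closed]
  refine ⟨⟨isClosed_closure, isIrreducible_singleton.closure⟩, ?_⟩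
  rintro S ⟨hSc, hSi⟩ hle
  obtain ⟨g, hg⟩ := QuasiSober.sober hSi hSc
  have hgt : g ⤳ t := by
    rw [specializes_iff_mem_closure, hg.def]
    exact hle (subset_closure rfl)
  rw [← hg.def, hmax g hgt]

theorem maxpts_locfin {X : Type*} [TopologicalSpace X] [QuasiSober X] [T0Space X]
    (hX : ∀ x : X, ∃ U : Set X, IsOpen U ∧ x ∈ U ∧ NoetherianSpace U) (T : Set X)
    (hT : IsClosed T) (x : X) :
    ∃ V : Set X, IsOpen V ∧ x ∈ V ∧
      {z | z ∈ V ∧ z ∈ T ∧ ∀ z' ∈ T, z' ⤳ z → z' = z}.Finite := by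
  obtain ⟨t, ht, hfin⟩ :=
    Groth.Agent.Lib.Helper20.IrrCompLocFin.locallyFinite_irreducibleComponents_subset hX T x
  refine ⟨interior t, isOpen_interior, mem_interior_iff_mem_nhds.mpr ht, ?_⟩
  haveI : QuasiSober T := hT.isClosedEmbedding_subtypeVal.quasiSober
  have hmaxT : ∀ z : {z | z ∈ interior t ∧ z ∈ T ∧ ∀ z' ∈ T, z' ⤳ z → z' = z},
      ∀ t' : T, t' ⤳ (⟨z.1, z.2.2.1⟩ : T) → t' = ⟨z.1, z.2.2.1⟩ := by
    intro z t' ht'
    apply Subtype.ext
    exact z.2.2.2 t'.1 t'.2 (ht'.map continuous_subtype_val)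
  let g : {z | z ∈ interior t ∧ z ∈ T ∧ ∀ z' ∈ T, z' ⤳ z → z' = z} →
      {Z : irreducibleComponents T | (((↑) '' (Z : Set T) : Set X) ∩ t).Nonempty} :=
    fun z => ⟨⟨closure {(⟨z.1, z.2.2.1⟩ : T)}, comp_of_max' _ (hmaxT z)⟩,
      ⟨z.1, ⟨⟨z.1, z.2.2.1⟩, subset_closure rfl, rfl⟩, interior_subset z.2.1⟩⟩
  have hg : Function.Injective g := by
    intro z z' h
    have h1 : closure {(⟨z.1, z.2.2.1⟩ : T)} = closure {(⟨z'.1, z'.2.2.1⟩ : T)} :=
      congrArg (fun Z => ((Z.1 : irreducibleComponents T) : Set T)) h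
    have h2 : (⟨z.1, z.2.2.1⟩ : T) = ⟨z'.1, z'.2.2.1⟩ :=
      ((inseparable_iff_closure_eq).mpr h1).eq
    exact Subtype.ext (congrArg (fun w : T => (w : X)) h2)
  haveI : Finite {Z : irreducibleComponents T | (((↑) '' (Z : Set T) : Set X) ∩ t).Nonempty} :=
    hfin.to_subtype
  haveI := Finite.of_injective g hg
  exact Set.toFinite _

lemma ordFrac_unit {A : Type u} [CommRing A] {K : Type u} [Field K] [Algebra A K] (a : A)
    (ha : IsUnit a) : CycAlg.ordFrac A K (algebraMap A K a) = 0 := by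
  by_cases hA : IsNoetherianRing A ∧ Ring.KrullDimLE 1 A ∧ Nontrivial A ∧ IsFractionRing A K
  · have h1 : algebraMap A K a = algebraMap A K a / algebraMap A K 1 := by
      rw [map_one, div_one]
    have ord_unit : ∀ b : A, IsUnit b → Ring.ord A b = 0 := by
      intro b hb
      unfold Ring.ord
      rw [Module.length_eq_zero_iff, Ideal.Quotient.subsingleton_iff,
        Ideal.span_singleton_eq_top]
      exact hb
    rw [h1, ordFrac_div hA a 1 ha.mem_nonZeroDivisors (one_mem _), ord_unit a ha,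
      ord_unit 1 isUnit_one]
    simp
  · unfold CycAlg.ordFrac
    rw [dif_neg hA]

theorem ordAt_unit_nbhd {X : Scheme.{u}} (ξ : X) (f : X.residueField ξ) (hf : f ≠ 0) :
    ∃ W : X.Opens, ξ ∈ W ∧ ∀ z ∈ W, ∀ h : ξ ⤳ z, Cyc.ordAt z ξ h f = 0 := by
  obtain ⟨sξ, rfl⟩ := X.residue_surjective ξ f
  have hunit : IsUnit sξ := by
    by_contra hnu
    apply hf
    exact (IsLocalRing.residue_eq_zero_iff sξ).mpr hnu
  obtain ⟨W, hξW, s, hs⟩ := X.presheaf.germ_exist (x := ξ) sξ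
  refine ⟨X.basicOpen s, ?_, ?_⟩
  · rw [Scheme.mem_basicOpen _ _ _ hξW, hs]
    exact hunit
  · intro z hz h
    have hzW : z ∈ W := X.basicOpen_le s hz
    have hu : IsUnit (X.presheaf.germ W z hzW s) := (Scheme.mem_basicOpen _ _ _ hzW).mp hz
    have e : (X.residue ξ).hom sξ = algebraMap (Cyc.LocQuot z ξ h) (X.residueField ξ)
        (Ideal.Quotient.mk _ (X.presheaf.germ W z hzW s)) := by
      show _ = Cyc.specMap z ξ h (X.presheaf.germ W z hzW s)
      show _ = (X.residue ξ).hom ((X.presheaf.stalkSpecializes h).hom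
        (X.presheaf.germ W z hzW s))
      rw [← hs]
      congr 1
      exact (TopCat.Presheaf.germ_stalkSpecializes_apply X.presheaf hzW h s).symm
    unfold Cyc.ordAt
    rw [e]
    exact ordFrac_unit _ (hu.map _)

lemma scheme_locNoeth {X : Scheme.{u}} [IsLocallyNoetherian X] :
    ∀ x : X, ∃ U : Set X, IsOpen U ∧ x ∈ U ∧ NoetherianSpace U := by
  intro x
  obtain ⟨U, hU0, hxU, -⟩ := TopologicalSpace.Opens.isBasis_iff_nbhd.1 (X.isBasis_affineOpens)
    (show x ∈ (⊤ : X.Opens) from trivial)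
  have hU : IsAffineOpen U := hU0
  haveI : IsNoetherianRing Γ(X, U) := IsLocallyNoetherian.component_noetherian ⟨U, hU⟩
  exact ⟨U, U.isOpen, hxU, noetherianSpace_of_isAffineOpen U hU⟩

lemma divFun_ne_zero {X : Scheme.{u}} (δ : X → ℤ) (ξ : X) (f : X.residueField ξ) (z : X)
    (h : Cyc.divFun δ ξ f z ≠ 0) :
    ∃ hs : ξ ⤳ z, δ z + 1 = δ ξ ∧ Cyc.ordAt z ξ hs f ≠ 0 := by
  unfold Cyc.divFun at h
  by_cases c : ξ ⤳ z ∧ δ z + 1 = δ ξ
  · rw [dif_pos c] at h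
    exact ⟨c.1, c.2, h⟩
  · rw [dif_neg c] at h
    exact absurd rfl h

theorem divFun_locfin {X : Scheme.{u}} [IsLocallyNoetherian X] (δ : X → ℤ)
    (hδ : Cyc.IsDimFun X δ) (ξ : X) (f : X.residueField ξ) (hf : f ≠ 0) (x : X) :
    ∃ V : Set X, IsOpen V ∧ x ∈ V ∧ {z | z ∈ V ∧ Cyc.divFun δ ξ f z ≠ 0}.Finite := by
  obtain ⟨W, hξW, hW⟩ := ordAt_unit_nbhd ξ f hf
  have hT : IsClosed (closure ({ξ} : Set X) ∩ (W : Set X)ᶜ) :=
    isClosed_closure.inter W.isOpen.isClosed_compl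
  obtain ⟨V, hVo, hxV, hfin⟩ := maxpts_locfin scheme_locNoeth _ hT x
  refine ⟨V, hVo, hxV, hfin.subset ?_⟩
  rintro z ⟨hzV, hz⟩
  obtain ⟨hs, hd, hord⟩ := divFun_ne_zero δ ξ f z hz
  have hzW : z ∉ (W : Set X) := fun hzW => hord (hW z hzW hs)
  refine ⟨hzV, ⟨specializes_iff_mem_closure.mp hs, hzW⟩, ?_⟩
  rintro z' ⟨hz'1, hz'2⟩ hsp
  by_contra hne
  have h1 : ξ ⤳ z' := specializes_iff_mem_closure.mpr hz'1
  have hne' : ξ ≠ z' := by
    rintro rfl
    exact hz'2 hξW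
  have h2 := (hδ ξ z' h1 hne').1
  have h3 := (hδ z' z hsp hne).1
  omega

theorem sum_divFun_locfin {X : Scheme.{u}} [IsLocallyNoetherian X] (δ : X → ℤ)
    (hδ : Cyc.IsDimFun X δ) {ι : Type*} (ξ : ι → X) (f : (i : ι) → X.residueField (ξ i))
    (hf : ∀ i, f i ≠ 0)
    (hlf : ∀ x : X, ∃ U : Set X, IsOpen U ∧ x ∈ U ∧ {i | (closure {ξ i} ∩ U).Nonempty}.Finite)
    (x : X) :
    ∃ V : Set X, IsOpen V ∧ x ∈ V ∧
      {z | z ∈ V ∧ (∑ᶠ i, Cyc.divFun δ (ξ i) (f i) z) ≠ 0}.Finite := by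
  classical
  obtain ⟨U, hUo, hxU, hfin⟩ := hlf x
  choose V hVo hxV hVfin using fun i => divFun_locfin δ hδ (ξ i) (f i) (hf i) x
  refine ⟨U ∩ ⋂ i ∈ hfin.toFinset, V i, hUo.inter (isOpen_biInter_finset fun i _ => hVo i),
    ⟨hxU, Set.mem_iInter₂.mpr fun i _ => hxV i⟩, ?_⟩
  have hsub : {z | z ∈ U ∩ ⋂ i ∈ hfin.toFinset, V i ∧
      (∑ᶠ i, Cyc.divFun δ (ξ i) (f i) z) ≠ 0} ⊆
      ⋃ i ∈ hfin.toFinset, {z | z ∈ V i ∧ Cyc.divFun δ (ξ i) (f i) z ≠ 0} := by
    rintro z ⟨⟨hzU, hzV⟩, hz⟩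
    obtain ⟨i, hi⟩ : ∃ i, Cyc.divFun δ (ξ i) (f i) z ≠ 0 := by
      by_contra hall
      push Not at hall
      exact hz (finsum_eq_zero_of_forall_eq_zero hall)
    obtain ⟨hs, -, -⟩ := divFun_ne_zero δ (ξ i) (f i) z hi
    have hiF : i ∈ hfin.toFinset := by
      rw [Set.Finite.mem_toFinset]
      exact ⟨z, specializes_iff_mem_closure.mp hs, hzU⟩
    exact Set.mem_iUnion₂.mpr ⟨i, hiF, Set.mem_iInter₂.mp hzV i hiF, hi⟩
  exact (Set.Finite.biUnion hfin.toFinset.finite_toSet fun i _ => hVfin i).subset hsub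

end Groth.Agent.Lib.Helper22.DivLocFin
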