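import Mathlib
import Groth.Prelude.Def_Cyc
import Groth.Agent.Lib.Helper22.FlatDiv
import Groth.Agent.Lib.Helper22.DivLocFin

/-!
helper22: flat pullback preserves rational equivalence to zero (base-free version).
-/

set_option autoImplicit false
universe u
open CategoryTheory AlgebraicGeometry IsLocalRing
open Cyc

namespace Groth.Agent.Lib.Helper22.FlatRat

open Groth.Agent.S6479 (MaxFib)
open Groth.Agent.Lib.Helper22.OrdFlat Groth.Agent.Lib.Helper22.FlatDiv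
open Groth.Agent.Lib.Helper22.DivLocFin (maxpts_locfin scheme_locNoeth divFun_ne_zero)

lemma finsum_sigma_int {ι : Type*} {B : ι → Type*} (F : (Σ i, B i) → ℤ)
    (hF : (Function.support F).Finite) :
    ∑ᶠ s, F s = ∑ᶠ i, ∑ᶠ b : B i, F ⟨i, b⟩ := by
  classical
  set T := hF.toFinset with hT
  have hmemT : ∀ s, s ∈ T ↔ F s ≠ 0 := fun s => by rw [hT, Set.Finite.mem_toFinset]; rfl
  set I := T.image Sigma.fst with hI
  let Ti : ∀ i, Finset (B i) := fun i => T.preimage (Sigma.mk i) sigma_mk_injective.injOn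
  have hmemTi : ∀ i b, b ∈ Ti i ↔ F ⟨i, b⟩ ≠ 0 := by
    intro i b
    rw [Finset.mem_preimage, hmemT]
  have h1 : ∑ᶠ s, F s = ∑ s ∈ I.sigma Ti, F s := by
    apply finsum_eq_sum_of_support_subset
    intro s hs
    rw [Finset.mem_coe, Finset.mem_sigma]
    refine ⟨Finset.mem_image.mpr ⟨s, (hmemT s).mpr hs, rfl⟩, (hmemTi s.1 s.2).mpr hs⟩
  have h2 : ∀ i, ∑ᶠ b : B i, F ⟨i, b⟩ = ∑ b ∈ Ti i, F ⟨i, b⟩ := by
    intro i
    apply finsum_eq_sum_of_support_subset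
    intro b hb
    exact (hmemTi i b).mpr hb
  have h3 : ∑ᶠ i, ∑ᶠ b : B i, F ⟨i, b⟩ = ∑ i ∈ I, ∑ᶠ b : B i, F ⟨i, b⟩ := by
    apply finsum_eq_sum_of_support_subset
    intro i hi
    rw [Finset.mem_coe]
    by_contra hni
    apply hi
    apply finsum_eq_zero_of_forall_eq_zero
    intro b
    by_contra hb
    exact hni (Finset.mem_image.mpr ⟨⟨i, b⟩, (hmemT _).mpr hb, rfl⟩)
  rw [h1, h3, Finset.sum_sigma]
  exact Finset.sum_congr rfl (fun i _ => (h2 i).symm)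

lemma ordFrac_pow {A : Type u} [CommRing A] {K : Type u} [Field K] [Algebra A K] (g : K) (n : ℕ) :
    CycAlg.ordFrac A K (g ^ n) = n * CycAlg.ordFrac A K g := by
  by_cases hA : IsNoetherianRing A ∧ Ring.KrullDimLE 1 A ∧ Nontrivial A ∧ IsFractionRing A K
  · rw [ordFrac_eq_log hA, ordFrac_eq_log hA]
    haveI := hA.1; haveI := hA.2.1; haveI := hA.2.2.1; haveI := hA.2.2.2
    show WithZero.log (Ring.ordFrac A (g ^ n)) = n * WithZero.log (Ring.ordFrac A g)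
    rw [map_pow, WithZero.log_pow]
    simp
  · unfold CycAlg.ordFrac
    rw [dif_neg hA, dif_neg hA, mul_zero]

lemma divFun_pow {X : Scheme.{u}} (δ : X → ℤ) (ξ : X) (g : X.residueField ξ) (n : ℕ) (x : X) :
    divFun δ ξ (g ^ n) x = n * divFun δ ξ g x := by
  unfold divFun
  split_ifs with h
  · unfold ordAt
    exact ordFrac_pow g n
  · rw [mul_zero]

section main
variable {X' X : Scheme.{u}} (p : X' ⟶ X)

/-- a point generic in its fibre over `ξ` is a maximal point of `p⁻¹(closure {ξ})`. -/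
lemma max_in_preimage (ξ : X) (ξ' : X') (h1 : MaxFib p ξ') (h2 : p ξ' = ξ) :
    ξ' ∈ p ⁻¹' closure ({ξ} : Set X) ∧
      ∀ z ∈ p ⁻¹' closure ({ξ} : Set X), z ⤳ ξ' → z = ξ' := by
  refine ⟨?_, ?_⟩
  · show p ξ' ∈ closure {ξ}
    rw [h2]; exact subset_closure rfl
  · intro z hz hsp
    have hz1 : ξ ⤳ p z := specializes_iff_mem_closure.mpr hz
    have hz2 : p z ⤳ p ξ' := p.base.hom.map_specializes hsp
    rw [h2] at hz2
    have : p z = ξ := (hz2.antisymm hz1).eq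
    exact h1 z (this.trans h2.symm) hsp

lemma locfin_pull [IsLocallyNoetherian X'] {ι : Type*} (ξ : ι → X)
    (hlf : ∀ x : X, ∃ U : Set X, IsOpen U ∧ x ∈ U ∧ {i | (closure {ξ i} ∩ U).Nonempty}.Finite)
    (x' : X') :
    ∃ V : Set X', IsOpen V ∧ x' ∈ V ∧
      {s : Σ i, {ξ' : X' // MaxFib p ξ' ∧ p ξ' = ξ i} |
        (closure {s.2.1} ∩ V).Nonempty}.Finite := by
  classical
  obtain ⟨U, hUo, hxU, hfin⟩ := hlf (p x')
  have hcl : ∀ i, IsClosed (p ⁻¹' closure ({ξ i} : Set X)) :=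
    fun i => isClosed_closure.preimage p.continuous
  choose V hVo hxV hVfin using fun i => maxpts_locfin scheme_locNoeth _ (hcl i) x'
  refine ⟨p ⁻¹' U ∩ ⋂ i ∈ hfin.toFinset, V i,
    (hUo.preimage p.continuous).inter (isOpen_biInter_finset fun i _ => hVo i),
    ⟨hxU, Set.mem_iInter₂.mpr fun i _ => hxV i⟩, ?_⟩
  have hsub : {s : Σ i, {ξ' : X' // MaxFib p ξ' ∧ p ξ' = ξ i} |
      (closure {s.2.1} ∩ (p ⁻¹' U ∩ ⋂ i ∈ hfin.toFinset, V i)).Nonempty} ⊆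
      ⋃ i ∈ hfin.toFinset, Sigma.mk i '' {ξ' : {ξ' : X' // MaxFib p ξ' ∧ p ξ' = ξ i} |
        ξ'.1 ∈ {z | z ∈ V i ∧ z ∈ p ⁻¹' closure ({ξ i} : Set X) ∧
          ∀ z' ∈ p ⁻¹' closure ({ξ i} : Set X), z' ⤳ z → z' = z}} := by
    rintro ⟨i, ξ'⟩ ⟨z, hz1, hz2⟩
    have hsp : ξ'.1 ⤳ z := specializes_iff_mem_closure.mpr hz1
    have hV : ξ'.1 ∈ p ⁻¹' U ∩ ⋂ i ∈ hfin.toFinset, V i :=
      hsp.mem_open ((hUo.preimage p.continuous).inter
        (isOpen_biInter_finset fun i _ => hVo i)) hz2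
    have hiF : i ∈ hfin.toFinset := by
      rw [Set.Finite.mem_toFinset]
      refine ⟨ξ i, subset_closure rfl, ?_⟩
      have : p ξ'.1 ∈ U := hV.1
      rw [ξ'.2.2] at this; exact this
    have hm := max_in_preimage p (ξ i) ξ'.1 ξ'.2.1 ξ'.2.2
    exact Set.mem_iUnion₂.mpr ⟨i, hiF, ξ', ⟨Set.mem_iInter₂.mp hV.2 i hiF, hm.1, hm.2⟩, rfl⟩
  refine (Set.Finite.biUnion hfin.toFinset.finite_toSet fun i _ => ?_).subset hsub
  exact ((hVfin i).preimage Subtype.val_injective.injOn).image _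

variable [Flat p] [IsLocallyNoetherian X] [IsLocallyNoetherian X'] (δ : X → ℤ) (δ' : X' → ℤ)
  (hδ : Cyc.IsDimFun X δ) (hδ' : Cyc.IsDimFun X' δ') (c : ℤ)
  (hc : ∀ x' : X', MaxFib p x' → δ' x' = δ (p x') + c)

include hδ hδ' hc in
/-- **Flat pullback preserves rational equivalence to zero.** -/
theorem pull_ratEquivZero (k : ℤ) (α : X → ℤ)
    (h0 : ∃ (ι : Type u) (ξ : ι → X) (f : (i : ι) → X.residueField (ξ i)),
      (∀ i, δ (ξ i) = k + 1) ∧ (∀ i, f i ≠ 0) ∧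
      (∀ x : X, ∃ U : Set X, IsOpen U ∧ x ∈ U ∧ {i | (closure {ξ i} ∩ U).Nonempty}.Finite) ∧
      ∀ x : X, α x = ∑ᶠ i, divFun δ (ξ i) (f i) x) :
    ∃ (ι' : Type u) (ξ' : ι' → X') (f' : (i : ι') → X'.residueField (ξ' i)),
      (∀ i, δ' (ξ' i) = k + c + 1) ∧ (∀ i, f' i ≠ 0) ∧
      (∀ x : X', ∃ U : Set X', IsOpen U ∧ x ∈ U ∧ {i | (closure {ξ' i} ∩ U).Nonempty}.Finite) ∧
      ∀ x' : X', Cyc.pullFun p δ' δ c α x' = ∑ᶠ i, divFun δ' (ξ' i) (f' i) x' := by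
  obtain ⟨ι, ξ, f, hdim, hf0, hlf, hsum⟩ := h0
  refine ⟨Σ i, {ξ' : X' // MaxFib p ξ' ∧ p ξ' = ξ i}, fun s => s.2.1,
    fun s => (gUp p (ξ s.1) s.2.1 s.2.2.2 (f s.1)) ^ (fibLen p s.2.1).toNat, ?_, ?_, ?_, ?_⟩
  · intro s
    rw [hc _ s.2.2.1, s.2.2.2, hdim]
    ring
  · intro s
    apply pow_ne_zero
    unfold gUp
    rw [Ne, map_eq_zero, map_eq_zero]
    exact hf0 s.1
  · exact locfin_pull p ξ hlf
  · intro x'
    -- step 1: distribute the pullback over the sum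
    have h1 : Cyc.pullFun p δ' δ c α x' =
        ∑ᶠ i, Cyc.pullFun p δ' δ c (divFun δ (ξ i) (f i)) x' := by
      unfold Cyc.pullFun
      by_cases c1 : δ' x' = δ (p x') + c
      · simp only [if_pos c1]
        rw [hsum (p x'), finsum_mul]
      · simp only [if_neg c1]
        rw [finsum_zero]
    rw [h1]
    -- step 2: the pointwise formula
    have h2 : ∀ i, Cyc.pullFun p δ' δ c (divFun δ (ξ i) (f i)) x' =
        ∑ᶠ ξ' : {ξ' : X' // MaxFib p ξ' ∧ p ξ' = ξ i},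
          divFun δ' ξ'.1 ((gUp p (ξ i) ξ'.1 ξ'.2.2 (f i)) ^ (fibLen p ξ'.1).toNat) x' := by
      intro i
      rw [pull_div_point p δ δ' hδ hδ' c hc (ξ i) (f i) x']
      apply finsum_congr
      intro ξ'
      rw [divFun_pow]
    rw [finsum_congr h2]
    -- step 3: collect into a sum over the sigma type
    symm
    apply finsum_sigma_int
    obtain ⟨V, hVo, hxV, hVfin⟩ := locfin_pull p ξ hlf x'
    refine hVfin.subset ?_
    intro s hs
    have hs' : divFun δ' s.2.1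
        ((gUp p (ξ s.1) s.2.1 s.2.2.2 (f s.1)) ^ (fibLen p s.2.1).toNat) x' ≠ 0 := hs
    obtain ⟨hsp, -, -⟩ := divFun_ne_zero δ' _ _ x' hs'
    exact ⟨x', specializes_iff_mem_closure.mp hsp, hxV⟩

end main

end Groth.Agent.Lib.Helper22.FlatRat
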