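import Mathlib
import Groth.Prelude.Def_C1
import Groth.Agent.Lib.Helper22.InvStalk
import Groth.Agent.Lib.Helper22.C1Indep
import Groth.Agent.S8923
import Groth.Agent.Lib.Ample.Helper50_MulSec
import Groth.Agent.Lib.QCoh.TensorPic

/-!
helper22: the order of a rational section of an invertible module in a local trivialization, and the
tensor product of two rational sections: `ord(s ⊗ t) = ord(s) + ord(t)`.
-/

set_option autoImplicit false
universe u
open CategoryTheory AlgebraicGeometry IsLocalRing TopologicalSpace Opposite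
open Cyc

namespace Groth.Agent.Lib.Helper22.TensorOrd

open Groth.Agent.Lib.Helper22.InvStalk Groth.Agent.Lib.Helper22.OrdFlat
open Groth.Agent.Lib.Helper22.DivLocFin (ordFrac_unit)
open Groth.Agent.Lib.QCoh Groth.Agent.Lib.Ample
open Groth.Agent.S8923 (secOrdAt_triv)

section alg
variable {A : Type u} [CommRing A] {K : Type u} [Field K] [Algebra A K]

lemma ordFrac_mul' (hA : IsNoetherianRing A ∧ Ring.KrullDimLE 1 A ∧ Nontrivial A ∧
    IsFractionRing A K) (a b : K) (ha : a ≠ 0) (hb : b ≠ 0) :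
    CycAlg.ordFrac A K (a * b) = CycAlg.ordFrac A K a + CycAlg.ordFrac A K b := by
  rw [ordFrac_eq_log hA, ordFrac_eq_log hA, ordFrac_eq_log hA]
  haveI := hA.1; haveI := hA.2.1; haveI := hA.2.2.1; haveI := hA.2.2.2
  show WithZero.log (Ring.ordFrac A (a * b)) =
    WithZero.log (Ring.ordFrac A a) + WithZero.log (Ring.ordFrac A b)
  rw [map_mul, WithZero.log_mul ((map_ne_zero _).mpr ha) ((map_ne_zero _).mpr hb)]

end alg

variable {X : Scheme.{u}}

/-- the standing conditions on `O_{X,x}/𝔭_ξ` making `ordAt` additive. -/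
def Conds (x ξ : X) (h : ξ ⤳ x) : Prop :=
  IsNoetherianRing (LocQuot x ξ h) ∧ Ring.KrullDimLE 1 (LocQuot x ξ h) ∧
    Nontrivial (LocQuot x ξ h) ∧ IsFractionRing (LocQuot x ξ h) (X.residueField ξ)

lemma ordAt_mul {x ξ : X} {h : ξ ⤳ x} (hA : Conds x ξ h) (a b : X.residueField ξ) (ha : a ≠ 0)
    (hb : b ≠ 0) : ordAt x ξ h (a * b) = ordAt x ξ h a + ordAt x ξ h b :=
  ordFrac_mul' hA a b ha hb

lemma ordAt_specMap_unit {x ξ : X} (h : ξ ⤳ x) (a : X.presheaf.stalk x) (ha : IsUnit a) :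
    ordAt x ξ h (specMap x ξ h a) = 0 := by
  have e : specMap x ξ h a = algebraMap (LocQuot x ξ h) (X.residueField ξ)
      (Ideal.Quotient.mk _ a) := rfl
  unfold ordAt
  rw [e]
  exact ordFrac_unit _ (ha.map _)

variable {M : X.Modules}

/-- in a local trivialization `e`, the order of `s = φ • e` is the order of `φ`. -/
lemma secOrdAt_coord (hM : PicF.IsInvertible M) {U : X.Opens} {e : Γ(M, U)}
    (he : IsGenerator M U e) {ξ x : X} (h : ξ ⤳ x) (hxU : x ∈ U) (hA : Conds x ξ h)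
    (s : secFibre M ξ) (φ : X.presheaf.stalk ξ)
    (hs : s = φ • (Submodule.Quotient.mk
      (M.presheaf.germ U ξ (h.mem_open U.isOpen hxU) e) : secFibre M ξ)) :
    secOrdAt M ξ x h s = ordAt x ξ h ((X.residue ξ).hom φ) := by
  obtain ⟨a, φx, hau, hres, hord⟩ := secOrdAt_triv hM he h hxU s φ hs
  rw [hord, hres]
  by_cases h0 : (X.residue ξ).hom φx = 0
  · rw [h0, zero_mul]
  · have hne : specMap x ξ h a ≠ 0 := (hau.map (specMap x ξ h)).ne_zero
    rw [ordAt_mul hA _ _ h0 hne, ordAt_specMap_unit h a hau, add_zero]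

lemma span_germ_gen {U : X.Opens} {e : Γ(M, U)} (he : IsGenerator M U e) (x : X) (hx : x ∈ U) :
    Submodule.span (X.presheaf.stalk x) {M.presheaf.germ U x hx e} = ⊤ := by
  rw [eq_top_iff]
  intro m _
  obtain ⟨c, rfl⟩ := gen_span he x hx m
  exact Submodule.mem_span_singleton.mpr ⟨c, rfl⟩

/-- the class of a local generator is a basis of the fibre. -/
lemma isBasis_germ (hM : PicF.IsInvertible M) {U : X.Opens} {e : Γ(M, U)}
    (he : IsGenerator M U e) (ξ : X) (hξ : ξ ∈ U) :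
    IsBasis ξ (Submodule.Quotient.mk (M.presheaf.germ U ξ hξ e) : secFibre M ξ) := by
  have := isBasis_of_gen hM (specializes_rfl : ξ ⤳ ξ) _ (span_germ_gen he ξ hξ)
  rwa [sp_germ] at this

variable {L N : X.Modules}

/-- transition between two pairs of local generators, and the induced transition of the tensors. -/
lemma germ_transition {U U0 : X.Opens} {f : Γ(L, U)} {f' : Γ(N, U)}
    (hf : IsGenerator L U f) (hf' : IsGenerator N U f') (e0 : Γ(L, U0)) (e0' : Γ(N, U0))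
    (ξ : X) (hξ0 : ξ ∈ U0) (hξ : ξ ∈ U) :
    ∃ r r' : X.presheaf.stalk ξ,
      L.presheaf.germ U0 ξ hξ0 e0 = r • L.presheaf.germ U ξ hξ f ∧
      N.presheaf.germ U0 ξ hξ0 e0' = r' • N.presheaf.germ U ξ hξ f' ∧
      (CohB1.tensorMod L N).presheaf.germ U0 ξ hξ0 (tmulSect L N e0 e0') =
        (r * r') • (CohB1.tensorMod L N).presheaf.germ U ξ hξ (tmulSect L N f f') := by
  have hW : ξ ∈ U0 ⊓ U := ⟨hξ0, hξ⟩
  obtain ⟨ρ, hρ⟩ := (hf (U0 ⊓ U) inf_le_right).2 (resSec L inf_le_left e0)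
  obtain ⟨ρ', hρ'⟩ := (hf' (U0 ⊓ U) inf_le_right).2 (resSec N inf_le_left e0')
  have hρ1 : ρ • resSec L (inf_le_right : U0 ⊓ U ≤ U) f = resSec L inf_le_left e0 := hρ
  have hρ1' : ρ' • resSec N (inf_le_right : U0 ⊓ U ≤ U) f' = resSec N inf_le_left e0' := hρ'
  refine ⟨X.presheaf.germ (U0 ⊓ U) ξ hW ρ, X.presheaf.germ (U0 ⊓ U) ξ hW ρ', ?_, ?_, ?_⟩
  · rw [← germ_resSec (L := L) (inf_le_left : U0 ⊓ U ≤ U0) ξ hW e0, ← hρ1, germ_smul, germ_resSec]
  · rw [← germ_resSec (L := N) (inf_le_left : U0 ⊓ U ≤ U0) ξ hW e0', ← hρ1', germ_smul,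
      germ_resSec]
  · have h1 : resSec (CohB1.tensorMod L N) (inf_le_left : U0 ⊓ U ≤ U0) (tmulSect L N e0 e0') =
        (ρ * ρ') • resSec (CohB1.tensorMod L N) (inf_le_right : U0 ⊓ U ≤ U) (tmulSect L N f f') := by
      have a1 := tmulSect_res (homOfLE (inf_le_left : U0 ⊓ U ≤ U0)) e0 e0'
      have a2 := tmulSect_res (homOfLE (inf_le_right : U0 ⊓ U ≤ U)) f f'
      show (CohB1.tensorMod L N).presheaf.map (homOfLE _).op (tmulSect L N e0 e0') =
        (ρ * ρ') • (CohB1.tensorMod L N).presheaf.map (homOfLE _).op (tmulSect L N f f')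
      rw [a1, a2]
      show tmulSect L N (resSec L inf_le_left e0) (resSec N inf_le_left e0') = _
      rw [← hρ1, ← hρ1', tmulSect_smul_left, tmulSect_smul_right, smul_smul]
    rw [← germ_resSec (L := CohB1.tensorMod L N) (inf_le_left : U0 ⊓ U ≤ U0) ξ hW, h1, germ_smul,
      germ_resSec, map_mul]

theorem exists_tensor_section (hL : PicF.IsInvertible L) (hN : PicF.IsInvertible N) (ξ : X)
    (s : secFibre L ξ) (t : secFibre N ξ) (hs : s ≠ 0) (ht : t ≠ 0) :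
    ∃ w : secFibre (CohB1.tensorMod L N) ξ, w ≠ 0 ∧ ∀ (x : X) (h : ξ ⤳ x), Conds x ξ h →
      secOrdAt (CohB1.tensorMod L N) ξ x h w = secOrdAt L ξ x h s + secOrdAt N ξ x h t := by
  have hLN : PicF.IsInvertible (CohB1.tensorMod L N) := isInvertible_tensorMod hL hN
  obtain ⟨U1, hξ1, e1, he1⟩ := exists_isGenerator_of_isInvertible hL ξ
  obtain ⟨U2, hξ2, e2, he2⟩ := exists_isGenerator_of_isInvertible hN ξ
  have hξ0 : ξ ∈ U1 ⊓ U2 := ⟨hξ1, hξ2⟩
  have he0 := he1.res (inf_le_left : U1 ⊓ U2 ≤ U1)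
  have he0' := he2.res (inf_le_right : U1 ⊓ U2 ≤ U2)
  obtain ⟨e0, hee0⟩ : ∃ e0 : Γ(L, U1 ⊓ U2), e0 = L.presheaf.map (homOfLE inf_le_left).op e1 :=
    ⟨_, rfl⟩
  obtain ⟨e0', hee0'⟩ : ∃ e0' : Γ(N, U1 ⊓ U2), e0' = N.presheaf.map (homOfLE inf_le_right).op e2 :=
    ⟨_, rfl⟩
  rw [← hee0] at he0
  rw [← hee0'] at he0'
  have hb := isBasis_germ hL he0 ξ hξ0
  have hb' := isBasis_germ hN he0' ξ hξ0
  have hbt := isBasis_germ hLN (he0.tmul he0') ξ hξ0
  obtain ⟨φ0, hφ0⟩ := hb.1 s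
  obtain ⟨ψ0, hψ0⟩ := hb'.1 t
  have hφu : φ0 ∉ maximalIdeal (X.presheaf.stalk ξ) := by
    intro hm
    apply hs
    rw [hφ0]
    exact max_smul_eq_zero _ φ0 hm _
  have hψu : ψ0 ∉ maximalIdeal (X.presheaf.stalk ξ) := by
    intro hm
    apply ht
    rw [hψ0]
    exact max_smul_eq_zero _ ψ0 hm _
  refine ⟨(φ0 * ψ0) • (Submodule.Quotient.mk ((CohB1.tensorMod L N).presheaf.germ (U1 ⊓ U2) ξ hξ0
    (tmulSect L N e0 e0')) : secFibre (CohB1.tensorMod L N) ξ), ?_, ?_⟩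
  · intro h0
    have := hbt.2 _ h0
    rcases (Ideal.IsPrime.mem_or_mem (IsLocalRing.maximalIdeal.isMaximal _).isPrime this) with h | h
    · exact hφu h
    · exact hψu h
  · intro x h hA
    obtain ⟨V1, hx1, f1, hf1⟩ := exists_isGenerator_of_isInvertible hL x
    obtain ⟨V2, hx2, f2, hf2⟩ := exists_isGenerator_of_isInvertible hN x
    have hxU : x ∈ V1 ⊓ V2 := ⟨hx1, hx2⟩
    have hf := hf1.res (inf_le_left : V1 ⊓ V2 ≤ V1)
    have hf' := hf2.res (inf_le_right : V1 ⊓ V2 ≤ V2)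
    obtain ⟨f, hff⟩ : ∃ f : Γ(L, V1 ⊓ V2), f = L.presheaf.map (homOfLE inf_le_left).op f1 :=
      ⟨_, rfl⟩
    obtain ⟨f', hff'⟩ : ∃ f' : Γ(N, V1 ⊓ V2), f' = N.presheaf.map (homOfLE inf_le_right).op f2 :=
      ⟨_, rfl⟩
    rw [← hff] at hf
    rw [← hff'] at hf'
    have hξU : ξ ∈ V1 ⊓ V2 := h.mem_open (V1 ⊓ V2).isOpen hxU
    obtain ⟨r, r', h1, h2, h3⟩ := germ_transition hf hf' e0 e0' ξ hξ0 hξU
    have es : s = (φ0 * r) • (Submodule.Quotient.mk
        (L.presheaf.germ (V1 ⊓ V2) ξ hξU f) : secFibre L ξ) := by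
      rw [hφ0, h1, Submodule.Quotient.mk_smul, smul_smul]
    have et : t = (ψ0 * r') • (Submodule.Quotient.mk
        (N.presheaf.germ (V1 ⊓ V2) ξ hξU f') : secFibre N ξ) := by
      rw [hψ0, h2, Submodule.Quotient.mk_smul, smul_smul]
    have ew : (φ0 * ψ0) • (Submodule.Quotient.mk ((CohB1.tensorMod L N).presheaf.germ (U1 ⊓ U2) ξ hξ0
        (tmulSect L N e0 e0')) : secFibre (CohB1.tensorMod L N) ξ) =
        ((φ0 * r) * (ψ0 * r')) • (Submodule.Quotient.mk
        ((CohB1.tensorMod L N).presheaf.germ (V1 ⊓ V2) ξ hξU (tmulSect L N f f')) :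
          secFibre (CohB1.tensorMod L N) ξ) := by
      rw [h3, Submodule.Quotient.mk_smul, smul_smul]
      congr 1
      ring
    rw [secOrdAt_coord hL hf h hxU hA s _ es, secOrdAt_coord hN hf' h hxU hA t _ et,
      secOrdAt_coord hLN (hf.tmul hf') h hxU hA _ _ ew, map_mul]
    have n1 : (X.residue ξ).hom (φ0 * r) ≠ 0 := by
      intro h0
      apply hs
      rw [es]
      exact max_smul_eq_zero _ _ ((IsLocalRing.residue_eq_zero_iff _).mp h0) _
    have n2 : (X.residue ξ).hom (ψ0 * r') ≠ 0 := by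
      intro h0
      apply ht
      rw [et]
      exact max_smul_eq_zero _ _ ((IsLocalRing.residue_eq_zero_iff _).mp h0) _
    exact ordAt_mul hA _ _ n1 n2

end Groth.Agent.Lib.Helper22.TensorOrd
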