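import Mathlib
import Groth.Prelude.Def_C1
import Groth.Agent.Lib.Helper22.TensorOrd
import Groth.Agent.Lib.Helper22.FlatRat
import Groth.Agent.Lib.Helper56.PullTensorB

/-!
helper22: flat pullback commutes with `c_1(L) ∩ -` (pointwise, for the pulled back rational
sections).
-/

set_option autoImplicit false
universe u
open CategoryTheory AlgebraicGeometry IsLocalRing TopologicalSpace Opposite
open Cyc

namespace Groth.Agent.Lib.Helper22.PullC1

open Groth.Agent.Lib.Helper22.InvStalk Groth.Agent.Lib.Helper22.OrdFlat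
open Groth.Agent.Lib.Helper22.TensorOrd
open Groth.Agent.Lib.QCoh Groth.Agent.Lib.Ample Groth.Agent.Lib.Proj.PullSec
open Groth.Agent.Lib.Helper56.PullTensor

variable {X' X : Scheme.{u}} (p : X' ⟶ X) {L : X.Modules}

/-- germs of pulled back sections: semilinearity along the stalk map. -/
lemma germ_pullSecOn_smul (V : X.Opens) (a : Γ(X, V)) (l : Γ(L, V)) (ξ' : X')
    (hξ : p ξ' ∈ V) :
    ((Scheme.Modules.pullback p).obj L).presheaf.germ (p ⁻¹ᵁ V) ξ' hξ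
        (pullSecOn p L V (a • l)) =
      (p.stalkMap ξ').hom (X.presheaf.germ V (p ξ') hξ a) •
        ((Scheme.Modules.pullback p).obj L).presheaf.germ (p ⁻¹ᵁ V) ξ' hξ
          (pullSecOn p L V l) := by
  rw [pullSecOn_smul, germ_smul]
  congr 1
  exact (Scheme.Hom.germ_stalkMap_apply p V ξ' hξ a).symm

lemma germ_pullSecOn_res {V W : X.Opens} (h : W ≤ V) (l : Γ(L, V)) (ξ' : X') (hξ : p ξ' ∈ W) :
    ((Scheme.Modules.pullback p).obj L).presheaf.germ (p ⁻¹ᵁ W) ξ' hξ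
        (pullSecOn p L W (resSec L h l)) =
      ((Scheme.Modules.pullback p).obj L).presheaf.germ (p ⁻¹ᵁ V) ξ' (h hξ)
        (pullSecOn p L V l) := by
  rw [← pullSecOn_res p L h l]
  exact germ_resSec (L := (Scheme.Modules.pullback p).obj L)
    ((Opens.map p.base).map (homOfLE h)).le ξ' hξ _

/-- transition of pulled back generators. -/
lemma germ_pull_transition {V V0 : X.Opens} {e : Γ(L, V)} (he : IsGenerator L V e)
    (e0 : Γ(L, V0)) (ξ' : X') (hξ0 : p ξ' ∈ V0) (hξ : p ξ' ∈ V) :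
    ∃ r : X.presheaf.stalk (p ξ'),
      L.presheaf.germ V0 (p ξ') hξ0 e0 = r • L.presheaf.germ V (p ξ') hξ e ∧
      ((Scheme.Modules.pullback p).obj L).presheaf.germ (p ⁻¹ᵁ V0) ξ' hξ0
          (pullSecOn p L V0 e0) =
        (p.stalkMap ξ').hom r •
          ((Scheme.Modules.pullback p).obj L).presheaf.germ (p ⁻¹ᵁ V) ξ' hξ
            (pullSecOn p L V e) := by
  have hW : p ξ' ∈ V0 ⊓ V := ⟨hξ0, hξ⟩
  obtain ⟨ρ, hρ⟩ := (he (V0 ⊓ V) inf_le_right).2 (resSec L inf_le_left e0)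
  have hρ1 : ρ • resSec L (inf_le_right : V0 ⊓ V ≤ V) e = resSec L inf_le_left e0 := hρ
  refine ⟨X.presheaf.germ (V0 ⊓ V) (p ξ') hW ρ, ?_, ?_⟩
  · rw [← germ_resSec (L := L) (inf_le_left : V0 ⊓ V ≤ V0) (p ξ') hW e0, ← hρ1, germ_smul,
      germ_resSec]
  · rw [← germ_pullSecOn_res p (inf_le_left : V0 ⊓ V ≤ V0) e0 ξ' hW, ← hρ1,
      germ_pullSecOn_smul, germ_pullSecOn_res]

lemma stalkMap_mem_max (ξ' : X') (a : X.presheaf.stalk (p ξ'))
    (ha : a ∈ maximalIdeal (X.presheaf.stalk (p ξ'))) :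
    (p.stalkMap ξ').hom a ∈ maximalIdeal (X'.presheaf.stalk ξ') := by
  rw [mem_maximalIdeal, mem_nonunits_iff] at ha ⊢
  intro hu
  exact ha (isUnit_of_map_unit (p.stalkMap ξ').hom a hu)

/-- the pulled back rational section, characterised through all local generators. -/
theorem exists_pullSection (hL : PicF.IsInvertible L) (v : (ξ : X) → secFibre L ξ) (ξ' : X') :
    ∃ s' : secFibre ((Scheme.Modules.pullback p).obj L) ξ',
      ∀ (V : X.Opens) (e : Γ(L, V)) (_ : IsGenerator L V e) (hξ : p ξ' ∈ V)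
        (φ : X.presheaf.stalk (p ξ')),
        v (p ξ') = φ • (Submodule.Quotient.mk (L.presheaf.germ V (p ξ') hξ e) :
          secFibre L (p ξ')) →
        s' = (p.stalkMap ξ').hom φ • (Submodule.Quotient.mk
          (((Scheme.Modules.pullback p).obj L).presheaf.germ (p ⁻¹ᵁ V) ξ' hξ
            (pullSecOn p L V e)) : secFibre ((Scheme.Modules.pullback p).obj L) ξ') := by
  obtain ⟨V0, hξ0, e0, he0⟩ := exists_isGenerator_of_isInvertible hL (p ξ')
  obtain ⟨φ0, hφ0⟩ := (isBasis_germ hL he0 (p ξ') hξ0).1 (v (p ξ'))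
  refine ⟨(p.stalkMap ξ').hom φ0 • (Submodule.Quotient.mk
    (((Scheme.Modules.pullback p).obj L).presheaf.germ (p ⁻¹ᵁ V0) ξ' hξ0
      (pullSecOn p L V0 e0)) : secFibre ((Scheme.Modules.pullback p).obj L) ξ'), ?_⟩
  intro V e he hξ φ hφ
  obtain ⟨r, h1, h2⟩ := germ_pull_transition p he e0 ξ' hξ0 hξ
  have hb := isBasis_germ hL he (p ξ') hξ
  have hmem : φ - φ0 * r ∈ maximalIdeal (X.presheaf.stalk (p ξ')) := by
    apply hb.2
    rw [sub_smul, ← hφ, hφ0, h1, Submodule.Quotient.mk_smul, smul_smul, sub_self]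
  rw [h2, Submodule.Quotient.mk_smul, smul_smul, ← map_mul, ← sub_eq_zero, ← sub_smul, ← map_sub]
  have := stalkMap_mem_max p ξ' _ hmem
  have h3 := max_smul_eq_zero ξ' _ this (Submodule.Quotient.mk
    (((Scheme.Modules.pullback p).obj L).presheaf.germ (p ⁻¹ᵁ V) ξ' hξ
      (pullSecOn p L V e)) : secFibre ((Scheme.Modules.pullback p).obj L) ξ')
  rw [← neg_sub, map_neg, neg_smul, h3, neg_zero]

/-- local coordinates of `v` and of the pulled back sections near a point `x'`. -/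
theorem exists_local_coord (hL : PicF.IsInvertible L) (v : (ξ : X) → secFibre L ξ)
    (s' : (ξ' : X') → secFibre ((Scheme.Modules.pullback p).obj L) ξ')
    (hs' : ∀ (ξ' : X') (V : X.Opens) (e : Γ(L, V)) (_ : IsGenerator L V e) (hξ : p ξ' ∈ V)
        (φ : X.presheaf.stalk (p ξ')),
        v (p ξ') = φ • (Submodule.Quotient.mk (L.presheaf.germ V (p ξ') hξ e) :
          secFibre L (p ξ')) →
        s' ξ' = (p.stalkMap ξ').hom φ • (Submodule.Quotient.mk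
          (((Scheme.Modules.pullback p).obj L).presheaf.germ (p ⁻¹ᵁ V) ξ' hξ
            (pullSecOn p L V e)) : secFibre ((Scheme.Modules.pullback p).obj L) ξ'))
    (x' : X') :
    ∃ g : (ξ : X) → X.residueField ξ,
      (∀ (ξ : X) (h : ξ ⤳ p x'), Conds (p x') ξ h →
        secOrdAt L ξ (p x') h (v ξ) = ordAt (p x') ξ h (g ξ)) ∧
      (∀ (ξ' : X') (h' : ξ' ⤳ x'), Conds x' ξ' h' →
        secOrdAt ((Scheme.Modules.pullback p).obj L) ξ' x' h' (s' ξ') =
          ordAt x' ξ' h' ((p.residueFieldMap ξ').hom (g (p ξ')))) := by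
  classical
  obtain ⟨V, hVaff, hxV, -, e, he⟩ :=
    exists_isAffineOpen_isGenerator_of_isInvertible hL (p x') ⊤ trivial
  have hL' : PicF.IsInvertible ((Scheme.Modules.pullback p).obj L) := isInvertible_pullback p hL
  obtain ⟨W, hWaff, hx'W, hWV, pW, hpW⟩ :=
    exists_isAffineOpen_isGenerator_of_isInvertible hL' x' (p ⁻¹ᵁ V) hxV
  have he' := isGenerator_res_pullSecOn p hL hVaff he hWaff hWV hpW
  have hφ : ∀ (ξ : X) (hξ : ξ ∈ V), ∃ φ : X.presheaf.stalk ξ,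
      v ξ = φ • (Submodule.Quotient.mk (L.presheaf.germ V ξ hξ e) : secFibre L ξ) :=
    fun ξ hξ => (isBasis_germ hL he ξ hξ).1 (v ξ)
  choose φ hφ using hφ
  refine ⟨fun ξ => if hξ : ξ ∈ V then (X.residue ξ).hom (φ ξ hξ) else 0, ?_, ?_⟩
  · intro ξ h hA
    have hξ : ξ ∈ V := h.mem_open V.isOpen hxV
    simp only [dif_pos hξ]
    exact secOrdAt_coord hL he h hxV hA (v ξ) (φ ξ hξ) (hφ ξ hξ)
  · intro ξ' h' hA'
    have hξ'W : ξ' ∈ W := h'.mem_open W.isOpen hx'W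
    have hξ : p ξ' ∈ V := hWV hξ'W
    simp only [dif_pos hξ]
    have e1 := hs' ξ' V e he hξ (φ (p ξ') hξ) (hφ (p ξ') hξ)
    have e2 : ((Scheme.Modules.pullback p).obj L).presheaf.germ (p ⁻¹ᵁ V) ξ' hξ
        (pullSecOn p L V e) =
        ((Scheme.Modules.pullback p).obj L).presheaf.germ W ξ' hξ'W
          (resSec ((Scheme.Modules.pullback p).obj L) hWV (pullSecOn p L V e)) :=
      (germ_resSec (L := (Scheme.Modules.pullback p).obj L) hWV ξ' hξ'W _).symm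
    rw [e2] at e1
    rw [secOrdAt_coord hL' he' h' hx'W hA' (s' ξ') _ e1]
    have h3 := Scheme.residue_residueFieldMap p ξ'
    have h4 : (p.residueFieldMap ξ').hom ((X.residue (p ξ')).hom (φ (p ξ') hξ)) =
        (X'.residue ξ').hom ((p.stalkMap ξ').hom (φ (p ξ') hξ)) :=
      congrArg (fun k => k.hom (φ (p ξ') hξ)) h3
    rw [h4]

/-- the pulled back sections are nonzero. -/
lemma pullSection_ne_zero (hL : PicF.IsInvertible L) (v : (ξ : X) → secFibre L ξ)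
    (s' : (ξ' : X') → secFibre ((Scheme.Modules.pullback p).obj L) ξ')
    (hs' : ∀ (ξ' : X') (V : X.Opens) (e : Γ(L, V)) (_ : IsGenerator L V e) (hξ : p ξ' ∈ V)
        (φ : X.presheaf.stalk (p ξ')),
        v (p ξ') = φ • (Submodule.Quotient.mk (L.presheaf.germ V (p ξ') hξ e) :
          secFibre L (p ξ')) →
        s' ξ' = (p.stalkMap ξ').hom φ • (Submodule.Quotient.mk
          (((Scheme.Modules.pullback p).obj L).presheaf.germ (p ⁻¹ᵁ V) ξ' hξ
            (pullSecOn p L V e)) : secFibre ((Scheme.Modules.pullback p).obj L) ξ'))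
    (ξ' : X') (hv : v (p ξ') ≠ 0) : s' ξ' ≠ 0 := by
  obtain ⟨V, hVaff, hxV, -, e, he⟩ :=
    exists_isAffineOpen_isGenerator_of_isInvertible hL (p ξ') ⊤ trivial
  have hL' : PicF.IsInvertible ((Scheme.Modules.pullback p).obj L) := isInvertible_pullback p hL
  obtain ⟨W, hWaff, hx'W, hWV, pW, hpW⟩ :=
    exists_isAffineOpen_isGenerator_of_isInvertible hL' ξ' (p ⁻¹ᵁ V) hxV
  have he' := isGenerator_res_pullSecOn p hL hVaff he hWaff hWV hpW
  obtain ⟨φ, hφ⟩ := (isBasis_germ hL he (p ξ') hxV).1 (v (p ξ'))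
  have hφu : IsUnit φ := by
    by_contra hnu
    apply hv
    rw [hφ]
    exact max_smul_eq_zero _ φ hnu _
  have e1 := hs' ξ' V e he hxV φ hφ
  have e2 : ((Scheme.Modules.pullback p).obj L).presheaf.germ (p ⁻¹ᵁ V) ξ' hxV
      (pullSecOn p L V e) =
      ((Scheme.Modules.pullback p).obj L).presheaf.germ W ξ' hx'W
        (resSec ((Scheme.Modules.pullback p).obj L) hWV (pullSecOn p L V e)) :=
    (germ_resSec (L := (Scheme.Modules.pullback p).obj L) hWV ξ' hx'W _).symm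
  rw [e2] at e1
  intro h0
  have hb := isBasis_germ hL' he' ξ' hx'W
  have hm := hb.2 _ (e1.symm.trans h0)
  have hu : IsUnit ((p.stalkMap ξ').hom φ) := hφu.map _
  exact hm hu

section main
open Groth.Agent.S6479 (MaxFib dim_iff)
open Groth.Agent.Lib.Helper22.FlatDiv (locQuot_conds fibLen gUp pull_div_point)
open Groth.Agent.Lib.Helper22.FlatRat (finsum_sigma_int locfin_pull)
open Groth.Agent.Lib.Helper22.DivLocFin (divFun_ne_zero)
open Groth.Agent.Lib.Helper22.C1Indep (divFun_zpow)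

variable [Flat p] [IsLocallyNoetherian X] [IsLocallyNoetherian X'] (δ : X → ℤ) (δ' : X' → ℤ)
  (hδ : Cyc.IsDimFun X δ) (hδ' : Cyc.IsDimFun X' δ') (c : ℤ)
  (hc : ∀ x' : X', MaxFib p x' → δ' x' = δ (p x') + c)

include hδ hδ' hc in
/-- pointwise flat pullback of a locally finite sum of principal divisors. -/
theorem pull_sum_point {ι : Type u} (ξ : ι → X) (f : (i : ι) → X.residueField (ξ i))
    (hlf : ∀ x : X, ∃ U : Set X, IsOpen U ∧ x ∈ U ∧ {i | (closure {ξ i} ∩ U).Nonempty}.Finite)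
    (x' : X') :
    Cyc.pullFun p δ' δ c (fun y => ∑ᶠ i, divFun δ (ξ i) (f i) y) x' =
      ∑ᶠ s : Σ i, {ξ' : X' // MaxFib p ξ' ∧ p ξ' = ξ i},
        ((fibLen p s.2.1).toNat : ℤ) *
          divFun δ' s.2.1 (gUp p (ξ s.1) s.2.1 s.2.2.2 (f s.1)) x' := by
  have h1 : Cyc.pullFun p δ' δ c (fun y => ∑ᶠ i, divFun δ (ξ i) (f i) y) x' =
      ∑ᶠ i, Cyc.pullFun p δ' δ c (divFun δ (ξ i) (f i)) x' := by
    unfold Cyc.pullFun
    by_cases c1 : δ' x' = δ (p x') + c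
    · simp only [if_pos c1]
      rw [finsum_mul]
    · simp only [if_neg c1]
      rw [finsum_zero]
  rw [h1, finsum_congr (fun i => pull_div_point p δ δ' hδ hδ' c hc (ξ i) (f i) x')]
  symm
  apply finsum_sigma_int
  obtain ⟨V, hVo, hxV, hVfin⟩ := locfin_pull p ξ hlf x'
  refine hVfin.subset ?_
  intro s hs
  have hs' : ((fibLen p s.2.1).toNat : ℤ) *
      divFun δ' s.2.1 (gUp p (ξ s.1) s.2.1 s.2.2.2 (f s.1)) x' ≠ 0 := hs
  obtain ⟨hsp, -, -⟩ := divFun_ne_zero δ' _ _ x' (right_ne_zero_of_mul hs')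
  exact ⟨x', specializes_iff_mem_closure.mp hsp, hxV⟩

include hδ hδ' hc in
/-- **Flat pullback commutes with `c_1(L) ∩ -`**, pointwise, for the pulled back sections. -/
theorem pull_c1Cap (hL : PicF.IsInvertible L) (α : AlgebraicCycle X ℤ)
    (v : (ξ : X) → secFibre L ξ)
    (s' : (ξ' : X') → secFibre ((Scheme.Modules.pullback p).obj L) ξ')
    (hs' : ∀ (ξ' : X') (V : X.Opens) (e : Γ(L, V)) (_ : IsGenerator L V e) (hξ : p ξ' ∈ V)
        (φ : X.presheaf.stalk (p ξ')),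
        v (p ξ') = φ • (Submodule.Quotient.mk (L.presheaf.germ V (p ξ') hξ e) :
          secFibre L (p ξ')) →
        s' ξ' = (p.stalkMap ξ').hom φ • (Submodule.Quotient.mk
          (((Scheme.Modules.pullback p).obj L).presheaf.germ (p ⁻¹ᵁ V) ξ' hξ
            (pullSecOn p L V e)) : secFibre ((Scheme.Modules.pullback p).obj L) ξ'))
    (x' : X') :
    Cyc.pullFun p δ' δ c (c1CapFun δ L (⇑α) v) x' =
      c1CapFun δ' ((Scheme.Modules.pullback p).obj L) (Cyc.pullFun p δ' δ c ⇑α) s' x' := by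
  classical
  obtain ⟨g, hg1, hg2⟩ := exists_local_coord p hL v s' hs' x'
  have hlf : ∀ x : X, ∃ U : Set X, IsOpen U ∧ x ∈ U ∧
      {i : {ξ : X // α ξ ≠ 0} | (closure {i.1} ∩ U).Nonempty}.Finite := by
    intro x
    obtain ⟨t', ht', hfin⟩ := α.supportLocallyFiniteWithinDomain' x (Set.mem_univ x)
    refine ⟨interior t', isOpen_interior, mem_interior_iff_mem_nhds.mpr ht', ?_⟩
    have : {i : {ξ : X // α ξ ≠ 0} | (closure {i.1} ∩ interior t').Nonempty} ⊆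
        Subtype.val ⁻¹' (t' ∩ Function.support ⇑α) := by
      rintro i ⟨z, hz1, hz2⟩
      have hsp : i.1 ⤳ z := specializes_iff_mem_closure.mpr hz1
      exact ⟨interior_subset (hsp.mem_open isOpen_interior hz2), i.2⟩
    exact (hfin.preimage Subtype.val_injective.injOn).subset this
  -- the left hand side
  have hL1 : Cyc.pullFun p δ' δ c (c1CapFun δ L (⇑α) v) x' =
      Cyc.pullFun p δ' δ c (fun y => ∑ᶠ i : {ξ : X // α ξ ≠ 0},
        divFun δ i.1 (g i.1 ^ α i.1) y) x' := by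
    unfold Cyc.pullFun
    by_cases c1 : δ' x' = δ (p x') + c
    · rw [if_pos c1, if_pos c1]
      congr 1
      unfold c1CapFun
      have hterm : ∀ ξ : X, α ξ * secDivFun δ L ξ (v ξ) (p x') =
          divFun δ ξ (g ξ ^ α ξ) (p x') := by
        intro ξ
        rw [divFun_zpow]
        congr 1
        unfold secDivFun divFun
        by_cases h : ξ ⤳ p x' ∧ δ (p x') + 1 = δ ξ
        · rw [dif_pos h, dif_pos h]
          exact hg1 ξ h.1 (locQuot_conds δ hδ (p x') ξ h.1 h.2)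
        · rw [dif_neg h, dif_neg h]
      have hs : ∑ᶠ i : {ξ : X // α ξ ≠ 0}, divFun δ i.1 (g i.1 ^ (α i.1)) (p x') =
          ∑ᶠ (ξ : X) (_ : α ξ ≠ 0), divFun δ ξ (g ξ ^ (α ξ)) (p x') :=
        finsum_subtype_eq_finsum_cond (f := fun ξ : X => divFun δ ξ (g ξ ^ (α ξ)) (p x'))
          (fun ξ => α ξ ≠ 0)
      rw [finsum_congr hterm]
      show _ = ∑ᶠ i : {ξ : X // α ξ ≠ 0}, divFun δ i.1 (g i.1 ^ α i.1) (p x')
      rw [hs]
      show _ = ∑ᶠ ξ ∈ {ξ : X | α ξ ≠ 0}, divFun δ ξ (g ξ ^ (α ξ)) (p x')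
      rw [finsum_mem_def, Set.indicator_eq_self.mpr]
      intro ξ hξ
      show α ξ ≠ 0
      intro h0
      apply hξ
      show divFun δ ξ (g ξ ^ (α ξ)) (p x') = 0
      rw [divFun_zpow, h0, zero_mul]
    · rw [if_neg c1, if_neg c1]
  rw [hL1, pull_sum_point p δ δ' hδ hδ' c hc (fun i : {ξ : X // α ξ ≠ 0} => i.1)
    (fun i => g i.1 ^ α i.1) hlf x']
  -- the right hand side
  unfold c1CapFun
  have hsupp : (Function.support fun ξ' : X' => Cyc.pullFun p δ' δ c (⇑α) ξ' *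
      secDivFun δ' ((Scheme.Modules.pullback p).obj L) ξ' (s' ξ') x') ⊆
      {ξ' : X' | MaxFib p ξ' ∧ α (p ξ') ≠ 0} := by
    intro ξ' hξ'
    have h0 : Cyc.pullFun p δ' δ c (⇑α) ξ' *
      secDivFun δ' ((Scheme.Modules.pullback p).obj L) ξ' (s' ξ') x' ≠ 0 := hξ'
    have h1 := left_ne_zero_of_mul h0
    unfold Cyc.pullFun at h1
    by_cases c1 : δ' ξ' = δ (p ξ') + c
    · rw [if_pos c1] at h1
      exact ⟨(dim_iff p δ δ' hδ' c hc ξ').mp c1, left_ne_zero_of_mul h1⟩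
    · rw [if_neg c1] at h1
      exact absurd rfl h1
  have hR : (∑ᶠ ξ' : X', Cyc.pullFun p δ' δ c (⇑α) ξ' *
      secDivFun δ' ((Scheme.Modules.pullback p).obj L) ξ' (s' ξ') x') =
      ∑ᶠ t : {ξ' : X' // MaxFib p ξ' ∧ α (p ξ') ≠ 0}, Cyc.pullFun p δ' δ c (⇑α) t.1 *
      secDivFun δ' ((Scheme.Modules.pullback p).obj L) t.1 (s' t.1) x' := by
    have hs : ∑ᶠ t : {ξ' : X' // MaxFib p ξ' ∧ α (p ξ') ≠ 0}, Cyc.pullFun p δ' δ c (⇑α) t.1 *
        secDivFun δ' ((Scheme.Modules.pullback p).obj L) t.1 (s' t.1) x' =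
        ∑ᶠ (ξ' : X') (_ : MaxFib p ξ' ∧ α (p ξ') ≠ 0), Cyc.pullFun p δ' δ c (⇑α) ξ' *
        secDivFun δ' ((Scheme.Modules.pullback p).obj L) ξ' (s' ξ') x' :=
      finsum_subtype_eq_finsum_cond (f := fun ξ' : X' => Cyc.pullFun p δ' δ c (⇑α) ξ' *
        secDivFun δ' ((Scheme.Modules.pullback p).obj L) ξ' (s' ξ') x')
        (fun ξ' => MaxFib p ξ' ∧ α (p ξ') ≠ 0)
    rw [hs]
    show _ = ∑ᶠ ξ' ∈ {ξ' : X' | MaxFib p ξ' ∧ α (p ξ') ≠ 0}, Cyc.pullFun p δ' δ c (⇑α) ξ' *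
        secDivFun δ' ((Scheme.Modules.pullback p).obj L) ξ' (s' ξ') x'
    rw [finsum_mem_def, Set.indicator_eq_self.mpr hsupp]
  rw [hR]
  have key0 : ∀ (ξ' : X') (m : MaxFib p ξ'), ((fibLen p ξ').toNat : ℤ) *
      divFun δ' ξ' (gUp p (p ξ') ξ' rfl (g (p ξ') ^ α (p ξ'))) x' =
      Cyc.pullFun p δ' δ c (⇑α) ξ' *
        secDivFun δ' ((Scheme.Modules.pullback p).obj L) ξ' (s' ξ') x' := by
    intro ξ' m
    have hp : Cyc.pullFun p δ' δ c (⇑α) ξ' = α (p ξ') * ((fibLen p ξ').toNat : ℤ) := by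
      unfold Cyc.pullFun
      rw [if_pos (hc ξ' m)]
    have hg : gUp p (p ξ') ξ' rfl (g (p ξ') ^ α (p ξ')) =
        ((p.residueFieldMap ξ').hom (g (p ξ'))) ^ α (p ξ') := by
      unfold gUp
      rw [map_zpow₀, map_zpow₀]
      rfl
    have hsd : secDivFun δ' ((Scheme.Modules.pullback p).obj L) ξ' (s' ξ') x' =
        divFun δ' ξ' ((p.residueFieldMap ξ').hom (g (p ξ'))) x' := by
      unfold secDivFun divFun
      by_cases h : ξ' ⤳ x' ∧ δ' x' + 1 = δ' ξ'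
      · rw [dif_pos h, dif_pos h]
        exact hg2 ξ' h.1 (locQuot_conds δ' hδ' x' ξ' h.1 h.2)
      · rw [dif_neg h, dif_neg h]
    rw [hp, hg, hsd, divFun_zpow]
    ring
  refine finsum_eq_of_bijective
    (fun s : (Σ i : {ξ : X // α ξ ≠ 0}, {ξ' : X' // MaxFib p ξ' ∧ p ξ' = i.1}) =>
      (⟨s.2.1, s.2.2.1, by rw [s.2.2.2]; exact s.1.2⟩ :
        {ξ' : X' // MaxFib p ξ' ∧ α (p ξ') ≠ 0})) ?_ ?_
  · constructor
    · rintro ⟨⟨ξ1, h1⟩, ⟨ξ1', m1, e1⟩⟩ ⟨⟨ξ2, h2⟩, ⟨ξ2', m2, e2⟩⟩ h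
      have h3 : ξ1' = ξ2' := congrArg (fun t => t.1) h
      subst h3
      have h4 : ξ1 = ξ2 := e1.symm.trans e2
      subst h4
      rfl
    · intro t
      exact ⟨⟨⟨p t.1, t.2.2⟩, ⟨t.1, t.2.1, rfl⟩⟩, rfl⟩
  · rintro ⟨⟨ξ, hαξ⟩, ⟨ξ', m, e⟩⟩
    have key : ∀ (ξ : X) (e : p ξ' = ξ), ((fibLen p ξ').toNat : ℤ) *
        divFun δ' ξ' (gUp p ξ ξ' e (g ξ ^ α ξ)) x' =
        Cyc.pullFun p δ' δ c (⇑α) ξ' *
          secDivFun δ' ((Scheme.Modules.pullback p).obj L) ξ' (s' ξ') x' := by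
      intro ξ e
      subst e
      exact key0 ξ' m
    exact key ξ e

include hδ' hc in
/-- the flat pullback of a cycle, as a cycle. -/
theorem exists_pullCycle (k : ℤ) (α : AlgebraicCycle X ℤ) (hα : α ∈ Cyc.Zk X δ k) :
    ∃ α' : AlgebraicCycle X' ℤ, ⇑α' = Cyc.pullFun p δ' δ c ⇑α ∧ α' ∈ Cyc.Zk X' δ' (k + c) := by
  classical
  have hlf : ∀ x : X, ∃ U : Set X, IsOpen U ∧ x ∈ U ∧
      {i : {ξ : X // α ξ ≠ 0} | (closure {i.1} ∩ U).Nonempty}.Finite := by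
    intro x
    obtain ⟨t', ht', hfin⟩ := α.supportLocallyFiniteWithinDomain' x (Set.mem_univ x)
    refine ⟨interior t', isOpen_interior, mem_interior_iff_mem_nhds.mpr ht', ?_⟩
    have : {i : {ξ : X // α ξ ≠ 0} | (closure {i.1} ∩ interior t').Nonempty} ⊆
        Subtype.val ⁻¹' (t' ∩ Function.support ⇑α) := by
      rintro i ⟨z, hz1, hz2⟩
      have hsp : i.1 ⤳ z := specializes_iff_mem_closure.mpr hz1
      exact ⟨interior_subset (hsp.mem_open isOpen_interior hz2), i.2⟩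
    exact (hfin.preimage Subtype.val_injective.injOn).subset this
  have hne : ∀ ξ' : X', Cyc.pullFun p δ' δ c (⇑α) ξ' ≠ 0 →
      δ' ξ' = δ (p ξ') + c ∧ α (p ξ') ≠ 0 := by
    intro ξ' h1
    unfold Cyc.pullFun at h1
    by_cases c1 : δ' ξ' = δ (p ξ') + c
    · rw [if_pos c1] at h1
      exact ⟨c1, left_ne_zero_of_mul h1⟩
    · rw [if_neg c1] at h1
      exact absurd rfl h1
  refine ⟨⟨Cyc.pullFun p δ' δ c ⇑α, fun _ _ => trivial, ?_⟩, rfl, ?_⟩
  · intro x' _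
    obtain ⟨V, hVo, hxV, hVfin⟩ :=
      locfin_pull p (fun i : {ξ : X // α ξ ≠ 0} => i.1) hlf x'
    refine ⟨V, hVo.mem_nhds hxV, (hVfin.image (fun s => s.2.1)).subset ?_⟩
    rintro ξ' ⟨hξ'V, hξ'⟩
    obtain ⟨c1, hα0⟩ := hne ξ' hξ'
    have m : MaxFib p ξ' := (dim_iff p δ δ' hδ' c hc ξ').mp c1
    exact ⟨⟨⟨p ξ', hα0⟩, ⟨ξ', m, rfl⟩⟩, ⟨ξ', subset_closure rfl, hξ'V⟩, rfl⟩
  · intro ξ' hd
    by_contra h1
    obtain ⟨c1, hα0⟩ := hne ξ' h1
    apply hα0
    apply hα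
    intro h2
    apply hd
    rw [c1, h2]

end main

end Groth.Agent.Lib.Helper22.PullC1
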