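import Mathlib
import Groth.Prelude.Def_C1
import Groth.Agent.Lib.Helper22.PullC1

/-!
helper22: `c_1(L) ∩ -` and closed immersions: `c_1(L) ∩ i_* α` restricted to `D` is
`c_1(i^* L) ∩ α` for the pulled back sections.
-/

set_option autoImplicit false
universe u
open CategoryTheory AlgebraicGeometry IsLocalRing TopologicalSpace Opposite
open Cyc

namespace Groth.Agent.Lib.Helper22.ClosedC1

open Groth.Agent.Lib.Helper22.InvStalk Groth.Agent.Lib.Helper22.OrdFlat
open Groth.Agent.Lib.Helper22.TensorOrd Groth.Agent.Lib.Helper22.PullC1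
open Groth.Agent.Lib.Helper22.FlatDivAlg (length_quot_map)
open Groth.Agent.Lib.Helper22.FlatDiv (spec_compat locQuot_conds)

section alg
variable {A B : Type u} [CommRing A] [CommRing B] {K L : Type u} [Field K] [Field L]
  [Algebra A K] [Algebra B L]

lemma ord_bij (ψ : A →+* B) (hψ : Function.Bijective ψ) (a : A) :
    Ring.ord B (ψ a) = Ring.ord A a := by
  unfold Ring.ord
  have := length_quot_map ψ hψ (Ideal.span {a})
  rw [Ideal.map_span, Set.image_singleton] at this
  exact this

theorem ordFrac_bij (ψ : A →+* B) (hψ : Function.Bijective ψ) (φ : K →+* L)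
    (hcomm : ∀ a, φ (algebraMap A K a) = algebraMap B L (ψ a))
    (hA : IsNoetherianRing A ∧ Ring.KrullDimLE 1 A ∧ Nontrivial A ∧ IsFractionRing A K)
    (hB : IsNoetherianRing B ∧ Ring.KrullDimLE 1 B ∧ Nontrivial B ∧ IsFractionRing B L) (g : K) :
    CycAlg.ordFrac B L (φ g) = CycAlg.ordFrac A K g := by
  haveI := hA.2.2.2
  haveI := hB.2.2.2
  haveI : IsDomain A := (FaithfulSMul.algebraMap_injective A K).isDomain
  haveI : IsDomain B := (FaithfulSMul.algebraMap_injective B L).isDomain
  obtain ⟨a, b, hb, rfl⟩ := IsFractionRing.div_surjective (A := A) g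
  by_cases ha0 : a = 0
  · subst ha0
    simp only [map_zero, zero_div, ordFrac_zero]
  · have ha : a ∈ nonZeroDivisors A := mem_nonZeroDivisors_of_ne_zero ha0
    have hne : ∀ c : A, c ≠ 0 → ψ c ≠ 0 := by
      intro c hc h
      apply hc
      apply hψ.1
      rw [h, map_zero]
    have hψa : ψ a ∈ nonZeroDivisors B := mem_nonZeroDivisors_of_ne_zero (hne a ha0)
    have hψb : ψ b ∈ nonZeroDivisors B :=
      mem_nonZeroDivisors_of_ne_zero (hne b (nonZeroDivisors.ne_zero hb))
    rw [map_div₀, hcomm, hcomm, ordFrac_div hB _ _ hψa hψb, ordFrac_div hA _ _ ha hb,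
      ord_bij ψ hψ, ord_bij ψ hψ]

end alg

variable {D X : Scheme.{u}} (i : D ⟶ X) [IsClosedImmersion i]

lemma ci_specializes_iff (a b : D) : i a ⤳ i b ↔ a ⤳ b :=
  i.isClosedEmbedding.isInducing.specializes_iff

lemma ci_injective : Function.Injective i := i.isClosedEmbedding.injective

lemma ci_mem_range (a : D) (z : X) (h : i a ⤳ z) : z ∈ Set.range i :=
  i.isClosedEmbedding.isClosed_range.stableUnderSpecialization h ⟨a, rfl⟩

lemma ci_dimFun (δ : X → ℤ) (hδ : Cyc.IsDimFun X δ) : Cyc.IsDimFun D (fun d => δ (i d)) := by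
  intro x y hxy hne
  have h1 : i x ⤳ i y := (ci_specializes_iff i x y).mpr hxy
  have h2 : i x ≠ i y := fun h => hne (ci_injective i h)
  obtain ⟨hlt, himm⟩ := hδ (i x) (i y) h1 h2
  refine ⟨hlt, fun hD => himm ?_⟩
  intro z hz1 hz2
  obtain ⟨z', rfl⟩ := ci_mem_range i x z hz1
  rcases hD z' ((ci_specializes_iff i x z').mp hz1) ((ci_specializes_iff i z' y).mp hz2) with h | h
  · left; rw [h]
  · right; rw [h]

lemma ci_resField_bijective (d : D) : Function.Bijective (i.residueFieldMap d).hom := by
  refine ⟨(i.residueFieldMap d).hom.injective, ?_⟩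
  intro z
  obtain ⟨w, rfl⟩ := D.residue_surjective d z
  obtain ⟨a, rfl⟩ := i.stalkMap_surjective d w
  refine ⟨(X.residue (i d)).hom a, ?_⟩
  have h3 := Scheme.residue_residueFieldMap i d
  exact congrArg (fun k => k.hom a) h3

lemma ci_residueDegree (d : D) : i.residueDegree d = 1 := by
  unfold Scheme.Hom.residueDegree
  letI := (i.residueFieldMap d).hom.toAlgebra
  have hb : Function.Bijective (algebraMap (X.residueField (i d)) (D.residueField d)) :=
    ci_resField_bijective i d
  let e : X.residueField (i d) ≃ₗ[X.residueField (i d)] D.residueField d :=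
    LinearEquiv.ofBijective (Algebra.linearMap _ _) hb
  rw [← e.finrank_eq]
  exact Module.finrank_self _

/-- the order of a rational function along a specialization does not change under a closed
immersion. -/
lemma ordAt_closedImm (d ξ' : D) (h' : ξ' ⤳ d) (g : X.residueField (i ξ'))
    (hA : Conds (i d) (i ξ') (i.base.hom.map_specializes h')) (hB : Conds d ξ' h') :
    ordAt d ξ' h' ((i.residueFieldMap ξ').hom g) =
      ordAt (i d) (i ξ') (i.base.hom.map_specializes h') g := by
  have hwd : ∀ a : X.presheaf.stalk (i d),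
      a ∈ RingHom.ker (specMap (i d) (i ξ') (i.base.hom.map_specializes h')) →
      ((Ideal.Quotient.mk (RingHom.ker (specMap d ξ' h'))).comp (i.stalkMap d).hom) a = 0 := by
    intro a ha
    show Ideal.Quotient.mk _ ((i.stalkMap d).hom a) = 0
    rw [Ideal.Quotient.eq_zero_iff_mem, RingHom.mem_ker, spec_compat, RingHom.mem_ker.mp ha,
      map_zero]
  let ψ : LocQuot (i d) (i ξ') (i.base.hom.map_specializes h') →+* LocQuot d ξ' h' :=
    Ideal.Quotient.lift _ _ hwd
  have hψ : Function.Bijective ψ := by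
    constructor
    · rw [injective_iff_map_eq_zero]
      intro z hz
      obtain ⟨a, rfl⟩ := Ideal.Quotient.mk_surjective z
      have h1 : Ideal.Quotient.mk (RingHom.ker (specMap d ξ' h')) ((i.stalkMap d).hom a) = 0 := hz
      rw [Ideal.Quotient.eq_zero_iff_mem, RingHom.mem_ker, spec_compat] at h1
      rw [Ideal.Quotient.eq_zero_iff_mem, RingHom.mem_ker]
      exact (map_eq_zero_iff _ (i.residueFieldMap ξ').hom.injective).mp h1
    · intro z
      obtain ⟨b, rfl⟩ := Ideal.Quotient.mk_surjective z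
      obtain ⟨a, rfl⟩ := i.stalkMap_surjective d b
      exact ⟨Ideal.Quotient.mk _ a, rfl⟩
  have hcomm : ∀ z, (i.residueFieldMap ξ').hom
      (algebraMap (LocQuot (i d) (i ξ') (i.base.hom.map_specializes h'))
        (X.residueField (i ξ')) z) = algebraMap (LocQuot d ξ' h') (D.residueField ξ') (ψ z) := by
    intro z
    obtain ⟨a, rfl⟩ := Ideal.Quotient.mk_surjective z
    exact (spec_compat i d ξ' h' a).symm
  unfold ordAt
  exact ordFrac_bij ψ hψ (i.residueFieldMap ξ').hom hcomm hA hB g

/-- the coefficients of the pushforward of a cycle along a closed immersion. -/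
lemma map_closedImm_apply (δ : X → ℤ) (α : AlgebraicCycle D ℤ) (d : D) :
    (AlgebraicCycle.map i (fun d => δ (i d)) δ α) (i d) = α d := by
  show ∑ᶠ x ∈ i ⁻¹' {i d}, α x * ((AlgebraicCycle.mapCoeff i (fun d => δ (i d)) δ x : ℕ) : ℤ) = _
  have hset : (i ⁻¹' {i d} : Set D) = {d} := by
    ext x
    simp only [Set.mem_preimage, Set.mem_singleton_iff]
    exact ⟨fun h => ci_injective i h, fun h => by rw [h]⟩
  rw [hset, finsum_mem_singleton]
  unfold AlgebraicCycle.mapCoeff
  rw [if_pos rfl, ci_residueDegree]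
  simp

lemma map_closedImm_notMem (δ : X → ℤ) (α : AlgebraicCycle D ℤ) (z : X)
    (hz : z ∉ Set.range i) :
    (AlgebraicCycle.map i (fun d => δ (i d)) δ α) z = 0 := by
  show ∑ᶠ x ∈ i ⁻¹' {z}, α x * ((AlgebraicCycle.mapCoeff i (fun d => δ (i d)) δ x : ℕ) : ℤ) = _
  have hset : (i ⁻¹' {z} : Set D) = ∅ := by
    ext x
    simp only [Set.mem_preimage, Set.mem_singleton_iff, Set.mem_empty_iff_false, iff_false]
    intro h
    exact hz ⟨x, h⟩
  rw [hset, finsum_mem_empty]

end Groth.Agent.Lib.Helper22.ClosedC1
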