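import Mathlib
import Groth.Prelude.Def_C1
import Groth.Agent.Lib.Helper22.ClosedC1
import Groth.Agent.Lib.Helper22.DivLocFin

/-!
helper22: principal divisors and rational equivalence along closed immersions.
-/

set_option autoImplicit false
universe u
open CategoryTheory AlgebraicGeometry IsLocalRing TopologicalSpace Opposite
open Cyc

namespace Groth.Agent.Lib.Helper22.ClosedRat

open Groth.Agent.Lib.Helper22.ClosedC1
open Groth.Agent.Lib.Helper22.FlatDiv (locQuot_conds)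

variable {Z X : Scheme.{u}} (j : Z ⟶ X) [IsClosedImmersion j]

/-- principal divisors restrict along closed immersions. -/
lemma divFun_closedImm [IsLocallyNoetherian X] (δ : X → ℤ) (hδ : Cyc.IsDimFun X δ)
    (ξ' z : Z) (g : X.residueField (j ξ')) :
    divFun (fun d => δ (j d)) ξ' ((j.residueFieldMap ξ').hom g) z = divFun δ (j ξ') g (j z) := by
  haveI : IsLocallyNoetherian Z := LocallyOfFiniteType.isLocallyNoetherian j
  have hδZ := ci_dimFun j δ hδ
  unfold divFun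
  by_cases hc : ξ' ⤳ z ∧ δ (j z) + 1 = δ (j ξ')
  · have hc' : j ξ' ⤳ j z ∧ δ (j z) + 1 = δ (j ξ') := ⟨(ci_specializes_iff j ξ' z).mpr hc.1, hc.2⟩
    rw [dif_pos hc, dif_pos hc']
    have hA := locQuot_conds δ hδ (j z) (j ξ') hc'.1 hc.2
    have hB := locQuot_conds (fun d => δ (j d)) hδZ z ξ' hc.1 hc.2
    exact ordAt_closedImm j z ξ' hc.1 g hA hB
  · have hc' : ¬ (j ξ' ⤳ j z ∧ δ (j z) + 1 = δ (j ξ')) := by
      intro h
      exact hc ⟨(ci_specializes_iff j ξ' z).mp h.1, h.2⟩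
    rw [dif_neg hc, dif_neg hc']

lemma divFun_notMem_range (δ : X → ℤ) (ξ₀ : X) (hξ₀ : ξ₀ ∈ Set.range j) (g : X.residueField ξ₀)
    (x : X) (hx : x ∉ Set.range j) : divFun δ ξ₀ g x = 0 := by
  unfold divFun
  rw [dif_neg]
  rintro ⟨h, -⟩
  obtain ⟨a, rfl⟩ := hξ₀
  exact hx (ci_mem_range j a x h)

lemma exists_div_pull [IsLocallyNoetherian X] (δ : X → ℤ) (hδ : Cyc.IsDimFun X δ) (ξ₀ : X)
    (g : X.residueField ξ₀) (hg : g ≠ 0) (ξ' : Z) (hξ' : j ξ' = ξ₀) :
    ∃ g' : Z.residueField ξ', g' ≠ 0 ∧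
      ∀ z, divFun (fun d => δ (j d)) ξ' g' z = divFun δ ξ₀ g (j z) := by
  subst hξ'
  refine ⟨(j.residueFieldMap ξ').hom g, ?_, fun z => divFun_closedImm j δ hδ ξ' z g⟩
  exact (map_ne_zero_iff _ (j.residueFieldMap ξ').hom.injective).mpr hg

/-- a locally finite family of principal divisors supported on a closed subscheme gives a
rational equivalence to zero on the closed subscheme. -/
theorem ratEquivZero_closedImm [IsLocallyNoetherian X] (δ : X → ℤ) (hδ : Cyc.IsDimFun X δ)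
    (k : ℤ) {ι : Type u} (ξ : ι → X) (f : (i : ι) → X.residueField (ξ i))
    (hξ : ∀ i, δ (ξ i) = k + 1) (hf : ∀ i, f i ≠ 0)
    (hlf : ∀ x : X, ∃ U : Set X, IsOpen U ∧ x ∈ U ∧ {i | (closure {ξ i} ∩ U).Nonempty}.Finite)
    (hr : ∀ i, ξ i ∈ Set.range j) (ζ : AlgebraicCycle Z ℤ)
    (hζ : ∀ z, ζ z = ∑ᶠ i, divFun δ (ξ i) (f i) (j z)) :
    Cyc.RatEquivZero (fun d => δ (j d)) k ζ := by
  choose ξ' hξ' using hr
  choose f' hf'0 hf' using fun i => exists_div_pull j δ hδ (ξ i) (f i) (hf i) (ξ' i) (hξ' i)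
  refine ⟨ι, ξ', f', ?_, hf'0, ?_, ?_⟩
  · intro i
    show δ (j (ξ' i)) = k + 1
    rw [hξ' i]; exact hξ i
  · intro z
    obtain ⟨U, hUo, hzU, hfin⟩ := hlf (j z)
    refine ⟨j ⁻¹' U, hUo.preimage j.continuous, hzU, hfin.subset ?_⟩
    rintro i ⟨z', hz'1, hz'2⟩
    refine ⟨j z', ?_, hz'2⟩
    have h1 : ξ' i ⤳ z' := specializes_iff_mem_closure.mpr hz'1
    have h2 : j (ξ' i) ⤳ j z' := j.base.hom.map_specializes h1
    rw [hξ' i] at h2
    exact specializes_iff_mem_closure.mp h2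
  · intro z
    rw [hζ z]
    exact finsum_congr fun i => (hf' i z).symm

end Groth.Agent.Lib.Helper22.ClosedRat
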