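import Mathlib
import Groth.Prelude.Def_C1
import Groth.Agent.Lib.Helper22.ClosedRat
import Groth.Agent.Lib.Helper22.C1Indep

/-!
helper22: `c_1(L) ∩ -` and pushforward along closed immersions (function level), pushing
families of principal divisors forward, the cycle set-up on a closed subscheme.
-/

set_option autoImplicit false
universe u
open CategoryTheory AlgebraicGeometry IsLocalRing TopologicalSpace Opposite
open Cyc

namespace Groth.Agent.Lib.Helper22.ClosedCap

open Groth.Agent.Lib.Helper22.InvStalk Groth.Agent.Lib.Helper22.OrdFlat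
open Groth.Agent.Lib.Helper22.TensorOrd Groth.Agent.Lib.Helper22.PullC1
open Groth.Agent.Lib.Helper22.ClosedC1 Groth.Agent.Lib.Helper22.ClosedRat
open Groth.Agent.Lib.Helper22.FlatDiv (locQuot_conds)
open Groth.Agent.Lib.QCoh (isInvertible_pullback)
open Groth.Agent.Lib.Ample Groth.Agent.Lib.Proj.PullSec

variable {D X : Scheme.{u}} (i : D ⟶ X) [IsClosedImmersion i]

/-- `c_1(L) ∩ -` of a function supported on a closed subscheme, at the points of the subscheme. -/
theorem c1Cap_closedImm [IsLocallyNoetherian X] (δ : X → ℤ) (hδ : Cyc.IsDimFun X δ)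
    {L : X.Modules} (hL : PicF.IsInvertible L) (v : (ξ : X) → secFibre L ξ)
    (s' : (ξ' : D) → secFibre ((Scheme.Modules.pullback i).obj L) ξ')
    (hs' : ∀ (ξ' : D) (V : X.Opens) (e : Γ(L, V)) (_ : IsGenerator L V e) (hξ : i ξ' ∈ V)
        (φ : X.presheaf.stalk (i ξ')),
        v (i ξ') = φ • (Submodule.Quotient.mk (L.presheaf.germ V (i ξ') hξ e) :
          secFibre L (i ξ')) →
        s' ξ' = (i.stalkMap ξ').hom φ • (Submodule.Quotient.mk
          (((Scheme.Modules.pullback i).obj L).presheaf.germ (i ⁻¹ᵁ V) ξ' hξ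
            (pullSecOn i L V e)) : secFibre ((Scheme.Modules.pullback i).obj L) ξ'))
    (A : X → ℤ) (a : D → ℤ) (hA : ∀ d, A (i d) = a d) (hA0 : ∀ x, x ∉ Set.range i → A x = 0)
    (d : D) :
    c1CapFun δ L A v (i d) =
      c1CapFun (fun d => δ (i d)) ((Scheme.Modules.pullback i).obj L) a s' d := by
  haveI : IsLocallyNoetherian D := LocallyOfFiniteType.isLocallyNoetherian i
  have hδD := ci_dimFun i δ hδ
  unfold Cyc.c1CapFun
  have hsupp : Function.support (fun ξ : X => A ξ * secDivFun δ L ξ (v ξ) (i d)) ⊆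
      Set.range i := by
    intro z hz
    by_contra hzr
    apply hz
    show A z * _ = 0
    rw [hA0 z hzr, zero_mul]
  have e1 : ∑ᶠ ξ : X, A ξ * secDivFun δ L ξ (v ξ) (i d) =
      ∑ᶠ ξ ∈ Set.range i, A ξ * secDivFun δ L ξ (v ξ) (i d) := by
    rw [finsum_mem_def, Set.indicator_eq_self.mpr hsupp]
  rw [e1, finsum_mem_range (ci_injective i)]
  refine finsum_congr fun ξ' => ?_
  rw [hA ξ']
  congr 1
  unfold Cyc.secDivFun
  by_cases hc : ξ' ⤳ d ∧ δ (i d) + 1 = δ (i ξ')
  · have hc' : i ξ' ⤳ i d ∧ δ (i d) + 1 = δ (i ξ') := ⟨(ci_specializes_iff i ξ' d).mpr hc.1, hc.2⟩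
    rw [dif_pos hc, dif_pos hc']
    obtain ⟨g, hg1, hg2⟩ := exists_local_coord i hL v s' hs' d
    have hA' := locQuot_conds δ hδ (i d) (i ξ') hc'.1 hc.2
    have hB := locQuot_conds (fun d => δ (i d)) hδD d ξ' hc.1 hc.2
    rw [hg1 (i ξ') hc'.1 hA', hg2 ξ' hc.1 hB]
    exact (ordAt_closedImm i d ξ' hc.1 (g (i ξ')) hA' hB).symm
  · have hc' : ¬ (i ξ' ⤳ i d ∧ δ (i d) + 1 = δ (i ξ')) := by
      intro h
      exact hc ⟨(ci_specializes_iff i ξ' d).mp h.1, h.2⟩
    rw [dif_neg hc, dif_neg hc']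

/-- `c_1(L) ∩ -` of a function supported on a closed subscheme vanishes off the subscheme. -/
theorem c1Cap_notMem (δ : X → ℤ) {L : X.Modules} (v : (ξ : X) → secFibre L ξ)
    (A : X → ℤ) (hA0 : ∀ x, x ∉ Set.range i → A x = 0) (x : X) (hx : x ∉ Set.range i) :
    c1CapFun δ L A v x = 0 := by
  unfold Cyc.c1CapFun
  refine finsum_eq_zero_of_forall_eq_zero fun ξ => ?_
  by_cases hξ : ξ ∈ Set.range i
  · have : secDivFun δ L ξ (v ξ) x = 0 := by
      unfold Cyc.secDivFun
      rw [dif_neg]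
      rintro ⟨h, -⟩
      obtain ⟨a, rfl⟩ := hξ
      exact hx (ci_mem_range i a x h)
    rw [this, mul_zero]
  · rw [hA0 ξ hξ, zero_mul]

/-- pushing a locally finite family of principal divisors forward along a closed immersion. -/
theorem exists_push_family [IsLocallyNoetherian X] (δ : X → ℤ) (hδ : Cyc.IsDimFun X δ) (k : ℤ)
    {ι : Type u} (ξ' : ι → D) (f' : (j : ι) → D.residueField (ξ' j))
    (hξ' : ∀ j, δ (i (ξ' j)) = k + 1) (hf' : ∀ j, f' j ≠ 0)
    (hlf : ∀ z : D, ∃ U : Set D, IsOpen U ∧ z ∈ U ∧ {j | (closure {ξ' j} ∩ U).Nonempty}.Finite) :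
    ∃ (ξ : ι → X) (f : (j : ι) → X.residueField (ξ j)),
      (∀ j, δ (ξ j) = k + 1) ∧ (∀ j, f j ≠ 0) ∧
      (∀ x : X, ∃ U : Set X, IsOpen U ∧ x ∈ U ∧ {j | (closure {ξ j} ∩ U).Nonempty}.Finite) ∧
      (∀ z : D, ∑ᶠ j, divFun δ (ξ j) (f j) (i z) =
        ∑ᶠ j, divFun (fun d => δ (i d)) (ξ' j) (f' j) z) ∧
      (∀ x : X, x ∉ Set.range i → ∑ᶠ j, divFun δ (ξ j) (f j) x = 0) := by
  have hex : ∀ j, ∃ g : X.residueField (i (ξ' j)), (i.residueFieldMap (ξ' j)).hom g = f' j :=
    fun j => (ci_resField_bijective i (ξ' j)).2 (f' j)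
  choose g hg using hex
  refine ⟨fun j => i (ξ' j), g, hξ', ?_, ?_, ?_, ?_⟩
  · intro j h0
    apply hf' j
    rw [← hg j, h0, map_zero]
  · intro x
    by_cases hx : x ∈ Set.range i
    · obtain ⟨z, rfl⟩ := hx
      obtain ⟨U', hU'o, hzU', hfin⟩ := hlf z
      obtain ⟨U, hUo, hUU'⟩ := i.isClosedEmbedding.isInducing.isOpen_iff.mp hU'o
      refine ⟨U, hUo, ?_, hfin.subset ?_⟩
      · have : z ∈ i ⁻¹' U := by rw [hUU']; exact hzU'
        exact this
      · rintro j ⟨y, hy1, hy2⟩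
        have hsp : i (ξ' j) ⤳ y := specializes_iff_mem_closure.mpr hy1
        obtain ⟨y', rfl⟩ := ci_mem_range i (ξ' j) y hsp
        refine ⟨y', specializes_iff_mem_closure.mp ((ci_specializes_iff i _ _).mp hsp), ?_⟩
        rw [← hUU']
        exact hy2
    · refine ⟨(Set.range i)ᶜ, i.isClosedEmbedding.isClosed_range.isOpen_compl, hx, ?_⟩
      convert Set.finite_empty
      ext j
      simp only [Set.mem_setOf_eq, Set.mem_empty_iff_false, iff_false]
      rintro ⟨y, hy1, hy2⟩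
      have hsp : i (ξ' j) ⤳ y := specializes_iff_mem_closure.mpr hy1
      exact hy2 (ci_mem_range i (ξ' j) y hsp)
  · intro z
    refine finsum_congr fun j => ?_
    rw [← hg j]
    exact (divFun_closedImm i δ hδ (ξ' j) z (g j)).symm
  · intro x hx
    exact finsum_eq_zero_of_forall_eq_zero fun j =>
      divFun_notMem_range i δ (i (ξ' j)) ⟨ξ' j, rfl⟩ (g j) x hx

/-- universal catenarity passes to surjective images. -/
lemma isUniversallyCatenary_of_surjective {A B : Type u} [CommRing A] [CommRing B] (φ : A →+* B)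
    (hφ : Function.Surjective φ) (hA : CAlg.IsUniversallyCatenary A) :
    CAlg.IsUniversallyCatenary B := by
  haveI := hA.1
  refine ⟨isNoetherianRing_of_surjective A B φ hφ, ?_⟩
  intro S _ _ hS
  letI : Algebra A B := φ.toAlgebra
  letI : Algebra A S := ((algebraMap B S).comp φ).toAlgebra
  haveI : IsScalarTower A B S := IsScalarTower.of_algebraMap_eq' rfl
  have h1 : Algebra.FiniteType A B := Algebra.FiniteType.of_surjective (Algebra.ofId A B) hφ
  exact hA.2 S (Algebra.FiniteType.trans h1 hS)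

/-- the cycle set-up restricts to closed subschemes. -/
theorem isSetup_closedImm (δ : X → ℤ) (hX : Cyc.IsSetup X δ) :
    Cyc.IsSetup D (fun d => δ (i d)) := by
  haveI := hX.1
  refine ⟨LocallyOfFiniteType.isLocallyNoetherian i, fun d => ?_, ci_dimFun i δ hX.2.2⟩
  exact isUniversallyCatenary_of_surjective (i.stalkMap d).hom (i.stalkMap_surjective d)
    (hX.2.1 (i d))

open Groth.Agent.Lib.Helper22.DivLocFin (maxpts_locfin scheme_locNoeth) in
/-- the fundamental cycle `[Y]_k` of a scheme of `δ`-dimension `≤ k`. -/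
theorem exists_fundCycle (Y : Scheme.{u}) [IsLocallyNoetherian Y] (δ : Y → ℤ)
    (hδ : Cyc.IsDimFun Y δ) (k : ℤ) (hdim : ∀ y : Y, δ y ≤ k) :
    ∃ α : AlgebraicCycle Y ℤ, ⇑α = subschemeFun δ k (𝟙 Y) ∧ α ∈ Cyc.Zk Y δ k := by
  refine ⟨⟨subschemeFun δ k (𝟙 Y), fun _ _ => trivial, ?_⟩, rfl, ?_⟩
  · intro y _
    obtain ⟨V, hVo, hyV, hfin⟩ := maxpts_locfin (scheme_locNoeth (X := Y)) Set.univ isClosed_univ y
    refine ⟨V, hVo.mem_nhds hyV, hfin.subset ?_⟩
    rintro z ⟨hzV, hz⟩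
    refine ⟨hzV, trivial, fun z' _ hz' => ?_⟩
    by_contra hne
    have hk : δ z = k := by
      by_contra hk
      apply hz
      show subschemeFun δ k (𝟙 Y) z = 0
      unfold subschemeFun
      rw [if_neg hk]
    have := (hδ z' z hz' hne).1
    have := hdim z'
    omega
  · intro y hy
    show subschemeFun δ k (𝟙 Y) y = 0
    unfold subschemeFun
    rw [if_neg hy]

end Groth.Agent.Lib.Helper22.ClosedCap
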