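import Mathlib

/-!
helper22: connectedness of a scheme and idempotents of its ring of global sections.
-/

set_option autoImplicit false
universe u
open CategoryTheory AlgebraicGeometry Opposite TopologicalSpace

namespace Groth.Agent.Lib.Helper22.ConnIdem

/-- on a connected scheme, the idempotent global sections are `0` and `1`. -/
lemma idem_of_connected (X : Scheme.{u}) [ConnectedSpace X] (e : Γ(X, ⊤))
    (he : IsIdempotentElem e) : e = 0 ∨ e = 1 := by
  have hinf : X.basicOpen e ⊓ X.basicOpen (1 - e) = ⊥ := by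
    rw [← Scheme.basicOpen_mul, mul_sub, mul_one, he.eq, sub_self, Scheme.basicOpen_zero]
  have hsup : ∀ x : X, x ∈ X.basicOpen e ∨ x ∈ X.basicOpen (1 - e) := by
    intro x
    rw [Scheme.mem_basicOpen_top, Scheme.mem_basicOpen_top]
    apply IsLocalRing.isUnit_or_isUnit_of_add_one
    rw [← map_add]
    have : e + (1 - e) = 1 := by ring
    rw [this, map_one]
  have hcompl : ((X.basicOpen e : Set X))ᶜ = (X.basicOpen (1 - e) : Set X) := by
    ext x
    constructor
    · intro hx
      rcases hsup x with h | h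
      · exact absurd h hx
      · exact h
    · intro hx h
      have : x ∈ X.basicOpen e ⊓ X.basicOpen (1 - e) := ⟨h, hx⟩
      rw [hinf] at this
      exact this
  have hclopen : IsClopen (X.basicOpen e : Set X) := by
    refine ⟨?_, (X.basicOpen e).2⟩
    rw [← isOpen_compl_iff, hcompl]
    exact (X.basicOpen (1 - e)).2
  have key : ∀ f : Γ(X, ⊤), IsIdempotentElem f → (X.basicOpen f : Set X) = Set.univ → f = 1 := by
    intro f hf hU
    have hu : IsUnit f := by
      apply RingedSpace.isUnit_of_isUnit_germ X.toRingedSpace ⊤ f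
      intro x hx
      have : x ∈ X.basicOpen f := by
        show x ∈ (X.basicOpen f : Set X)
        rw [hU]; trivial
      exact (Scheme.mem_basicOpen_top X f x).mp this
    obtain ⟨g, hg⟩ := hu.exists_right_inv
    calc f = f * (f * g) := by rw [hg, mul_one]
      _ = (f * f) * g := by ring
      _ = 1 := by rw [hf.eq, hg]
  rcases isClopen_iff.mp hclopen with h | h
  · left
    have h2 : (X.basicOpen (1 - e) : Set X) = Set.univ := by
      rw [← hcompl, h, Set.compl_empty]
    have := key (1 - e) he.one_sub h2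
    have h3 : e = 1 - (1 - e) := by ring
    rw [h3, this, sub_self]
  · right
    exact key e he h

/-- a nontrivial idempotent from a decomposition into two disjoint nonempty opens. -/
lemma exists_idem_of_cover (Y : Scheme.{u}) (U V : Y.Opens) (hUV : U ⊓ V = ⊥) (hsup : U ⊔ V = ⊤)
    (hU : Nonempty U) (hV : Nonempty V) :
    ∃ e : Γ(Y, ⊤), IsIdempotentElem e ∧ e ≠ 0 ∧ e ≠ 1 := by
  haveI : Subsingleton Γ(Y, U ⊓ V) := by rw [hUV]; infer_instance
  let x : (CommRingCat.of <| RingHom.eqLocus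
      (RingHom.comp (Y.sheaf.obj.map (homOfLE inf_le_left : U ⊓ V ⟶ U).op).hom
        (RingHom.fst (Y.sheaf.obj.obj <| op U) (Y.sheaf.obj.obj <| op V)))
      (RingHom.comp (Y.sheaf.obj.map (homOfLE inf_le_right : U ⊓ V ⟶ V).op).hom
        (RingHom.snd (Y.sheaf.obj.obj <| op U) (Y.sheaf.obj.obj <| op V)))) :=
    ⟨((1 : Γ(Y, U)), (0 : Γ(Y, V))), Subsingleton.elim (α := Γ(Y, U ⊓ V)) _ _⟩
  let s' : Γ(Y, U ⊔ V) := (Y.sheaf.objSupIsoProdEqLocus U V).inv x
  have hs1 : Y.presheaf.map (homOfLE le_sup_left : U ⟶ U ⊔ V).op s' = 1 :=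
    TopCat.Sheaf.objSupIsoProdEqLocus_inv_fst Y.sheaf U V x
  have hs2 : Y.presheaf.map (homOfLE le_sup_right : V ⟶ U ⊔ V).op s' = 0 :=
    TopCat.Sheaf.objSupIsoProdEqLocus_inv_snd Y.sheaf U V x
  have hle : (⊤ : Y.Opens) ≤ U ⊔ V := hsup.ge
  let e : Γ(Y, ⊤) := Y.presheaf.map (homOfLE hle).op s'
  have he1 : Y.presheaf.map (homOfLE le_top : U ⟶ ⊤).op e = 1 := by
    rw [← hs1]
    show (Y.presheaf.map (homOfLE hle).op ≫ Y.presheaf.map (homOfLE le_top : U ⟶ ⊤).op) s' = _
    rw [← Functor.map_comp]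
    rfl
  have he2 : Y.presheaf.map (homOfLE le_top : V ⟶ ⊤).op e = 0 := by
    rw [← hs2]
    show (Y.presheaf.map (homOfLE hle).op ≫ Y.presheaf.map (homOfLE le_top : V ⟶ ⊤).op) s' = _
    rw [← Functor.map_comp]
    rfl
  refine ⟨e, ?_, ?_, ?_⟩
  · apply Y.sheaf.eq_of_locally_eq₂ (homOfLE le_top : U ⟶ ⊤) (homOfLE le_top : V ⟶ ⊤) hle
    · show Y.presheaf.map _ (e * e) = Y.presheaf.map _ e
      rw [map_mul, he1, mul_one]
    · show Y.presheaf.map _ (e * e) = Y.presheaf.map _ e
      rw [map_mul, he2, mul_zero]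
  · intro h0
    rw [h0, map_zero] at he1
    exact zero_ne_one he1
  · intro h1
    rw [h1, map_one] at he2
    exact one_ne_zero he2

/-- a nonempty non-connected scheme has a nontrivial idempotent global section. -/
lemma exists_idem_of_not_connected (Y : Scheme.{u}) [Nonempty Y] (h : ¬ ConnectedSpace Y) :
    ∃ e : Γ(Y, ⊤), IsIdempotentElem e ∧ e ≠ 0 ∧ e ≠ 1 := by
  have hnp : ¬ PreconnectedSpace Y := fun hp => h { toPreconnectedSpace := hp, toNonempty := ‹_› }
  rw [preconnectedSpace_iff_clopen] at hnp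
  push Not at hnp
  obtain ⟨s, hs, hne, hnu⟩ := hnp
  let U : Y.Opens := ⟨s, hs.2⟩
  let V : Y.Opens := ⟨sᶜ, hs.1.isOpen_compl⟩
  refine exists_idem_of_cover Y U V ?_ ?_ ?_ ?_
  · ext x
    simp only [Opens.coe_inf, Opens.coe_bot, Set.mem_inter_iff, Set.mem_empty_iff_false, iff_false]
    rintro ⟨h1, h2⟩
    exact h2 h1
  · ext x
    simp only [Opens.coe_sup, Opens.coe_top, Set.mem_union, Set.mem_univ, iff_true]
    exact Classical.em _
  · obtain ⟨y, hy⟩ := hne
    exact ⟨⟨y, hy⟩⟩
  · obtain ⟨y, hy⟩ := Set.nonempty_compl.mpr hnu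
    exact ⟨⟨y, hy⟩⟩

end Groth.Agent.Lib.Helper22.ConnIdem
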