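import Mathlib

/-!
helper22: if `A` is a `k`-algebra with only trivial idempotents and `A ⊗[k] L` has a nontrivial
idempotent, for `L/k` finite Galois, then some intermediate field `F ≠ k` of `L/k` maps to `A`.
-/

set_option autoImplicit false
universe u
open TensorProduct

namespace Groth.Agent.Lib.Helper22.GalIdem

variable {k : Type u} [Field k] {L : Type u} [Field L] [Algebra k L]
  {A : Type u} [CommRing A] [Algebra k A]

/-- the action of `Gal(L/k)` on `A ⊗[k] L`. -/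
noncomputable def ρ (σ : L ≃ₐ[k] L) : A ⊗[k] L →ₐ[A] A ⊗[k] L :=
  Algebra.TensorProduct.map (AlgHom.id A A) (σ : L →ₐ[k] L)

lemma ρ_tmul (σ : L ≃ₐ[k] L) (a : A) (l : L) : ρ σ (a ⊗ₜ[k] l) = a ⊗ₜ[k] σ l := by
  unfold ρ
  rw [Algebra.TensorProduct.map_tmul]
  rfl

lemma ρ_mul (σ τ : L ≃ₐ[k] L) (x : A ⊗[k] L) : ρ (σ * τ) x = ρ σ (ρ τ x) := by
  induction x using TensorProduct.induction_on with
  | zero => simp
  | tmul a l => rw [ρ_tmul, ρ_tmul, ρ_tmul]; rfl
  | add x y hx hy => rw [map_add, map_add, map_add, hx, hy]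

lemma ρ_one (x : A ⊗[k] L) : ρ (1 : L ≃ₐ[k] L) x = x := by
  induction x using TensorProduct.induction_on with
  | zero => simp
  | tmul a l => rw [ρ_tmul]; rfl
  | add x y hx hy => rw [map_add, hx, hy]

lemma ρ_inv_cancel (σ : L ≃ₐ[k] L) (x : A ⊗[k] L) : ρ σ (ρ σ⁻¹ x) = x := by
  rw [← ρ_mul, mul_inv_cancel, ρ_one]

lemma ρ_inv_cancel' (σ : L ≃ₐ[k] L) (x : A ⊗[k] L) : ρ σ⁻¹ (ρ σ x) = x := by
  rw [← ρ_mul, inv_mul_cancel, ρ_one]

lemma ρ_injective (σ : L ≃ₐ[k] L) : Function.Injective (ρ (A := A) σ) := by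
  intro x y h
  rw [← ρ_inv_cancel' σ x, h, ρ_inv_cancel']

lemma tmul_one_injective : Function.Injective (fun a : A => a ⊗ₜ[k] (1 : L)) :=
  Algebra.TensorProduct.includeLeft_injective (R := k) (S := k) (A := A) (B := L)
    (algebraMap k L).injective

variable [FiniteDimensional k L] [IsGalois k L]

lemma exists_of_invariant (x : A ⊗[k] L) (hx : ∀ σ : L ≃ₐ[k] L, ρ σ x = x) :
    ∃ a : A, x = a ⊗ₜ[k] (1 : L) := by
  classical
  obtain ⟨c, hc⟩ := Algebra.trace_surjective k L 1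
  have hN : ∀ y : A ⊗[k] L, ∃ a : A, ∑ σ : L ≃ₐ[k] L, ρ σ y = a ⊗ₜ[k] (1 : L) := by
    intro y
    induction y using TensorProduct.induction_on with
    | zero => exact ⟨0, by simp⟩
    | tmul a l =>
      refine ⟨Algebra.trace k L l • a, ?_⟩
      simp_rw [ρ_tmul]
      rw [← TensorProduct.tmul_sum, ← trace_eq_sum_automorphisms, Algebra.algebraMap_eq_smul_one,
        TensorProduct.smul_tmul]
    | add y z hy hz =>
      obtain ⟨a, ha⟩ := hy
      obtain ⟨b, hb⟩ := hz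
      refine ⟨a + b, ?_⟩
      simp_rw [map_add]
      rw [Finset.sum_add_distrib, ha, hb, TensorProduct.add_tmul]
  obtain ⟨a, ha⟩ := hN (x * (1 ⊗ₜ[k] c))
  refine ⟨a, ?_⟩
  rw [← ha]
  simp_rw [map_mul, hx, ρ_tmul]
  rw [← Finset.mul_sum, ← TensorProduct.tmul_sum, ← trace_eq_sum_automorphisms, hc, map_one]
  exact (mul_one x).symm


section atoms

/-- the factor attached to `σ` and a sign. -/
noncomputable def p (e : A ⊗[k] L) (σ : L ≃ₐ[k] L) (b : Bool) : A ⊗[k] L :=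
  cond b (ρ σ e) (1 - ρ σ e)

/-- the atoms of the Boolean algebra generated by the conjugates of `e`. -/
noncomputable def atom (e : A ⊗[k] L) (T : (L ≃ₐ[k] L) → Bool) : A ⊗[k] L :=
  ∏ σ : L ≃ₐ[k] L, p e σ (T σ)

variable {e : A ⊗[k] L} (he : IsIdempotentElem e)
include he

lemma ρ_idem (σ : L ≃ₐ[k] L) : IsIdempotentElem (ρ σ e) := by
  unfold IsIdempotentElem
  rw [← map_mul, he.eq]

lemma p_idem (σ : L ≃ₐ[k] L) (b : Bool) : p e σ b * p e σ b = p e σ b := by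
  cases b
  · exact (ρ_idem he σ).one_sub.eq
  · exact (ρ_idem he σ).eq

lemma p_orth (σ : L ≃ₐ[k] L) : p e σ true * p e σ false = 0 := by
  show ρ σ e * (1 - ρ σ e) = 0
  rw [mul_sub, mul_one, (ρ_idem he σ).eq, sub_self]

lemma p_orth' (σ : L ≃ₐ[k] L) (b b' : Bool) (h : b ≠ b') : p e σ b * p e σ b' = 0 := by
  cases b <;> cases b'
  · exact absurd rfl h
  · rw [mul_comm]; exact p_orth he σ
  · exact p_orth he σ
  · exact absurd rfl h

omit he in
open scoped Classical in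
lemma sum_atom : ∑ T : (L ≃ₐ[k] L) → Bool, atom e T = 1 := by
  classical
  unfold atom
  rw [← Fintype.prod_sum (fun σ b => p e σ b)]
  apply Finset.prod_eq_one
  intro σ _
  rw [Fintype.sum_bool]
  show ρ σ e + (1 - ρ σ e) = 1
  ring

omit he in
lemma ρ_p (τ σ : L ≃ₐ[k] L) (b : Bool) : ρ τ (p e σ b) = p e (τ * σ) b := by
  cases b
  · show ρ τ (1 - ρ σ e) = 1 - ρ (τ * σ) e
    rw [map_sub, map_one, ρ_mul]
  · show ρ τ (ρ σ e) = ρ (τ * σ) e
    rw [ρ_mul]

omit he in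
lemma ρ_atom (τ : L ≃ₐ[k] L) (T : (L ≃ₐ[k] L) → Bool) :
    ρ τ (atom e T) = atom e (fun σ => T (τ⁻¹ * σ)) := by
  unfold atom
  rw [map_prod]
  simp_rw [ρ_p]
  exact Fintype.prod_equiv (Equiv.mulLeft τ) _ _ (fun σ => by simp)

lemma atom_orth (T T' : (L ≃ₐ[k] L) → Bool) (h : T ≠ T') : atom e T * atom e T' = 0 := by
  obtain ⟨σ, hσ⟩ := Function.ne_iff.mp h
  unfold atom
  rw [← Finset.prod_mul_distrib]
  exact Finset.prod_eq_zero (Finset.mem_univ σ) (p_orth' he σ _ _ hσ)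

lemma atom_idem (T : (L ≃ₐ[k] L) → Bool) : IsIdempotentElem (atom e T) := by
  unfold IsIdempotentElem atom
  rw [← Finset.prod_mul_distrib]
  exact Finset.prod_congr rfl (fun σ _ => p_idem he σ _)

lemma p_mul_atom (T : (L ≃ₐ[k] L) → Bool) : p e 1 (T 1) * atom e T = atom e T := by
  classical
  unfold atom
  rw [← Finset.mul_prod_erase Finset.univ _ (Finset.mem_univ (1 : L ≃ₐ[k] L)), ← mul_assoc,
    p_idem he]

lemma exists_atom (hA : ∀ a : A, IsIdempotentElem a → a = 0 ∨ a = 1) (h0 : e ≠ 0) (h1 : e ≠ 1) :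
    ∃ ε : A ⊗[k] L, IsIdempotentElem ε ∧ ε ≠ 0 ∧ (∀ σ, ρ σ ε = ε ∨ ε * ρ σ ε = 0) ∧
      ∃ σ, ρ σ ε ≠ ε := by
  classical
  have hex : ∃ T : (L ≃ₐ[k] L) → Bool, atom e T ≠ 0 := by
    by_contra hcon
    push Not at hcon
    have h := sum_atom (e := e)
    rw [Finset.sum_eq_zero (fun T _ => hcon T)] at h
    apply h0
    rw [← mul_one e, ← h, mul_zero]
  obtain ⟨T, hT⟩ := hex
  refine ⟨atom e T, atom_idem he T, hT, ?_, ?_⟩
  · intro σ
    rw [ρ_atom]
    by_cases hTσ : T = (fun τ => T (σ⁻¹ * τ))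
    · left; rw [← hTσ]
    · right; exact atom_orth he _ _ hTσ
  · by_contra hcon
    push Not at hcon
    obtain ⟨a, ha⟩ := exists_of_invariant (atom e T) hcon
    have haid : IsIdempotentElem a := by
      apply tmul_one_injective (k := k) (L := L)
      show (a * a) ⊗ₜ[k] (1 : L) = a ⊗ₜ[k] (1 : L)
      have := (atom_idem he T).eq
      rw [ha, Algebra.TensorProduct.tmul_mul_tmul, mul_one] at this
      exact this
    have hε1 : atom e T = 1 := by
      rcases hA a haid with h | h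
      · exfalso; apply hT; rw [ha, h, TensorProduct.zero_tmul]
      · rw [ha, h]; rfl
    have hp := p_mul_atom he T
    rw [hε1, mul_one] at hp
    cases hT1 : T 1
    · rw [hT1] at hp
      have : (1 : A ⊗[k] L) - ρ 1 e = 1 := hp
      rw [ρ_one] at this
      apply h0
      have h2 : e = 1 - (1 - e) := by ring
      rw [h2, this, sub_self]
    · rw [hT1] at hp
      have : ρ 1 e = 1 := hp
      rw [ρ_one] at this
      exact h1 this

end atoms


section hom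

/-- the stabiliser of `ε`. -/
def stab (ε : A ⊗[k] L) : Subgroup (L ≃ₐ[k] L) where
  carrier := {σ | ρ σ ε = ε}
  mul_mem' := fun {a b} ha hb => by
    show ρ (a * b) ε = ε
    rw [ρ_mul, (show ρ b ε = ε from hb), (show ρ a ε = ε from ha)]
  one_mem' := ρ_one ε
  inv_mem' := fun {a} ha => by
    show ρ a⁻¹ ε = ε
    have h : ρ a ε = ε := ha
    conv_lhs => rw [← h]
    exact ρ_inv_cancel' a ε

lemma mem_stab (ε : A ⊗[k] L) (σ : L ≃ₐ[k] L) : σ ∈ stab ε ↔ ρ σ ε = ε := Iff.rfl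

/-- the summand. -/
noncomputable def ψ (ε : A ⊗[k] L) (l : L) (σ : L ≃ₐ[k] L) : A ⊗[k] L :=
  ρ σ ε * ((1 : A) ⊗ₜ[k] σ l)

lemma ψ_mul_right (ε : A ⊗[k] L) (l : L) (σ h : L ≃ₐ[k] L) (hh : ρ h ε = ε) (hl : h l = l) :
    ψ ε l (σ * h) = ψ ε l σ := by
  unfold ψ
  rw [ρ_mul, hh]
  congr 2
  show σ (h l) = σ l
  rw [hl]

lemma ρ_ψ (ε : A ⊗[k] L) (l : L) (τ σ : L ≃ₐ[k] L) : ρ τ (ψ ε l σ) = ψ ε l (τ * σ) := by
  unfold ψ
  rw [map_mul, ← ρ_mul, ρ_tmul]
  rfl

/-- the summand, descended to cosets. -/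
noncomputable def ψq (ε : A ⊗[k] L) (l : L) (hl : ∀ h ∈ stab ε, h l = l)
    (q : (L ≃ₐ[k] L) ⧸ stab ε) : A ⊗[k] L :=
  Quotient.liftOn' q (ψ ε l) (fun a b hab => by
    have h1 : a⁻¹ * b ∈ stab ε := QuotientGroup.leftRel_apply.mp hab
    have h2 : b = a * (a⁻¹ * b) := by group
    rw [h2, ψ_mul_right ε l a _ h1 (hl _ h1)])

lemma ψq_mk (ε : A ⊗[k] L) (l : L) (hl : ∀ h ∈ stab ε, h l = l) (σ : L ≃ₐ[k] L) :
    ψq ε l hl (QuotientGroup.mk σ) = ψ ε l σ := rfl

lemma ρ_ψq (ε : A ⊗[k] L) (l : L) (hl : ∀ h ∈ stab ε, h l = l) (τ : L ≃ₐ[k] L)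
    (q : (L ≃ₐ[k] L) ⧸ stab ε) : ρ τ (ψq ε l hl q) = ψq ε l hl (τ • q) := by
  induction q using Quotient.inductionOn' with
  | h σ => exact ρ_ψ ε l τ σ

noncomputable local instance (ε : A ⊗[k] L) : Fintype ((L ≃ₐ[k] L) ⧸ stab ε) := Fintype.ofFinite _

/-- the invariant element attached to `l`. -/
noncomputable def S (ε : A ⊗[k] L) (l : L) (hl : ∀ h ∈ stab ε, h l = l) : A ⊗[k] L :=
  ∑ q : (L ≃ₐ[k] L) ⧸ stab ε, ψq ε l hl q

lemma ρ_S (ε : A ⊗[k] L) (l : L) (hl : ∀ h ∈ stab ε, h l = l) (τ : L ≃ₐ[k] L) :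
    ρ τ (S ε l hl) = S ε l hl := by
  unfold S
  rw [map_sum]
  simp_rw [ρ_ψq]
  exact Equiv.sum_comp (MulAction.toPerm τ) (fun q => ψq ε l hl q)

lemma ψq_mul (ε : A ⊗[k] L) (hε : IsIdempotentElem ε) (l m : L) (hl : ∀ h ∈ stab ε, h l = l)
    (hm : ∀ h ∈ stab ε, h m = m) (hlm : ∀ h ∈ stab ε, h (l * m) = l * m)
    (q : (L ≃ₐ[k] L) ⧸ stab ε) : ψq ε l hl q * ψq ε m hm q = ψq ε (l * m) hlm q := by
  induction q using Quotient.inductionOn' with
  | h σ =>
    show ψ ε l σ * ψ ε m σ = ψ ε (l * m) σ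
    unfold ψ
    rw [mul_mul_mul_comm, (ρ_idem hε σ).eq, Algebra.TensorProduct.tmul_mul_tmul, mul_one, map_mul]

lemma ψq_orth (ε : A ⊗[k] L) (horth : ∀ σ, ρ σ ε = ε ∨ ε * ρ σ ε = 0) (l m : L)
    (hl : ∀ h ∈ stab ε, h l = l) (hm : ∀ h ∈ stab ε, h m = m)
    (q q' : (L ≃ₐ[k] L) ⧸ stab ε) (hne : q ≠ q') : ψq ε l hl q * ψq ε m hm q' = 0 := by
  induction q using Quotient.inductionOn' with
  | h σ =>
    induction q' using Quotient.inductionOn' with
    | h σ' =>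
      show ψ ε l σ * ψ ε m σ' = 0
      have hns : σ⁻¹ * σ' ∉ stab ε := fun hmem => hne (QuotientGroup.eq.mpr hmem)
      have h0 : ε * ρ (σ⁻¹ * σ') ε = 0 := by
        rcases horth (σ⁻¹ * σ') with h | h
        · exact absurd h hns
        · exact h
      have h1 : ρ σ ε * ρ σ' ε = 0 := by
        have h2 : σ' = σ * (σ⁻¹ * σ') := by group
        rw [h2, ρ_mul σ, ← map_mul, h0, map_zero]
      unfold ψ
      rw [mul_mul_mul_comm, h1, zero_mul]

lemma S_mul (ε : A ⊗[k] L) (hε : IsIdempotentElem ε) (horth : ∀ σ, ρ σ ε = ε ∨ ε * ρ σ ε = 0)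
    (l m : L) (hl : ∀ h ∈ stab ε, h l = l)
    (hm : ∀ h ∈ stab ε, h m = m) (hlm : ∀ h ∈ stab ε, h (l * m) = l * m) :
    S ε l hl * S ε m hm = S ε (l * m) hlm := by
  classical
  unfold S
  rw [Finset.sum_mul_sum]
  apply Finset.sum_congr rfl
  intro q _
  rw [Finset.sum_eq_single q]
  · exact ψq_mul ε hε l m hl hm hlm q
  · intro q' _ hne
    exact ψq_orth ε horth l m hl hm q q' hne.symm
  · intro h; exact absurd (Finset.mem_univ q) h

lemma S_add (ε : A ⊗[k] L) (l m : L) (hl : ∀ h ∈ stab ε, h l = l)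
    (hm : ∀ h ∈ stab ε, h m = m) (hlm : ∀ h ∈ stab ε, h (l + m) = l + m) :
    S ε (l + m) hlm = S ε l hl + S ε m hm := by
  unfold S
  rw [← Finset.sum_add_distrib]
  apply Finset.sum_congr rfl
  intro q _
  induction q using Quotient.inductionOn' with
  | h σ =>
    show ψ ε (l + m) σ = ψ ε l σ + ψ ε m σ
    unfold ψ
    rw [map_add, TensorProduct.tmul_add, mul_add]

lemma S_zero (ε : A ⊗[k] L) (h0 : ∀ h ∈ stab ε, h (0 : L) = 0) : S ε 0 h0 = 0 := by
  unfold S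
  apply Finset.sum_eq_zero
  intro q _
  induction q using Quotient.inductionOn' with
  | h σ =>
    show ψ ε 0 σ = 0
    unfold ψ
    rw [map_zero, TensorProduct.tmul_zero, mul_zero]

lemma S_mul_alg (ε : A ⊗[k] L) (c : k) (h1 : ∀ h ∈ stab ε, h (1 : L) = 1)
    (hc : ∀ h ∈ stab ε, h (algebraMap k L c) = algebraMap k L c) :
    S ε (algebraMap k L c) hc = S ε 1 h1 * ((algebraMap k A c) ⊗ₜ[k] (1 : L)) := by
  unfold S
  rw [Finset.sum_mul]
  apply Finset.sum_congr rfl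
  intro q _
  induction q using Quotient.inductionOn' with
  | h σ =>
    show ψ ε (algebraMap k L c) σ = ψ ε 1 σ * _
    unfold ψ
    rw [mul_assoc, Algebra.TensorProduct.tmul_mul_tmul, one_mul, mul_one, AlgEquiv.commutes,
      map_one, Algebra.algebraMap_eq_smul_one, Algebra.algebraMap_eq_smul_one,
      TensorProduct.smul_tmul]

lemma S_one (hA : ∀ a : A, IsIdempotentElem a → a = 0 ∨ a = 1)
    (ε : A ⊗[k] L) (hε : IsIdempotentElem ε) (hε0 : ε ≠ 0)
    (horth : ∀ σ, ρ σ ε = ε ∨ ε * ρ σ ε = 0) (h1 : ∀ h ∈ stab ε, h (1 : L) = 1) :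
    S ε 1 h1 = 1 := by
  classical
  obtain ⟨a, ha⟩ := exists_of_invariant (S ε 1 h1) (ρ_S ε 1 h1)
  have hidem : S ε 1 h1 * S ε 1 h1 = S ε 1 h1 := by
    have := S_mul ε hε horth 1 1 h1 h1 (by rw [mul_one]; exact h1)
    rw [this]
    congr 1
    exact mul_one 1
  have haid : IsIdempotentElem a := by
    apply tmul_one_injective (k := k) (L := L)
    show (a * a) ⊗ₜ[k] (1 : L) = a ⊗ₜ[k] (1 : L)
    rw [ha, Algebra.TensorProduct.tmul_mul_tmul, mul_one] at hidem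
    exact hidem
  have hε' : ψq ε 1 h1 (QuotientGroup.mk 1) = ε := by
    show ψ ε 1 1 = ε
    unfold ψ
    rw [ρ_one, map_one]
    exact mul_one ε
  have hsε : S ε 1 h1 * ψq ε 1 h1 (QuotientGroup.mk 1) = ψq ε 1 h1 (QuotientGroup.mk 1) := by
    unfold S
    rw [Finset.sum_mul, Finset.sum_eq_single (QuotientGroup.mk 1)]
    · rw [hε']; exact hε.eq
    · intro q _ hne
      exact ψq_orth ε horth 1 1 h1 h1 q _ hne
    · intro h; exact absurd (Finset.mem_univ _) h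
  rw [hε'] at hsε
  rcases hA a haid with h | h
  · exfalso
    apply hε0
    rw [← hsε, ha, h, TensorProduct.zero_tmul, zero_mul]
  · rw [ha, h]; rfl

theorem exists_algHom (hA : ∀ a : A, IsIdempotentElem a → a = 0 ∨ a = 1)
    (e : A ⊗[k] L) (he : IsIdempotentElem e) (h0 : e ≠ 0) (h1 : e ≠ 1) :
    ∃ F : IntermediateField k L, F ≠ ⊥ ∧ Nonempty (F →ₐ[k] A) := by
  classical
  obtain ⟨ε, hε, hε0, horth, σ₀, hσ₀⟩ := exists_atom he hA h0 h1
  refine ⟨IntermediateField.fixedField (stab ε), ?_, ?_⟩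
  · intro hbot
    have h2 := IntermediateField.fixingSubgroup_fixedField (stab ε)
    rw [hbot, IntermediateField.fixingSubgroup_bot] at h2
    apply hσ₀
    have : σ₀ ∈ stab ε := by rw [← h2]; trivial
    exact this
  · have hl : ∀ x : IntermediateField.fixedField (stab ε), ∀ h ∈ stab ε, h (x : L) = x :=
      fun x => (IntermediateField.mem_fixedField_iff (stab ε) (x : L)).mp x.2
    have hex : ∀ x : IntermediateField.fixedField (stab ε),
        ∃ a : A, S ε (x : L) (hl x) = a ⊗ₜ[k] (1 : L) :=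
      fun x => exists_of_invariant _ (ρ_S ε (x : L) (hl x))
    choose f hf using hex
    have hinj := tmul_one_injective (k := k) (L := L) (A := A)
    have hone : f 1 = 1 := by
      apply hinj
      show f 1 ⊗ₜ[k] (1 : L) = 1 ⊗ₜ[k] (1 : L)
      rw [← hf 1]
      exact S_one hA ε hε hε0 horth (hl 1)
    have hmul : ∀ x y, f (x * y) = f x * f y := by
      intro x y
      apply hinj
      show f (x * y) ⊗ₜ[k] (1 : L) = (f x * f y) ⊗ₜ[k] (1 : L)
      rw [← hf (x * y)]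
      have := S_mul ε hε horth (x : L) (y : L) (hl x) (hl y) (hl (x * y))
      rw [hf x, hf y, Algebra.TensorProduct.tmul_mul_tmul, mul_one] at this
      exact this.symm
    have hzero : f 0 = 0 := by
      apply hinj
      show f 0 ⊗ₜ[k] (1 : L) = 0 ⊗ₜ[k] (1 : L)
      rw [← hf 0, TensorProduct.zero_tmul]
      exact S_zero ε (hl 0)
    have hadd : ∀ x y, f (x + y) = f x + f y := by
      intro x y
      apply hinj
      show f (x + y) ⊗ₜ[k] (1 : L) = (f x + f y) ⊗ₜ[k] (1 : L)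
      rw [← hf (x + y), TensorProduct.add_tmul, ← hf x, ← hf y]
      exact S_add ε (x : L) (y : L) (hl x) (hl y) (hl (x + y))
    have hcomm : ∀ c : k, f (algebraMap k _ c) = algebraMap k A c := by
      intro c
      apply hinj
      show f (algebraMap k _ c) ⊗ₜ[k] (1 : L) = (algebraMap k A c) ⊗ₜ[k] (1 : L)
      rw [← hf (algebraMap k _ c)]
      have := S_mul_alg ε c (hl 1) (hl (algebraMap k _ c))
      rw [S_one hA ε hε hε0 horth (hl 1), one_mul] at this
      exact this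
    let g : IntermediateField.fixedField (stab ε) →+* A :=
      { toFun := f
        map_one' := hone
        map_mul' := hmul
        map_zero' := hzero
        map_add' := hadd }
    exact ⟨{ g with commutes' := hcomm }⟩

end hom

end Groth.Agent.Lib.Helper22.GalIdem
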