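import Mathlib
import Groth.Prelude.Def_W4c4chowquasisplitNorm
import Groth.Agent.Lib.Helper22.GalIdem
import Groth.Agent.Lib.Helper22.ConnIdem

set_option autoImplicit false
universe u
open CategoryTheory AlgebraicGeometry Opposite TopologicalSpace TensorProduct

namespace Groth.Agent.Lib.Helper22.ConnBC

open Groth.Agent.Lib.Helper22

/-- the ring of global sections of a base change to a field extension. -/
lemma exists_ringEquiv (k : Type u) [Field k] (L : Type u) [Field L] [Algebra k L]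
    (X : Scheme.{u}) [X.Over (Spec (CommRingCat.of k))]
    [CompactSpace X] [QuasiSeparatedSpace X] :
    letI : Algebra k Γ(X, ⊤) :=
      ((Scheme.ΓSpecIso (CommRingCat.of k)).inv ≫ (X ↘ Spec (CommRingCat.of k)).appTop).hom.toAlgebra
    Nonempty ((Γ(X, ⊤) ⊗[k] L) ≃+* Γ(Curv2.bc k X L, ⊤)) := by
  letI : Algebra k Γ(X, ⊤) :=
    ((Scheme.ΓSpecIso (CommRingCat.of k)).inv ≫ (X ↘ Spec (CommRingCat.of k)).appTop).hom.toAlgebra
  have H : IsPullback (Curv2.bcFst k X L) (Curv2.bcSnd k X L) (X ↘ Spec (CommRingCat.of k))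
      (Spec.map (CommRingCat.ofHom (algebraMap k L))) := IsPullback.of_hasPullback _ _
  haveI : Flat (Spec.map (CommRingCat.ofHom (algebraMap k L))) := by
    rw [Flat.SpecMap_iff]
    show (algebraMap k L).Flat
    rw [RingHom.flat_algebraMap_iff]
    infer_instance
  have hiso := isIso_pushoutSection_of_isQuasiSeparated_of_flat_right H
    (US := ⊤) (UT := ⊤) (UX := ⊤) (UY := ⊤) le_top le_top (by simp)
    (isAffineOpen_top _) (isAffineOpen_top _) isCompact_univ isQuasiSeparated_univ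
  have h0 := (isIso_pushoutSection_iff H (US := ⊤) (UT := ⊤) (UX := ⊤) (UY := ⊤)
    le_top le_top (by simp)).mp hiso
  have e1 : (X ↘ Spec (CommRingCat.of k)).appLE ⊤ ⊤ le_top = (X ↘ Spec (CommRingCat.of k)).appTop :=
    Scheme.Hom.appLE_eq_app _
  have e2 : (Spec.map (CommRingCat.ofHom (algebraMap k L))).appLE ⊤ ⊤ le_top =
      (Spec.map (CommRingCat.ofHom (algebraMap k L))).appTop := Scheme.Hom.appLE_eq_app _
  have h1 : IsPushout (CommRingCat.ofHom (algebraMap k Γ(X, ⊤)))
      (CommRingCat.ofHom (algebraMap k L))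
      ((Curv2.bcFst k X L).appLE ⊤ ⊤ (by simp))
      ((Scheme.ΓSpecIso (CommRingCat.of L)).inv ≫ (Curv2.bcSnd k X L).appLE ⊤ ⊤ (by simp)) := by
    refine h0.of_iso (Scheme.ΓSpecIso (CommRingCat.of k)) (Iso.refl _)
      (Scheme.ΓSpecIso (CommRingCat.of L)) (Iso.refl _) ?_ ?_ ?_ ?_
    · rw [e1, Iso.refl_hom, Category.comp_id]
      show _ = (Scheme.ΓSpecIso (CommRingCat.of k)).hom ≫
        ((Scheme.ΓSpecIso (CommRingCat.of k)).inv ≫ (X ↘ Spec (CommRingCat.of k)).appTop)
      rw [Iso.hom_inv_id_assoc]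
    · rw [e2]
      exact Scheme.ΓSpecIso_naturality _
    · rw [Iso.refl_hom, Iso.refl_hom, Category.comp_id, Category.id_comp]
    · rw [Iso.refl_hom, Category.comp_id, Iso.hom_inv_id_assoc]
  exact ⟨((CommRingCat.isPushout_tensorProduct k Γ(X, ⊤) L).isoIsPushout _ _ h1).commRingCatIsoToRingEquiv⟩


theorem exists_factor (k : Type u) [Field k] (K : Type u) [Field K] [Algebra k K]
    (L : IntermediateField k K) [FiniteDimensional k L] [IsGalois k L]
    (X : Scheme.{u}) [X.Over (Spec (CommRingCat.of k))]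
    [IsSeparated (X ↘ Spec (CommRingCat.of k))] [QuasiCompact (X ↘ Spec (CommRingCat.of k))]
    [ConnectedSpace X] (hdisc : ¬ ConnectedSpace ↥(Curv2.bc k X L)) :
    ∃ (F : IntermediateField k K) (_ : FiniteDimensional k F) (_ : F ≠ ⊥)
      (g : X ⟶ Spec (CommRingCat.of F)),
      g ≫ Spec.map (CommRingCat.ofHom (algebraMap k F)) = X ↘ Spec (CommRingCat.of k) := by
  haveI : CompactSpace X := QuasiCompact.compactSpace_of_compactSpace (X ↘ Spec (CommRingCat.of k))
  haveI : QuasiSeparatedSpace X := quasiSeparatedSpace_of_quasiSeparated (X ↘ Spec (CommRingCat.of k))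
  letI : Algebra k Γ(X, ⊤) :=
    ((Scheme.ΓSpecIso (CommRingCat.of k)).inv ≫ (X ↘ Spec (CommRingCat.of k)).appTop).hom.toAlgebra
  obtain ⟨eqv⟩ := exists_ringEquiv k L X
  haveI : Nontrivial Γ(X, ⊤) := by
    haveI : Nonempty (⊤ : X.Opens) := ⟨⟨Classical.arbitrary X, trivial⟩⟩
    exact Scheme.component_nontrivial X ⊤
  have hinj := GalIdem.tmul_one_injective (k := k) (L := L) (A := Γ(X, ⊤))
  haveI : Nonempty ↥(Curv2.bc k X L) := by
    rcases isEmpty_or_nonempty ↥(Curv2.bc k X L) with h | h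
    · exfalso
      haveI : Subsingleton (Γ(X, ⊤) ⊗[k] (L : Type u)) := eqv.injective.subsingleton
      have h01 : (0 : Γ(X, ⊤)) = 1 := hinj (Subsingleton.elim _ _)
      exact zero_ne_one h01
    · exact h
  obtain ⟨e, he, he0, he1⟩ := ConnIdem.exists_idem_of_not_connected (Curv2.bc k X L) hdisc
  have he' : IsIdempotentElem (eqv.symm e) := by
    unfold IsIdempotentElem
    rw [← map_mul, he.eq]
  have he0' : eqv.symm e ≠ 0 := fun h => he0 (by rw [← eqv.apply_symm_apply e, h, map_zero])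
  have he1' : eqv.symm e ≠ 1 := fun h => he1 (by rw [← eqv.apply_symm_apply e, h, map_one])
  obtain ⟨F', hF', ⟨φ⟩⟩ := GalIdem.exists_algHom
    (fun a ha => ConnIdem.idem_of_connected X a ha) (eqv.symm e) he' he0' he1'
  let φ' : IntermediateField.lift F' →ₐ[k] Γ(X, ⊤) :=
    φ.comp (IntermediateField.liftAlgEquiv F').symm.toAlgHom
  refine ⟨IntermediateField.lift F', ?_, ?_,
    X.toSpecΓ ≫ Spec.map (CommRingCat.ofHom φ'.toRingHom), ?_⟩
  · exact Module.Finite.equiv (IntermediateField.liftAlgEquiv F').toLinearEquiv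
  · intro hbot
    apply hF'
    apply IntermediateField.lift_injective L
    rw [hbot, IntermediateField.lift_bot]
  · rw [Category.assoc, ← Spec.map_comp]
    have h1 : CommRingCat.ofHom (algebraMap k (IntermediateField.lift F')) ≫
        CommRingCat.ofHom φ'.toRingHom =
        (Scheme.ΓSpecIso (CommRingCat.of k)).inv ≫ (X ↘ Spec (CommRingCat.of k)).appTop := by
      ext c
      exact φ'.commutes c
    rw [h1, Spec.map_comp, ← Scheme.toSpecΓ_naturality_assoc, toSpecΓ_SpecMap_ΓSpecIso_inv,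
      Category.comp_id]

end Groth.Agent.Lib.Helper22.ConnBC
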