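import Mathlib
import Groth.Prelude.Def_DescFam

set_option autoImplicit false

universe w u

open CategoryTheory CategoryTheory.Limits AlgebraicGeometry

namespace Groth.Agent.Lib.Helper22.DescPts

open Desc

variable {S : Scheme.{u}} {ι : Type w} {X : ι → Scheme.{u}} {f : ∀ i, X i ⟶ S}

/-- A "pointwise isomorphism" between two descent data: natural bijections on points over every
`x : T ⟶ X i`, compatible with the gluing bijections. -/
structure PtIso (D₁ D₂ : SchDDFam f) where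
  ψ : ∀ (i : ι) ⦃T : Scheme.{u}⦄ (x : T ⟶ X i), Lifts (D₁.obj i) x ≃ Lifts (D₂.obj i) x
  nat : ∀ (i : ι) ⦃T T' : Scheme.{u}⦄ (g : T' ⟶ T) (x : T ⟶ X i) (y : T' ⟶ X i) (_ : g ≫ x = y)
    (v : Lifts (D₁.obj i) x) (v' : Lifts (D₁.obj i) y), v'.1 = g ≫ v.1 → (ψ i y v').1 = g ≫ (ψ i x v).1
  compat : ∀ ⦃T : Scheme.{u}⦄ ⦃i j : ι⦄ (x₀ : T ⟶ X i) (x₁ : T ⟶ X j) (h : x₀ ≫ f i = x₁ ≫ f j)
    (v : Lifts (D₁.obj i) x₀), ψ j x₁ (D₁.φ x₀ x₁ h v) = D₂.φ x₀ x₁ h (ψ i x₀ v)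

namespace PtIso

variable {D₁ D₂ : SchDDFam f} (P : PtIso D₁ D₂)

/-- The universal point. -/
def univ (D : SchDDFam f) (i : ι) : Lifts (D.obj i) (D.obj i).hom := ⟨𝟙 _, Category.id_comp _⟩

/-- The underlying morphism. -/
def mor (i : ι) : (D₁.obj i).left ⟶ (D₂.obj i).left := (P.ψ i (D₁.obj i).hom (univ D₁ i)).1

lemma mor_hom (i : ι) : P.mor i ≫ (D₂.obj i).hom = (D₁.obj i).hom :=
  (P.ψ i (D₁.obj i).hom (univ D₁ i)).2

lemma ψ_val (i : ι) {T : Scheme.{u}} (x : T ⟶ X i) (v : Lifts (D₁.obj i) x) :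
    (P.ψ i x v).1 = v.1 ≫ P.mor i :=
  P.nat i v.1 (D₁.obj i).hom x v.2 (univ D₁ i) v (by simp [univ])

/-- The inverse pointwise isomorphism. -/
def symm : PtIso D₂ D₁ where
  ψ i T x := (P.ψ i x).symm
  nat i T T' g x y hy w w' hw := by
    have hv' : (g ≫ ((P.ψ i x).symm w).1) ≫ (D₁.obj i).hom = y := by
      rw [Category.assoc, ((P.ψ i x).symm w).2, hy]
    have h1 := P.nat i g x y hy ((P.ψ i x).symm w) ⟨g ≫ ((P.ψ i x).symm w).1, hv'⟩ rfl
    rw [Equiv.apply_symm_apply] at h1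
    have h2 : P.ψ i y ⟨g ≫ ((P.ψ i x).symm w).1, hv'⟩ = w' := Subtype.ext (h1.trans hw.symm)
    rw [← h2, Equiv.symm_apply_apply]
  compat T i j x₀ x₁ h w := by
    apply (P.ψ j x₁).injective
    rw [Equiv.apply_symm_apply, P.compat, Equiv.apply_symm_apply]

/-- The morphism of descent data underlying a pointwise isomorphism. -/
def toHom : D₁ ⟶ D₂ where
  hom i := Over.homMk (P.mor i) (P.mor_hom i)
  comm T i j x₀ x₁ h v w hw := by
    have e : w = P.ψ i x₀ v := Subtype.ext (by rw [P.ψ_val]; simpa using hw)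
    subst e
    rw [← P.compat, P.ψ_val]
    rfl

@[simp] lemma toHom_left (i : ι) : ((P.toHom).hom i).left = P.mor i := rfl

lemma mor_symm_mor (i : ι) : P.mor i ≫ P.symm.mor i = 𝟙 _ := by
  have h := P.symm.ψ_val i (D₁.obj i).hom (P.ψ i (D₁.obj i).hom (univ D₁ i))
  change ((P.ψ i (D₁.obj i).hom).symm (P.ψ i (D₁.obj i).hom (univ D₁ i))).1 = _ at h
  rw [Equiv.symm_apply_apply] at h
  exact h.symm

lemma symm_mor_mor (i : ι) : P.symm.mor i ≫ P.mor i = 𝟙 _ := by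
  have h := P.ψ_val i (D₂.obj i).hom (P.symm.ψ i (D₂.obj i).hom (univ D₂ i))
  change (P.ψ i (D₂.obj i).hom ((P.ψ i (D₂.obj i).hom).symm (univ D₂ i))).1 = _ at h
  rw [Equiv.apply_symm_apply] at h
  exact h.symm

/-- The isomorphism of descent data. -/
def iso : D₁ ≅ D₂ where
  hom := P.toHom
  inv := P.symm.toHom
  hom_inv_id := by
    ext i
    simp only [SchDDFam.comp_hom, SchDDFam.id_hom, Over.comp_left, toHom_left, Over.id_left]
    exact P.mor_symm_mor i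
  inv_hom_id := by
    ext i
    simp only [SchDDFam.comp_hom, SchDDFam.id_hom, Over.comp_left, toHom_left, Over.id_left]
    exact P.symm_mor_mor i

end PtIso

/-- Transport of a lift along an equality of base points. -/
def liftsCast {Y : Scheme.{u}} (V : Over Y) {T : Scheme.{u}} {x y : T ⟶ Y} (h : x = y) :
    Lifts V x ≃ Lifts V y where
  toFun v := ⟨v.1, v.2.trans h⟩
  invFun v := ⟨v.1, v.2.trans h.symm⟩
  left_inv _ := rfl
  right_inv _ := rfl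

@[simp] lemma liftsCast_val {Y : Scheme.{u}} (V : Over Y) {T : Scheme.{u}} {x y : T ⟶ Y} (h : x = y)
    (v : Lifts V x) : (liftsCast V h v).1 = v.1 := rfl

/-- A description of the points of `F D` as points of `D` over `x ≫ r i`. -/
structure PtDesc (F : SchDDFam f ⥤ SchDDFam f) (r : ∀ i, X i ⟶ X i) where
  e : ∀ (D : SchDDFam f) (i : ι) ⦃T : Scheme.{u}⦄ (x : T ⟶ X i),
    Lifts ((F.obj D).obj i) x ≃ Lifts (D.obj i) (x ≫ r i)
  e_nat : ∀ (D : SchDDFam f) (i : ι) ⦃T T' : Scheme.{u}⦄ (g : T' ⟶ T) (x : T ⟶ X i) (y : T' ⟶ X i)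
    (_ : g ≫ x = y) (v : Lifts ((F.obj D).obj i) x) (v' : Lifts ((F.obj D).obj i) y),
    v'.1 = g ≫ v.1 → (e D i y v').1 = g ≫ (e D i x v).1
  e_φ : ∀ (D : SchDDFam f) ⦃T : Scheme.{u}⦄ ⦃i j : ι⦄ (x₀ : T ⟶ X i) (x₁ : T ⟶ X j)
    (h : x₀ ≫ f i = x₁ ≫ f j) (h' : (x₀ ≫ r i) ≫ f i = (x₁ ≫ r j) ≫ f j)
    (v : Lifts ((F.obj D).obj i) x₀),
    e D j x₁ ((F.obj D).φ x₀ x₁ h v) = D.φ (x₀ ≫ r i) (x₁ ≫ r j) h' (e D i x₀ v)
  e_map : ∀ {D D' : SchDDFam f} (m : D ⟶ D') (i : ι) ⦃T : Scheme.{u}⦄ (x : T ⟶ X i)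
    (v : Lifts ((F.obj D).obj i) x) (v' : Lifts ((F.obj D').obj i) x),
    v'.1 = v.1 ≫ ((F.map m).hom i).left → (e D' i x v').1 = (e D i x v).1 ≫ (m.hom i).left

namespace PtDesc

variable {F : SchDDFam f ⥤ SchDDFam f} {r : ∀ i, X i ⟶ X i} (E : PtDesc F r)
  (hr : ∀ i, r i ≫ f i = f i)

include hr in
lemma hr' (i : ι) {T : Scheme.{u}} (x : T ⟶ X i) : (x ≫ r i) ≫ f i = x ≫ f i := by
  rw [Category.assoc, hr]

/-- The pointwise isomorphism `F D ≅ D`. -/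
def ptIso (D : SchDDFam f) : PtIso (F.obj D) D where
  ψ i T x := (E.e D i x).trans (D.φ (x ≫ r i) x (hr' hr i x))
  nat i T T' g x y hy v v' hv' := by
    simp only [Equiv.trans_apply]
    exact D.φ_natural g (x ≫ r i) x (hr' hr i x) (y ≫ r i) y (by rw [← hy, Category.assoc]) hy
      (hr' hr i y) _ _ (E.e_nat D i g x y hy v v' hv')
  compat T i j x₀ x₁ h v := by
    simp only [Equiv.trans_apply]
    rw [E.e_φ D x₀ x₁ h ((hr' hr i x₀).trans (h.trans (hr' hr j x₁).symm)), D.φ_comp, D.φ_comp]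

/-- A functor whose points are described via an endomorphism over the base is isomorphic to the
identity. -/
def natIso : F ≅ 𝟭 (SchDDFam f) :=
  NatIso.ofComponents (fun D => (E.ptIso hr D).iso) (by
    intro D D' m
    ext i
    simp only [Functor.id_obj, Functor.id_map, SchDDFam.comp_hom, Over.comp_left]
    change ((F.map m).hom i).left ≫ (E.ptIso hr D').mor i = (E.ptIso hr D).mor i ≫ (m.hom i).left
    have h1 := (E.ptIso hr D').ψ_val i ((F.obj D).obj i).hom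
      ⟨((F.map m).hom i).left, Over.w ((F.map m).hom i)⟩
    rw [← h1]
    change (D'.φ _ _ _ (E.e D' i _ _)).1 = (D.φ _ _ _ (E.e D i _ _)).1 ≫ _
    refine m.comm _ _ _ _ _ ?_
    exact E.e_map m i _ (PtIso.univ (F.obj D) i) _ (by simp [PtIso.univ]))

end PtDesc

@[simp] lemma liftsPullbackEquiv_val {Y Y' : Scheme.{u}} (V : Over Y) (q : Y' ⟶ Y) {T : Scheme.{u}}
    (x : T ⟶ Y') (v : Lifts (Over.mk (pullback.snd V.hom q)) x) :
    (liftsPullbackEquiv V q x v).1 = v.1 ≫ pullback.fst V.hom q := rfl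

section pull

variable (r : ∀ i, X i ⟶ X i) (wr : ∀ i, r i ≫ f i = f i ≫ 𝟙 S)

lemma pull_φ {X' : ι → Scheme.{u}} {f' : ∀ i, X' i ⟶ S} (p' : ∀ i, X' i ⟶ X i)
    (wp : ∀ i, p' i ≫ f i = f' i ≫ 𝟙 S) (D : SchDDFam f) {T : Scheme.{u}} {i j : ι}
    (x₀ : T ⟶ X' i) (x₁ : T ⟶ X' j) (h : x₀ ≫ f' i = x₁ ≫ f' j) (v) :
    liftsPullbackEquiv (D.obj j) (p' j) x₁
      (((pullDDFam (f := f) (f' := f') (α := fun j => j) (p := 𝟙 S) (p' := p') wp).obj D).φ x₀ x₁ h v) =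
    D.φ (x₀ ≫ p' i) (x₁ ≫ p' j) (pull_compat wp x₀ x₁ h) (liftsPullbackEquiv (D.obj i) (p' i) x₀ v) := by
  change liftsPullbackEquiv (D.obj j) (p' j) x₁ ((liftsPullbackEquiv (D.obj j) (p' j) x₁).symm _) = _
  rw [Equiv.apply_symm_apply]

lemma pull_map_left {X' : ι → Scheme.{u}} {f' : ∀ i, X' i ⟶ S} (p' : ∀ i, X' i ⟶ X i)
    (wp : ∀ i, p' i ≫ f i = f' i ≫ 𝟙 S) {D D' : SchDDFam f} (m : D ⟶ D') (i : ι) :
    (((pullDDFam (f := f) (f' := f') (α := fun j => j) (p := 𝟙 S) (p' := p') wp).map m).hom i).left ≫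
      pullback.fst (D'.obj i).hom (p' i) = pullback.fst (D.obj i).hom (p' i) ≫ (m.hom i).left := by
  exact pullback.lift_fst _ _ _

/-- Points description of the pullback functor along a family of endomorphisms. -/
noncomputable def ptDescPull :
    PtDesc (pullDDFam (f := f) (f' := f) (α := fun j => j) (p := 𝟙 S) (p' := r) wr) r where
  e D i T x := liftsPullbackEquiv (D.obj i) (r i) x
  e_nat D i T T' g x y hy v v' hv' := by
    change v'.1 ≫ pullback.fst _ _ = g ≫ (v.1 ≫ pullback.fst _ _)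
    rw [hv', Category.assoc]
  e_φ D T i j x₀ x₁ h h' v := pull_φ r wr D x₀ x₁ h v
  e_map {D D'} m i T x v v' hv' := by
    change v'.1 ≫ pullback.fst _ _ = (v.1 ≫ pullback.fst _ _) ≫ _
    rw [hv', Category.assoc, Category.assoc]
    congr 1
    exact pull_map_left r wr m i

end pull

section pull2

variable {X' : ι → Scheme.{u}} {f' : ∀ i, X' i ⟶ S}
  (p' : ∀ i, X' i ⟶ X i) (q' : ∀ i, X i ⟶ X' i)
  (wp : ∀ i, p' i ≫ f i = f' i ≫ 𝟙 S) (wq : ∀ i, q' i ≫ f' i = f i ≫ 𝟙 S)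

lemma φ_cast (D : SchDDFam f) {T : Scheme.{u}} {i j : ι} {y₀ y₀' : T ⟶ X i} {y₁ y₁' : T ⟶ X j}
    (e₀ : y₀ = y₀') (e₁ : y₁ = y₁')
    (k : y₀ ≫ f i = y₁ ≫ f j) (k' : y₀' ≫ f i = y₁' ≫ f j) (u : Lifts (D.obj i) y₀) :
    liftsCast (D.obj j) e₁ (D.φ y₀ y₁ k u) = D.φ y₀' y₁' k' (liftsCast (D.obj i) e₀ u) := by
  subst e₀ e₁
  rfl

lemma comp_aux {C : Type*} [Category C] {T A A' B B' E E' : C} (v : T ⟶ A) (L2 : A ⟶ A')
    (a' : A' ⟶ B') (a : A ⟶ B) (L1 : B ⟶ B') (b' : B' ⟶ E') (b : B ⟶ E) (mm : E ⟶ E')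
    (k2 : L2 ≫ a' = a ≫ L1) (k1 : L1 ≫ b' = b ≫ mm) :
    ((v ≫ L2) ≫ a') ≫ b' = ((v ≫ a) ≫ b) ≫ mm := by
  rw [Category.assoc, Category.assoc, reassoc_of% k2, k1]
  simp only [Category.assoc]

/-- Points description of the composite of two pullback functors. -/
noncomputable def ptDescPull2 :
    PtDesc (pullDDFam (f := f) (f' := f') (α := fun j => j) (p := 𝟙 S) (p' := p') wp ⋙
      pullDDFam (f := f') (f' := f) (α := fun j => j) (p := 𝟙 S) (p' := q') wq)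
      (fun i => q' i ≫ p' i) where
  e D i T x := (liftsPullbackEquiv _ (q' i) x).trans
    ((liftsPullbackEquiv (D.obj i) (p' i) (x ≫ q' i)).trans
      (liftsCast (D.obj i) (Category.assoc _ _ _)))
  e_nat D i T T' g x y hy v v' hv' := by
    change (v'.1 ≫ pullback.fst _ _) ≫ pullback.fst _ _ = g ≫ ((v.1 ≫ pullback.fst _ _) ≫ pullback.fst _ _)
    rw [hv']
    simp only [Category.assoc]
  e_φ D T i j x₀ x₁ h h' v := by
    have h1 := pull_φ q' wq ((pullDDFam wp).obj D) x₀ x₁ h v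
    have h2 := pull_φ p' wp D (x₀ ≫ q' i) (x₁ ≫ q' j) (pull_compat wq x₀ x₁ h)
      (liftsPullbackEquiv (((pullDDFam wp).obj D).obj i) (q' i) x₀ v)
    have h3 := φ_cast D (Category.assoc x₀ (q' i) (p' i)) (Category.assoc x₁ (q' j) (p' j))
      (pull_compat wp _ _ (pull_compat wq x₀ x₁ h)) h'
      (liftsPullbackEquiv (D.obj i) (p' i) (x₀ ≫ q' i)
        (liftsPullbackEquiv (((pullDDFam wp).obj D).obj i) (q' i) x₀ v))
    exact ((congrArg (fun z => liftsCast (D.obj j) (Category.assoc x₁ (q' j) (p' j))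
      (liftsPullbackEquiv (D.obj j) (p' j) (x₁ ≫ q' j) z)) h1).trans
        ((congrArg (liftsCast (D.obj j) (Category.assoc x₁ (q' j) (p' j))) h2).trans h3))
  e_map {D D'} m i T x v v' hv' := by
    have k2 := pull_map_left q' wq ((pullDDFam wp).map m) i
    have k1 := pull_map_left p' wp m i
    change (v'.1 ≫ pullback.fst _ _) ≫ pullback.fst _ _ =
      ((v.1 ≫ pullback.fst _ _) ≫ pullback.fst _ _) ≫ _
    rw [hv']
    exact comp_aux _ _ _ _ _ _ _ _ k2 k1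

end pull2

end Groth.Agent.Lib.Helper22.DescPts
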