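import Mathlib

/-!
helper22: invariance of `length(O_x / m_y O_x)` and of the inseparable degree of the residue field
extension under étale base change (for a commutative square with étale vertical... arrows).
-/

set_option autoImplicit false
universe u
open CategoryTheory AlgebraicGeometry IsLocalRing TensorProduct

namespace Groth.Agent.Lib.Helper22.EtInv

section alg
variable {A B : Type u} [CommRing A] [CommRing B] [IsLocalRing A] [IsLocalRing B]

theorem length_quot_map_flat (ψ : A →+* B) [IsLocalHom ψ] (hψ : ψ.Flat) (I : Ideal A) :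
    Module.length B (B ⧸ Ideal.map ψ I) =
      Module.length A (A ⧸ I) * Module.length B (B ⧸ Ideal.map ψ (maximalIdeal A)) := by
  algebraize [ψ]
  have hloc : IsLocalHom (algebraMap A B) := by
    rw [RingHom.algebraMap_toAlgebra]; infer_instance
  have h1 := IsLocalRing.length_baseChange A B (A ⧸ I)
  have h2 := (Algebra.TensorProduct.quotIdealMapEquivTensorQuot B I).toLinearEquiv.length_eq
  rw [← h2] at h1
  exact h1

end alg

section fields
variable {K L M : Type u} [Field K] [Field L] [Field M]

/-- inseparable degree of a field homomorphism. -/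
noncomputable def insepOf (φ : K →+* L) : ℕ :=
  letI := φ.toAlgebra
  Field.finInsepDegree K L

/-- separable degree of a field homomorphism. -/
noncomputable def sepOf (φ : K →+* L) : ℕ :=
  letI := φ.toAlgebra
  Field.finSepDegree K L

/-- degree of a field homomorphism. -/
noncomputable def rankOf (φ : K →+* L) : ℕ :=
  letI := φ.toAlgebra
  Module.finrank K L

lemma sepOf_mul_insepOf (φ : K →+* L) : sepOf φ * insepOf φ = rankOf φ := by
  letI := φ.toAlgebra
  exact Field.finSepDegree_mul_finInsepDegree K L

lemma insepOf_comp (φ : K →+* L) (ψ : L →+* M)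
    (halg : letI := φ.toAlgebra; Algebra.IsAlgebraic K L) :
    insepOf (ψ.comp φ) = insepOf φ * insepOf ψ := by
  letI := φ.toAlgebra
  letI := ψ.toAlgebra
  letI := (ψ.comp φ).toAlgebra
  haveI : IsScalarTower K L M := IsScalarTower.of_algebraMap_eq' rfl
  haveI : Algebra.IsAlgebraic K L := halg
  exact (Field.finInsepDegree_mul_finInsepDegree_of_isAlgebraic K L M).symm

lemma insepOf_of_isSeparable (φ : K →+* L)
    (h : letI := φ.toAlgebra; Algebra.IsSeparable K L) : insepOf φ = 1 := by
  letI := φ.toAlgebra
  haveI : Algebra.IsSeparable K L := h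
  exact Algebra.IsSeparable.finInsepDegree_eq K L

end fields

section geo
variable {U X V Y : Scheme.{u}}

lemma map_max_unram (g : V ⟶ Y) [FormallyUnramified g] [LocallyOfFiniteType g] (v : V) :
    Ideal.map (g.stalkMap v).hom (maximalIdeal (Y.presheaf.stalk (g v))) =
      maximalIdeal (V.presheaf.stalk v) := by
  algebraize [(g.stalkMap v).hom]
  haveI : IsLocalHom (algebraMap (Y.presheaf.stalk (g v)) (V.presheaf.stalk v)) :=
    inferInstanceAs <| IsLocalHom (g.stalkMap v).hom
  haveI : Algebra.EssFiniteType (Y.presheaf.stalk (g v)) (V.presheaf.stalk v) := by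
    rw [← RingHom.essFiniteType_algebraMap, RingHom.algebraMap_toAlgebra]
    exact LocallyOfFiniteType.stalkMap g v
  haveI : Algebra.FormallyUnramified (Y.presheaf.stalk (g v)) (V.presheaf.stalk v) := by
    rw [← RingHom.formallyUnramified_algebraMap, RingHom.algebraMap_toAlgebra]
    exact FormallyUnramified.stalkMap g v
  exact Algebra.FormallyUnramified.map_maximalIdeal

lemma map_max_congr (φ₁ φ₂ : U ⟶ Y) (e : φ₁ = φ₂) (u : U) :
    Ideal.map (φ₁.stalkMap u).hom (maximalIdeal (Y.presheaf.stalk (φ₁ u))) =
      Ideal.map (φ₂.stalkMap u).hom (maximalIdeal (Y.presheaf.stalk (φ₂ u))) := by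
  subst e
  rfl

lemma map_max_comp (π : U ⟶ X) (f : X ⟶ Y) (u : U) :
    Ideal.map ((π ≫ f).stalkMap u).hom (maximalIdeal (Y.presheaf.stalk ((π ≫ f) u))) =
      Ideal.map (π.stalkMap u).hom (Ideal.map (f.stalkMap (π u)).hom
        (maximalIdeal (Y.presheaf.stalk (f (π u))))) := by
  rw [Ideal.map_map, Scheme.Hom.stalkMap_comp]
  rfl

variable (π : U ⟶ X) (f : X ⟶ Y) (h : U ⟶ V) (g : V ⟶ Y) (hsq : π ≫ f = h ≫ g)

include hsq in
lemma ideal_eq [FormallyUnramified g] [LocallyOfFiniteType g] (u : U) :
    Ideal.map (h.stalkMap u).hom (maximalIdeal (V.presheaf.stalk (h u))) =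
      Ideal.map (π.stalkMap u).hom (Ideal.map (f.stalkMap (π u)).hom
        (maximalIdeal (Y.presheaf.stalk (f (π u))))) := by
  rw [← map_max_comp, map_max_congr _ _ hsq, map_max_comp, map_max_unram g (h u)]

include hsq in
theorem length_eq [FormallyUnramified g] [LocallyOfFiniteType g] [FormallyUnramified π]
    [LocallyOfFiniteType π] [Flat π] (u : U) :
    Module.length (U.presheaf.stalk u) (U.presheaf.stalk u ⧸
        Ideal.map (h.stalkMap u).hom (maximalIdeal (V.presheaf.stalk (h u)))) =
      Module.length (X.presheaf.stalk (π u)) (X.presheaf.stalk (π u) ⧸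
        Ideal.map (f.stalkMap (π u)).hom (maximalIdeal (Y.presheaf.stalk (f (π u))))) := by
  rw [ideal_eq π f h g hsq u, length_quot_map_flat (π.stalkMap u).hom (Flat.stalkMap π u),
    map_max_unram π u]
  have : Module.length (U.presheaf.stalk u)
      (U.presheaf.stalk u ⧸ maximalIdeal (U.presheaf.stalk u)) = 1 := by
    rw [Module.length_eq_one_iff]
    exact isSimpleModule_iff_quot_maximal.mpr ⟨_, maximalIdeal.isMaximal _, ⟨LinearEquiv.refl _ _⟩⟩
  rw [this, mul_one]

lemma insep_congr (φ₁ φ₂ : U ⟶ Y) (e : φ₁ = φ₂) (u : U) :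
    insepOf (φ₁.residueFieldMap u).hom = insepOf (φ₂.residueFieldMap u).hom := by
  subst e
  rfl

include hsq in
theorem insep_eq [FormallyUnramified g] [LocallyOfFiniteType g] [FormallyUnramified π]
    [LocallyOfFiniteType π] (u : U)
    (halg : letI := (f.residueFieldMap (π u)).hom.toAlgebra
      Algebra.IsAlgebraic (Y.residueField (f (π u))) (X.residueField (π u))) :
    insepOf (h.residueFieldMap u).hom = insepOf (f.residueFieldMap (π u)).hom := by
  have h1 : insepOf ((π ≫ f).residueFieldMap u).hom =
      insepOf (f.residueFieldMap (π u)).hom * insepOf (π.residueFieldMap u).hom := by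
    rw [Scheme.residueFieldMap_comp]
    exact insepOf_comp _ _ halg
  have h2 : insepOf ((h ≫ g).residueFieldMap u).hom =
      insepOf (g.residueFieldMap (h u)).hom * insepOf (h.residueFieldMap u).hom := by
    rw [Scheme.residueFieldMap_comp]
    refine insepOf_comp _ _ ?_
    letI := (g.residueFieldMap (h u)).hom.toAlgebra
    haveI : Algebra.IsSeparable (Y.residueField (g (h u))) (V.residueField (h u)) :=
      inferInstance
    exact (inferInstance : Algebra.IsAlgebraic (Y.residueField (g (h u))) (V.residueField (h u)))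
  have h3 : insepOf (π.residueFieldMap u).hom = 1 :=
    insepOf_of_isSeparable _ inferInstance
  have h4 : insepOf (g.residueFieldMap (h u)).hom = 1 :=
    insepOf_of_isSeparable _ inferInstance
  rw [h3, mul_one] at h1
  rw [h4, one_mul] at h2
  rw [← h1, ← h2]
  exact (insep_congr _ _ hsq u).symm

end geo

end Groth.Agent.Lib.Helper22.EtInv
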