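import Mathlib
import Groth.Agent.Lib.Helper63.DimOneSum

/-!
helper22: for a finite flat algebra `B` over `A` and a prime `p` of `A`, the sum over the primes
`q` of `B` over `p` of `length_{A_p}(B_q / p B_q)` is the rank of `B` at `p`.
-/

set_option autoImplicit false
universe u
open TensorProduct IsLocalRing

namespace Groth.Agent.Lib.Helper22.FinFlatSum

/-- the length of the fibre of a finite free algebra over a local ring. -/
lemma length_quot_free (A' : Type u) [CommRing A'] [IsLocalRing A'] (B' : Type u) [CommRing B']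
    [Algebra A' B'] [Module.Finite A' B'] [Module.Free A' B'] :
    Module.length A' (B' ⧸ (maximalIdeal A').map (algebraMap A' B')) =
      (Module.finrank A' B' : ℕ∞) := by
  let m := maximalIdeal A'
  let κ := A' ⧸ m
  letI : Field κ := Ideal.Quotient.field m
  have e1 : (κ ⊗[A'] B') ≃ₗ[A'] B' ⧸ (m • (⊤ : Submodule A' B')) :=
    TensorProduct.quotTensorEquivQuotSMul B' m
  have hsm : m • (⊤ : Submodule A' B') = (m.map (algebraMap A' B')).restrictScalars A' :=
    Ideal.smul_top_eq_map m
  have e2 : (B' ⧸ (m • (⊤ : Submodule A' B'))) ≃ₗ[A'] B' ⧸ (m.map (algebraMap A' B')) :=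
    (Submodule.quotEquivOfEq _ _ hsm).trans
      (Submodule.Quotient.restrictScalarsEquiv A' (m.map (algebraMap A' B')))
  rw [← (e1.trans e2).length_eq]
  rw [Module.length_eq_of_surjective (S := A') (R := κ) (M := κ ⊗[A'] B')
    Ideal.Quotient.mk_surjective]
  rw [Module.length_eq_finrank, Module.finrank_baseChange]


lemma finrank_tensor_eq_rankAtStalk {A B : Type u} [CommRing A] [CommRing B] [Algebra A B]
    (p : Ideal A) [hp : p.IsPrime] (A' : Type u) [CommRing A'] [Algebra A A']
    [IsLocalization.AtPrime A' p] :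
    Module.finrank A' (A' ⊗[A] B) = Module.rankAtStalk B ⟨p, hp⟩ := by
  rw [Module.rankAtStalk_eq_finrank_tensorProduct]
  let i : A' ≃ₐ[A] Localization.AtPrime p := IsLocalization.algEquiv p.primeCompl A' _
  let j : A' ⊗[A] B ≃ₐ[A] Localization.AtPrime p ⊗[A] B :=
    Algebra.TensorProduct.congr i AlgEquiv.refl
  refine Algebra.finrank_eq_of_equiv_equiv i.toRingEquiv j.toRingEquiv ?_
  ext a'
  show algebraMap (Localization.AtPrime p) (Localization.AtPrime p ⊗[A] B) (i a') =
    j (algebraMap A' (A' ⊗[A] B) a')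
  rw [Algebra.TensorProduct.algebraMap_apply, Algebra.TensorProduct.algebraMap_apply]
  show _ = j (a' ⊗ₜ[A] (1 : B))
  rw [Algebra.TensorProduct.congr_apply, Algebra.TensorProduct.map_tmul]
  rfl


section main
open Groth.Agent.Lib.Helper63.DimOneSum

attribute [local instance] Algebra.TensorProduct.rightAlgebra

variable {A B : Type u} [CommRing A] [CommRing B] [Algebra A B]
  (p : Ideal A) [hp : p.IsPrime] (A' : Type u) [CommRing A'] [Algebra A A']
  [IsLocalization.AtPrime A' p] [IsLocalRing A']

/-- the ideal generated by the maximal ideal of `A'` in `A' ⊗ B`. -/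
noncomputable def JJ : Ideal (A' ⊗[A] B) := (maximalIdeal A').map (algebraMap A' (A' ⊗[A] B))

lemma JJ_eq : JJ A' (A := A) (B := B) = (p.map (algebraMap A B)).map (algebraMap B (A' ⊗[A] B)) := by
  unfold JJ
  rw [← IsLocalization.AtPrime.map_eq_maximalIdeal p A', Ideal.map_map, Ideal.map_map]
  congr 1
  ext a
  show algebraMap A' (A' ⊗[A] B) (algebraMap A A' a) = algebraMap B (A' ⊗[A] B) (algebraMap A B a)
  rw [← IsScalarTower.algebraMap_apply, ← IsScalarTower.algebraMap_apply]

omit [IsLocalization.AtPrime A' p] in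
lemma comap_eq_max (n : Ideal (A' ⊗[A] B)) [n.IsPrime] (hJ : JJ A' (A := A) (B := B) ≤ n) :
    n.comap (algebraMap A' (A' ⊗[A] B)) = maximalIdeal A' := by
  have hle : maximalIdeal A' ≤ n.comap (algebraMap A' (A' ⊗[A] B)) :=
    Ideal.map_le_iff_le_comap.mp hJ
  have hne : n.comap (algebraMap A' (A' ⊗[A] B)) ≠ ⊤ := (Ideal.IsPrime.comap _).ne_top
  exact ((IsLocalRing.maximalIdeal.isMaximal A').eq_of_le hne hle).symm

lemma comap_comap_eq (n : Ideal (A' ⊗[A] B)) [n.IsPrime] (hJ : JJ A' (A := A) (B := B) ≤ n) :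
    (n.comap (algebraMap B (A' ⊗[A] B))).comap (algebraMap A B) = p := by
  have h1 := comap_eq_max A' n hJ
  rw [Ideal.comap_comap]
  have h2 : (algebraMap B (A' ⊗[A] B)).comp (algebraMap A B) =
      (algebraMap A' (A' ⊗[A] B)).comp (algebraMap A A') := by
    ext a
    show algebraMap B (A' ⊗[A] B) (algebraMap A B a) = algebraMap A' (A' ⊗[A] B) (algebraMap A A' a)
    rw [← IsScalarTower.algebraMap_apply, ← IsScalarTower.algebraMap_apply]
  rw [h2, ← Ideal.comap_comap, h1]
  exact IsLocalization.AtPrime.under_maximalIdeal A' p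

lemma disjoint_of_comap (Q : Ideal B) (hQ : Q.comap (algebraMap A B) = p) :
    Disjoint ((Algebra.algebraMapSubmonoid B p.primeCompl : Submonoid B) : Set B) (Q : Set B) := by
  rw [Set.disjoint_left]
  rintro _ ⟨s, hs, rfl⟩ hmem
  apply hs
  show s ∈ p
  rw [← hQ]
  exact hmem

lemma exists_max_over [Module.Finite A B] (Q : Ideal B) [hQp : Q.IsPrime]
    (hQ : Q.comap (algebraMap A B) = p) :
    ∃ n : Ideal (A' ⊗[A] B), n.IsMaximal ∧ JJ A' (A := A) (B := B) ≤ n ∧
      n.comap (algebraMap B (A' ⊗[A] B)) = Q := by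
  haveI : IsLocalization (Algebra.algebraMapSubmonoid B p.primeCompl) (A' ⊗[A] B) :=
    IsLocalization.tensorRight A' p.primeCompl
  have hdisj := disjoint_of_comap p Q hQ
  have hprime : (Q.map (algebraMap B (A' ⊗[A] B))).IsPrime :=
    IsLocalization.isPrime_of_isPrime_disjoint (Algebra.algebraMapSubmonoid B p.primeCompl) _ Q
      hQp hdisj
  have hcomap : (Q.map (algebraMap B (A' ⊗[A] B))).comap (algebraMap B (A' ⊗[A] B)) = Q :=
    IsLocalization.under_map_of_isPrime_disjoint (Algebra.algebraMapSubmonoid B p.primeCompl) _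
      hQp hdisj
  have hJ : JJ A' (A := A) (B := B) ≤ Q.map (algebraMap B (A' ⊗[A] B)) := by
    rw [JJ_eq p A']
    apply Ideal.map_mono
    rw [Ideal.map_le_iff_le_comap, hQ]
  refine ⟨_, ?_, hJ, hcomap⟩
  haveI : Algebra.IsIntegral A' (A' ⊗[A] B) := Algebra.IsIntegral.of_finite _ _
  apply Ideal.isMaximal_of_isIntegral_of_isMaximal_comap (R := A')
  rw [comap_eq_max A' _ hJ]
  exact IsLocalRing.maximalIdeal.isMaximal A'

include p in
lemma length_term_eq (n : Ideal (A' ⊗[A] B)) [hn : n.IsPrime]
    (O : Type u) [CommRing O] [Algebra B O]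
    [IsLocalization.AtPrime O (n.comap (algebraMap B (A' ⊗[A] B)))]
    [Algebra A O] [IsScalarTower A B O] [Algebra A' O] [IsScalarTower A A' O] :
    Module.length A' (Localization.AtPrime n ⧸
      (JJ A' (A := A) (B := B)).map (algebraMap (A' ⊗[A] B) (Localization.AtPrime n))) =
      Module.length A' (O ⧸ (maximalIdeal A').map (algebraMap A' O)) := by
  haveI hloc : IsLocalization (Algebra.algebraMapSubmonoid B p.primeCompl) (A' ⊗[A] B) :=
    IsLocalization.tensorRight A' p.primeCompl
  haveI : IsLocalization.AtPrime (Localization.AtPrime n)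
      (n.comap (algebraMap B (A' ⊗[A] B))) :=
    IsLocalization.isLocalization_isLocalization_atPrime_isLocalization
      (Algebra.algebraMapSubmonoid B p.primeCompl) (Localization.AtPrime n) n
  let e : Localization.AtPrime n ≃ₐ[B] O :=
    IsLocalization.algEquiv (n.comap (algebraMap B (A' ⊗[A] B))).primeCompl
      (Localization.AtPrime n) O
  have hcomm : ∀ a' : A', e (algebraMap A' (Localization.AtPrime n) a') = algebraMap A' O a' := by
    have h := IsLocalization.ringHom_ext p.primeCompl
      (j := (e : Localization.AtPrime n →+* O).comp (algebraMap A' (Localization.AtPrime n)))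
      (k := algebraMap A' O) (by
        ext a
        show e (algebraMap A' (Localization.AtPrime n) (algebraMap A A' a)) =
          algebraMap A' O (algebraMap A A' a)
        rw [← IsScalarTower.algebraMap_apply A A' O, IsScalarTower.algebraMap_apply A B O,
          ← e.commutes]
        congr 1
        rw [IsScalarTower.algebraMap_apply A' (A' ⊗[A] B) (Localization.AtPrime n),
          ← IsScalarTower.algebraMap_apply A A' (A' ⊗[A] B),
          IsScalarTower.algebraMap_apply A B (A' ⊗[A] B),
          ← IsScalarTower.algebraMap_apply B (A' ⊗[A] B) (Localization.AtPrime n)])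
    intro a'
    exact RingHom.congr_fun h a'
  let eA' : Localization.AtPrime n ≃ₐ[A'] O := AlgEquiv.ofRingEquiv (f := e.toRingEquiv) hcomm
  have hmap : (maximalIdeal A').map (algebraMap A' O) =
      ((JJ A' (A := A) (B := B)).map (algebraMap (A' ⊗[A] B) (Localization.AtPrime n))).map
        (eA' : Localization.AtPrime n →+* O) := by
    unfold JJ
    rw [Ideal.map_map, Ideal.map_map]
    congr 1
    ext a'
    show algebraMap A' O a' = eA' (algebraMap (A' ⊗[A] B) (Localization.AtPrime n)
      (algebraMap A' (A' ⊗[A] B) a'))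
    rw [← IsScalarTower.algebraMap_apply A' (A' ⊗[A] B) (Localization.AtPrime n)]
    exact (hcomm a').symm
  exact (Ideal.quotientEquivAlg _ _ eA' hmap).toLinearEquiv.length_eq

theorem sum_length_eq_rank [Module.Finite A B] [Module.Flat A B]
    {ι : Type u} [Fintype ι] (q : ι → Ideal B) [hqp : ∀ i, (q i).IsPrime]
    (hq : ∀ i, (q i).comap (algebraMap A B) = p) (hinj : Function.Injective q)
    (hsurj : ∀ Q : Ideal B, Q.IsPrime → Q.comap (algebraMap A B) = p → ∃ i, q i = Q)
    (O : ι → Type u) [∀ i, CommRing (O i)] [∀ i, Algebra B (O i)]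
    [∀ i, IsLocalization.AtPrime (O i) (q i)]
    [∀ i, Algebra A (O i)] [∀ i, IsScalarTower A B (O i)]
    [∀ i, Algebra A' (O i)] [∀ i, IsScalarTower A A' (O i)] :
    ∑ i, Module.length A' (O i ⧸ (maximalIdeal A').map (algebraMap A' (O i))) =
      (Module.rankAtStalk B ⟨p, hp⟩ : ℕ∞) := by
  classical
  haveI : Module.Free A' (A' ⊗[A] B) := Module.free_of_flat_of_isLocalRing
  rw [← finrank_tensor_eq_rankAtStalk p A', ← length_quot_free A' (A' ⊗[A] B)]
  have hlen : Module.length A' ((A' ⊗[A] B) ⧸ JJ A' (A := A) (B := B)) ≠ ⊤ := by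
    unfold JJ
    rw [length_quot_free A' (A' ⊗[A] B)]
    exact ENat.coe_ne_top _
  haveI : IsArtinianRing ((A' ⊗[A] B) ⧸ JJ A' (A := A) (B := B)) := by
    have h1 := (isFiniteLength_iff_isNoetherian_isArtinian.mp
      (Module.length_ne_top_iff.mp hlen)).2
    exact isArtinian_of_tower A' h1
  haveI : Fintype (MaximalSpectrum ((A' ⊗[A] B) ⧸ JJ A' (A := A) (B := B))) := Fintype.ofFinite _
  show _ = Module.length A' ((A' ⊗[A] B) ⧸ JJ A' (A := A) (B := B))
  rw [length_quotient_eq_sum A' (A' ⊗[A] B) (JJ A' (A := A) (B := B))]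
  symm
  have hQ : ∀ I : MaximalSpectrum ((A' ⊗[A] B) ⧸ JJ A' (A := A) (B := B)),
      ∃ i, q i = ((below (A' ⊗[A] B) (JJ A') I).asIdeal).comap (algebraMap B (A' ⊗[A] B)) := by
    intro I
    haveI := (below (A' ⊗[A] B) (JJ A') I).isMaximal
    haveI : (below (A' ⊗[A] B) (JJ A') I).asIdeal.IsPrime :=
      (below (A' ⊗[A] B) (JJ A') I).isMaximal.isPrime
    exact hsurj _ inferInstance (comap_comap_eq p A' _ (le_below _ _ I))
  choose τ hτ using hQ
  haveI hloc : IsLocalization (Algebra.algebraMapSubmonoid B p.primeCompl) (A' ⊗[A] B) :=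
    IsLocalization.tensorRight A' p.primeCompl
  have hτinj : Function.Injective τ := by
    intro I I' h
    apply below_injective (A' ⊗[A] B) (JJ A')
    apply MaximalSpectrum.ext
    have h1 := hτ I
    have h2 := hτ I'
    rw [h] at h1
    have h3 := h1.symm.trans h2
    have h4 := congrArg (Ideal.map (algebraMap B (A' ⊗[A] B))) h3
    rwa [IsLocalization.map_comap (Algebra.algebraMapSubmonoid B p.primeCompl),
      IsLocalization.map_comap (Algebra.algebraMapSubmonoid B p.primeCompl)] at h4
  have hτsurj : Function.Surjective τ := by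
    intro i
    obtain ⟨n, hnmax, hnJ, hncomap⟩ := exists_max_over p A' (q i) (hq i)
    obtain ⟨I, hI⟩ := mem_range_below (A' ⊗[A] B) (JJ A') ⟨n, hnmax⟩ hnJ
    refine ⟨I, ?_⟩
    apply hinj
    rw [hτ I, hI]
    exact hncomap
  refine Fintype.sum_bijective τ ⟨hτinj, hτsurj⟩ _ _ (fun I => ?_)
  haveI : (below (A' ⊗[A] B) (JJ A') I).asIdeal.IsPrime :=
    (below (A' ⊗[A] B) (JJ A') I).isMaximal.isPrime
  haveI : IsLocalization.AtPrime (O (τ I))
      (((below (A' ⊗[A] B) (JJ A') I).asIdeal).comap (algebraMap B (A' ⊗[A] B))) := by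
    have := (inferInstance : IsLocalization.AtPrime (O (τ I)) (q (τ I)))
    convert this using 2
    exact (hτ I).symm
  exact length_term_eq p A' (below (A' ⊗[A] B) (JJ A') I).asIdeal (O (τ I))

end main

end Groth.Agent.Lib.Helper22.FinFlatSum
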