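import Mathlib
import Groth.Prelude.Def_Cyc
import Groth.Agent.Lib.Helper22.FinFlatSum

/-!
helper22: for a finite flat morphism `f : X ⟶ Y` the sum over the points `x` over `z` of
`length(O_x / m_z O_x) · [κ(x) : κ(z)]` is the rank of `f` at `z`.
-/

set_option autoImplicit false
universe u
open CategoryTheory AlgebraicGeometry IsLocalRing

namespace Groth.Agent.Lib.Helper22.FinFlatGeo

/-- the length of the fibre ring `S / m_R S` over `R`. -/
noncomputable def numOf {R S : Type u} [CommRing R] [CommRing S] [IsLocalRing R] (φ : R →+* S) :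
    ℕ∞ :=
  letI := φ.toAlgebra
  Module.length R (S ⧸ Ideal.map φ (maximalIdeal R))

lemma numOf_toNat {R S : Type u} [CommRing R] [CommRing S] [IsLocalRing R] [IsLocalRing S]
    (φ : R →+* S) [hφ : IsLocalHom φ] :
    (numOf φ).toNat = (Module.length S (S ⧸ Ideal.map φ (maximalIdeal R))).toNat *
      (letI := (ResidueField.map φ).toAlgebra
       Module.finrank (ResidueField R) (ResidueField S)) := by
  letI := φ.toAlgebra
  haveI : IsLocalHom (algebraMap R S) := hφ
  unfold numOf
  rw [IsLocalRing.length_restrictScalars R S (S ⧸ Ideal.map φ (maximalIdeal R)), ENat.toNat_mul]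
  congr 1
  rw [Module.length_eq_rank, Cardinal.toNat_toENat]
  show Module.finrank (ResidueField R) (ResidueField S) = _
  refine @Algebra.finrank_eq_of_equiv_equiv (ResidueField R) (ResidueField S) _ _ _
    (ResidueField R) (ResidueField S) _ _ (ResidueField.map φ).toAlgebra
    (RingEquiv.refl _) (RingEquiv.refl _) ?_
  ext a
  rfl


section geo
variable {X Y : Scheme.{u}} (f : X ⟶ Y)

/-- the stalk map at `x`, with source transported to the stalk at `z = f x`. -/
noncomputable def gmap (x : X) (z : Y) (hx : f x = z) :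
    Y.presheaf.stalk z →+* X.presheaf.stalk x :=
  (Y.presheaf.stalkSpecializes (specializes_of_eq hx) ≫ f.stalkMap x).hom

lemma gmap_self (x : X) : gmap f x (f x) rfl = (f.stalkMap x).hom := by
  unfold gmap
  have : Y.presheaf.stalkSpecializes (specializes_of_eq (rfl : f x = f x)) = 𝟙 _ :=
    TopCat.Presheaf.stalkSpecializes_refl _ _
  rw [this, Category.id_comp]

lemma gmap_germ (V : Y.Opens) (x : X) (z : Y) (hx : f x = z) (hz : z ∈ V) (a : Γ(Y, V)) :
    gmap f x z hx (Y.presheaf.germ V z hz a) =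
      X.presheaf.germ (f ⁻¹ᵁ V) x (show f x ∈ V from hx ▸ hz) (f.app V a) := by
  subst hx
  rw [gmap_self]
  exact Scheme.Hom.germ_stalkMap_apply f V x hz a

lemma gmap_local (x : X) (z : Y) (hx : f x = z) : IsLocalHom (gmap f x z hx) := by
  subst hx
  rw [gmap_self]
  infer_instance

/-- the local contribution of `x` to the degree. -/
noncomputable def locNum (x : X) : ℕ :=
  (Module.length (X.presheaf.stalk x) (X.presheaf.stalk x ⧸ Ideal.map (f.stalkMap x).hom
    (maximalIdeal (Y.presheaf.stalk (f x))))).toNat * f.residueDegree x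

lemma numOf_gmap (x : X) (z : Y) (hx : f x = z) : (numOf (gmap f x z hx)).toNat = locNum f x := by
  subst hx
  rw [gmap_self, numOf_toNat]
  rfl

lemma finrank_eq_rankAtStalk [IsFinite f] [Flat f] (V : Y.Opens) (hV : IsAffineOpen V) (z : Y)
    (hz : z ∈ V) :
    letI : Algebra Γ(Y, V) Γ(X, f ⁻¹ᵁ V) := (f.app V).hom.toAlgebra
    f.finrank z = Module.rankAtStalk (R := Γ(Y, V)) Γ(X, f ⁻¹ᵁ V) (hV.primeIdealOf ⟨z, hz⟩) := by
  letI : Algebra Γ(Y, V) Γ(X, f ⁻¹ᵁ V) := (f.app V).hom.toAlgebra
  have hU : IsAffineOpen (f ⁻¹ᵁ V) := hV.preimage f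
  haveI : Module.Finite Γ(Y, V) Γ(X, f ⁻¹ᵁ V) := f.finite_app V hV
  haveI : Module.Flat Γ(Y, V) Γ(X, f ⁻¹ᵁ V) := by
    have := f.flat_appLE hV hU le_rfl
    rw [Scheme.Hom.appLE_eq_app] at this
    exact this
  have hpb : IsPullback (Spec.map (f.app V)) hU.fromSpec hV.fromSpec f := by
    apply IsOpenImmersion.isPullback
    · have := IsAffineOpen.SpecMap_appLE_fromSpec f hV hU le_rfl
      rw [Scheme.Hom.appLE_eq_app] at this
      exact this.symm
    · rw [hV.opensRange_fromSpec, hU.opensRange_fromSpec]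
  have h1 := Scheme.Hom.finrank_of_isPullback hU.fromSpec (Spec.map (f.app V)) f hV.fromSpec
    hpb.flip (hV.primeIdealOf ⟨z, hz⟩)
  rw [hV.fromSpec_primeIdealOf ⟨z, hz⟩] at h1
  rw [← h1]
  exact Scheme.Hom.finrank_SpecMap_algebraMap Γ(Y, V) Γ(X, f ⁻¹ᵁ V) (hV.primeIdealOf ⟨z, hz⟩)

end geo

end Groth.Agent.Lib.Helper22.FinFlatGeo
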