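import Mathlib
import Groth.Prelude.Def_Cyc
import Groth.Agent.Lib.Helper22.FinFlatGeo

/-!
helper22: for a finite flat morphism `f : X ⟶ Y` and `z : Y`, the sum over the points `x` over `z`
of `length(O_x / m_z O_x) · [κ(x) : κ(z)]` is `f.finrank z`.
-/

set_option autoImplicit false
universe u
open CategoryTheory AlgebraicGeometry IsLocalRing

namespace Groth.Agent.Lib.Helper22.FinFlatDeg

open Groth.Agent.Lib.Helper22.FinFlatGeo Groth.Agent.Lib.Helper22.FinFlatSum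

variable {X Y : Scheme.{u}} (f : X ⟶ Y)

lemma primeIdealOf_surj {U : X.Opens} (hU : IsAffineOpen U) (Q : PrimeSpectrum Γ(X, U)) :
    ∃ hx : hU.fromSpec Q ∈ U, hU.primeIdealOf ⟨hU.fromSpec Q, hx⟩ = Q := by
  have hx : hU.fromSpec Q ∈ U := by
    have h0 : hU.fromSpec Q ∈ Set.range hU.fromSpec := ⟨Q, rfl⟩
    rw [hU.range_fromSpec] at h0
    exact h0
  refine ⟨hx, ?_⟩
  have hinj : Function.Injective hU.fromSpec := hU.fromSpec.isOpenEmbedding.injective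
  apply hinj
  rw [hU.fromSpec_primeIdealOf ⟨_, hx⟩]

theorem sum_locNum [IsFinite f] [Flat f] (z : Y) :
    ∑ᶠ x ∈ f ⁻¹' {z}, locNum f x = f.finrank z := by
  classical
  obtain ⟨_, ⟨V, hV, rfl⟩, hzV, -⟩ :=
    Y.isBasis_affineOpens.exists_subset_of_mem_open (Set.mem_univ z) isOpen_univ
  replace hV : IsAffineOpen V := hV
  replace hzV : z ∈ V := hzV
  have hU : IsAffineOpen (f ⁻¹ᵁ V) := hV.preimage f
  letI alg : Algebra Γ(Y, V) Γ(X, f ⁻¹ᵁ V) := (f.app V).hom.toAlgebra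
  haveI : Module.Finite Γ(Y, V) Γ(X, f ⁻¹ᵁ V) := f.finite_app V hV
  haveI : Module.Flat Γ(Y, V) Γ(X, f ⁻¹ᵁ V) := by
    have := f.flat_appLE hV hU le_rfl
    rw [Scheme.Hom.appLE_eq_app] at this
    exact this
  rw [finrank_eq_rankAtStalk f V hV z hzV]
  have hfin : (f ⁻¹' {z}).Finite := f.finite_preimage_singleton z
  haveI : Fintype ↥(f ⁻¹' {z}) := hfin.fintype
  rw [← finsum_set_coe_eq_finsum_mem, finsum_eq_sum_of_fintype]
  have hmem : ∀ i : ↥(f ⁻¹' {z}), (i : X) ∈ f ⁻¹ᵁ V := by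
    intro i
    show f i ∈ V
    rw [i.2]
    exact hzV
  -- the data
  let p : Ideal Γ(Y, V) := (hV.primeIdealOf ⟨z, hzV⟩).asIdeal
  letI algA' : Algebra Γ(Y, V) (Y.presheaf.stalk z) :=
    Y.presheaf.algebra_section_stalk ⟨z, hzV⟩
  haveI locA' : IsLocalization.AtPrime (Y.presheaf.stalk z) p := hV.isLocalization_stalk ⟨z, hzV⟩
  let q : ↥(f ⁻¹' {z}) → Ideal Γ(X, f ⁻¹ᵁ V) :=
    fun i => (hU.primeIdealOf ⟨i, hmem i⟩).asIdeal
  haveI hqp : ∀ i, (q i).IsPrime := fun i => (hU.primeIdealOf ⟨i, hmem i⟩).isPrime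
  let O : ↥(f ⁻¹' {z}) → Type u := fun i => X.presheaf.stalk (i : X)
  letI algBO : ∀ i, Algebra Γ(X, f ⁻¹ᵁ V) (O i) :=
    fun i => X.presheaf.algebra_section_stalk ⟨i, hmem i⟩
  haveI locO : ∀ i, IsLocalization.AtPrime (O i) (q i) :=
    fun i => hU.isLocalization_stalk ⟨i, hmem i⟩
  letI algAO : ∀ i, Algebra Γ(Y, V) (O i) :=
    fun i => ((algebraMap Γ(X, f ⁻¹ᵁ V) (O i)).comp
      (algebraMap Γ(Y, V) Γ(X, f ⁻¹ᵁ V))).toAlgebra
  haveI towABO : ∀ i, IsScalarTower Γ(Y, V) Γ(X, f ⁻¹ᵁ V) (O i) :=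
    fun i => IsScalarTower.of_algebraMap_eq' rfl
  letI algA'O : ∀ i, Algebra (Y.presheaf.stalk z) (O i) :=
    fun i => (gmap f i z i.2).toAlgebra
  haveI towAA'O : ∀ i, IsScalarTower Γ(Y, V) (Y.presheaf.stalk z) (O i) := by
    intro i
    refine IsScalarTower.of_algebraMap_eq' ?_
    ext a
    exact (gmap_germ f V i z i.2 hzV a).symm
  have hq : ∀ i, (q i).comap (algebraMap Γ(Y, V) Γ(X, f ⁻¹ᵁ V)) = p := by
    intro i
    have h1 := IsAffineOpen.comap_primeIdealOf_appLE (f := f) (x := (i : X)) V hV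
      (f ⁻¹ᵁ V) hU le_rfl (hmem i)
    have h2 := congrArg PrimeSpectrum.asIdeal h1
    rw [PrimeSpectrum.comap_asIdeal] at h2
    have h3 : hV.primeIdealOf ⟨f (i : X), hmem i⟩ = hV.primeIdealOf ⟨z, hzV⟩ := by
      congr 1
      exact Subtype.ext i.2
    rw [h3] at h2
    have h6 : (f.appLE V (f ⁻¹ᵁ V) le_rfl).hom = algebraMap Γ(Y, V) Γ(X, f ⁻¹ᵁ V) := by
      rw [Scheme.Hom.appLE_eq_app]
      rfl
    rw [h6] at h2
    exact h2
  have hinj : Function.Injective q := by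
    intro i j hij
    have h1 : hU.primeIdealOf ⟨i, hmem i⟩ = hU.primeIdealOf ⟨j, hmem j⟩ := PrimeSpectrum.ext hij
    have h2 := congrArg hU.fromSpec h1
    rw [hU.fromSpec_primeIdealOf, hU.fromSpec_primeIdealOf] at h2
    exact Subtype.ext h2
  have hsurj : ∀ Q : Ideal Γ(X, f ⁻¹ᵁ V), Q.IsPrime →
      Q.comap (algebraMap Γ(Y, V) Γ(X, f ⁻¹ᵁ V)) = p → ∃ i, q i = Q := by
    intro Q hQ hQp
    obtain ⟨hx, hxQ⟩ := primeIdealOf_surj hU ⟨Q, hQ⟩
    have h1 := IsAffineOpen.comap_primeIdealOf_appLE (f := f) (x := hU.fromSpec ⟨Q, hQ⟩) V hV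
      (f ⁻¹ᵁ V) hU le_rfl hx
    rw [hxQ] at h1
    have h4 : (⟨Q, hQ⟩ : PrimeSpectrum _).comap (f.appLE V (f ⁻¹ᵁ V) le_rfl).hom =
        hV.primeIdealOf ⟨z, hzV⟩ := by
      have h6 : (f.appLE V (f ⁻¹ᵁ V) le_rfl).hom = algebraMap Γ(Y, V) Γ(X, f ⁻¹ᵁ V) := by
        rw [Scheme.Hom.appLE_eq_app]
        rfl
      apply PrimeSpectrum.ext
      rw [PrimeSpectrum.comap_asIdeal, h6]
      exact hQp
    rw [h4] at h1
    have h5 := congrArg hV.fromSpec h1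
    rw [hV.fromSpec_primeIdealOf, hV.fromSpec_primeIdealOf] at h5
    -- h5 : z = f (fromSpec Q)
    refine ⟨⟨hU.fromSpec ⟨Q, hQ⟩, h5.symm⟩, ?_⟩
    show (hU.primeIdealOf ⟨hU.fromSpec ⟨Q, hQ⟩, _⟩).asIdeal = Q
    rw [hxQ]
  have key := sum_length_eq_rank p (Y.presheaf.stalk z) q hq hinj hsurj O
  -- terms
  have hterm : ∀ i : ↥(f ⁻¹' {z}),
      Module.length (Y.presheaf.stalk z)
        (O i ⧸ (maximalIdeal (Y.presheaf.stalk z)).map (algebraMap (Y.presheaf.stalk z) (O i))) =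
      numOf (gmap f i z i.2) := fun i => rfl
  simp only [hterm] at key
  have hlt : ∀ i : ↥(f ⁻¹' {z}), numOf (gmap f i z i.2) ≠ ⊤ := by
    intro i h
    have h1 : numOf (gmap f i z i.2) ≤ ∑ j : ↥(f ⁻¹' {z}), numOf (gmap f j z j.2) :=
      Finset.single_le_sum (f := fun j : ↥(f ⁻¹' {z}) => numOf (gmap f j z j.2))
        (fun _ _ => bot_le) (Finset.mem_univ i)
    rw [key, h] at h1
    exact ENat.coe_ne_top _ (top_le_iff.mp h1)
  have h2 : ∀ i : ↥(f ⁻¹' {z}), numOf (gmap f i z i.2) = ((locNum f i : ℕ) : ℕ∞) := by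
    intro i
    rw [← numOf_gmap f i z i.2, ENat.coe_toNat (hlt i)]
  simp only [h2] at key
  rw [← Nat.cast_sum] at key
  exact_mod_cast key

end Groth.Agent.Lib.Helper22.FinFlatDeg
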