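import Mathlib

/-!
# Gaussian elimination over a division ring

`ge_induction` : a multiplicative predicate on square matrices over a division ring which holds for
transvections `1 + single i j c` (`i ≠ j`) and for invertible diagonal matrices holds for every
invertible matrix.
-/

set_option autoImplicit false

namespace Groth.Agent.Lib.Helper22.GaussDiv

variable {ι : Type*} [Fintype ι] [DecidableEq ι] {D : Type*} [DivisionRing D]

/-- The transvection `1 + c E_ij`. -/
def tv (i j : ι) (c : D) : Matrix ι ι D := 1 + Matrix.single i j c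

theorem tv_mul_apply (i j : ι) (c : D) (g : Matrix ι ι D) (a b : ι) :
    (tv i j c * g) a b = g a b + (if a = i then c * g j b else 0) := by
  unfold tv
  rw [add_mul, one_mul, Matrix.add_apply]
  congr 1
  split_ifs with h
  · subst h; simp
  · simp [h]

theorem mul_tv_apply (i j : ι) (c : D) (g : Matrix ι ι D) (a b : ι) :
    (g * tv i j c) a b = g a b + (if b = j then g a i * c else 0) := by
  unfold tv
  rw [mul_add, mul_one, Matrix.add_apply]
  congr 1
  split_ifs with h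
  · subst h; simp
  · simp [h]

theorem tv_mul_tv_neg (i j : ι) (c : D) (h : i ≠ j) : tv i j c * tv i j (-c) = 1 := by
  unfold tv
  have h0 : Matrix.single i j c * Matrix.single i j (-c) = (0 : Matrix ι ι D) :=
    by rw [Matrix.single_mul_single_of_ne]; exact h.symm
  rw [add_mul, one_mul, mul_add, mul_one, h0, add_zero,
    add_assoc, ← Matrix.single_add, neg_add_cancel, Matrix.single_zero, add_zero]

theorem tv_neg_mul_tv (i j : ι) (c : D) (h : i ≠ j) : tv i j (-c) * tv i j c = 1 := by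
  simpa using tv_mul_tv_neg i j (-c) h

theorem isUnit_tv (i j : ι) (c : D) (h : i ≠ j) : IsUnit (tv i j c) :=
  ⟨⟨tv i j c, tv i j (-c), tv_mul_tv_neg i j c h, tv_neg_mul_tv i j c h⟩, rfl⟩

theorem exists_ne_zero_col {g : Matrix ι ι D} (hg : IsUnit g) (j : ι) : ∃ l, g l j ≠ 0 := by
  by_contra hcon
  push Not at hcon
  obtain ⟨u, rfl⟩ := hg
  have h1 : ((↑u⁻¹ : Matrix ι ι D) * (↑u : Matrix ι ι D)) j j = 1 := by rw [Units.inv_mul]; simp
  rw [Matrix.mul_apply] at h1
  simp [hcon] at h1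

theorem diag_ne_zero {g : Matrix ι ι D} (hg : IsUnit g) (i : ι) (h : ∀ j, j ≠ i → g i j = 0) :
    g i i ≠ 0 := by
  intro h0
  obtain ⟨u, rfl⟩ := hg
  have h1 : ((↑u : Matrix ι ι D) * (↑u⁻¹ : Matrix ι ι D)) i i = 1 := by rw [Units.mul_inv]; simp
  rw [Matrix.mul_apply] at h1
  have h2 : ∀ l, (↑u : Matrix ι ι D) i l = 0 := fun l => by
    by_cases hl : l = i
    · subst hl; exact h0
    · exact h l hl
  simp [h2] at h1

/-- Rows and columns indexed by `T` vanish off the diagonal. -/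
def DiagT (T : Finset ι) (g : Matrix ι ι D) : Prop :=
  ∀ i ∈ T, ∀ j, j ≠ i → g i j = 0 ∧ g j i = 0

variable (P : Matrix ι ι D → Prop)

theorem pivot_step (htv : ∀ (i j : ι) (c : D), i ≠ j → P (tv i j c))
    (hmul : ∀ a b, P a → P b → P (a * b)) {T : Finset ι} {g₁ : Matrix ι ι D} (hu : IsUnit g₁)
    (hd : DiagT T g₁) {i₀ : ι} (hi₀ : i₀ ∉ T) :
    ∃ g₂, IsUnit g₂ ∧ DiagT T g₂ ∧ g₂ i₀ i₀ ≠ 0 ∧ (P g₂ → P g₁) := by
  by_cases h0 : g₁ i₀ i₀ ≠ 0
  · exact ⟨g₁, hu, hd, h0, id⟩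
  · push Not at h0
    obtain ⟨l, hl⟩ := exists_ne_zero_col hu i₀
    have hlT : l ∉ T := fun hlT => hl ((hd l hlT i₀ (by rintro rfl; exact hi₀ hlT)).1)
    have hli : l ≠ i₀ := by rintro rfl; exact hl h0
    refine ⟨tv i₀ l 1 * g₁, (isUnit_tv i₀ l 1 hli.symm).mul hu, ?_, ?_, ?_⟩
    · intro i hi j hj
      have hii₀ : i ≠ i₀ := by rintro rfl; exact hi₀ hi
      constructor
      · rw [tv_mul_apply, if_neg hii₀, add_zero]; exact (hd i hi j hj).1
      · rw [tv_mul_apply]
        have h1 := (hd i hi j hj).2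
        have h2 : g₁ l i = 0 := (hd i hi l (by rintro rfl; exact hlT hi)).2
        split_ifs <;> simp [h1, h2]
    · rw [tv_mul_apply, if_pos rfl, h0, zero_add, one_mul]; exact hl
    · intro hP
      have h3 : g₁ = tv i₀ l (-1) * (tv i₀ l 1 * g₁) := by
        rw [← mul_assoc, tv_neg_mul_tv _ _ _ hli.symm, one_mul]
      rw [h3]; exact hmul _ _ (htv _ _ _ hli.symm) hP

theorem col_clear (htv : ∀ (i j : ι) (c : D), i ≠ j → P (tv i j c))
    (hmul : ∀ a b, P a → P b → P (a * b)) {T : Finset ι} {g₂ : Matrix ι ι D} (hu : IsUnit g₂)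
    (hd : DiagT T g₂) {i₀ : ι} (hi₀ : i₀ ∉ T) (hp : g₂ i₀ i₀ ≠ 0) (U : Finset ι) :
    ∃ g₃, IsUnit g₃ ∧ DiagT T g₃ ∧ (∀ b, g₃ i₀ b = g₂ i₀ b) ∧
      (∀ j ∈ U, j ≠ i₀ → g₃ j i₀ = 0) ∧ (P g₃ → P g₂) := by
  induction U using Finset.induction_on with
  | empty => exact ⟨g₂, hu, hd, fun _ => rfl, by simp, id⟩
  | insert j U hj ih =>
    obtain ⟨g₃, hu₃, hd₃, hrow, hcol, hP⟩ := ih
    by_cases hji : j = i₀
    · refine ⟨g₃, hu₃, hd₃, hrow, ?_, hP⟩
      intro j' hj' hne
      rcases Finset.mem_insert.mp hj' with rfl | h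
      · exact absurd hji hne
      · exact hcol j' h hne
    · set c : D := -(g₃ j i₀ * (g₂ i₀ i₀)⁻¹) with hc
      refine ⟨tv j i₀ c * g₃, (isUnit_tv j i₀ c hji).mul hu₃, ?_, ?_, ?_, ?_⟩
      · intro i hi b hb
        have hii₀ : i ≠ i₀ := by rintro rfl; exact hi₀ hi
        constructor
        · rw [tv_mul_apply]
          by_cases hij : i = j
          · rw [if_pos hij]
            have h4 : g₃ j i₀ = 0 := by subst hij; exact (hd₃ i hi i₀ (Ne.symm hii₀)).1
            rw [hc, h4]; simp [(hd₃ i hi b hb).1]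
          · rw [if_neg hij, add_zero]; exact (hd₃ i hi b hb).1
        · rw [tv_mul_apply]
          have h1 : g₃ i₀ i = 0 := (hd₃ i hi i₀ (Ne.symm hii₀)).2
          rw [h1, mul_zero, ite_self, add_zero]; exact (hd₃ i hi b hb).2
      · intro b
        rw [tv_mul_apply, if_neg (Ne.symm hji), add_zero]; exact hrow b
      · intro j' hj' hne
        rw [tv_mul_apply]
        rcases Finset.mem_insert.mp hj' with rfl | h
        · rw [if_pos rfl, hrow i₀, hc, neg_mul, mul_assoc, inv_mul_cancel₀ hp, mul_one,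
            add_neg_cancel]
        · have h5 : j' ≠ j := by rintro rfl; exact hj h
          rw [if_neg h5, add_zero]; exact hcol j' h hne
      · intro hP'
        apply hP
        have h3 : g₃ = tv j i₀ (-c) * (tv j i₀ c * g₃) := by
          rw [← mul_assoc, tv_neg_mul_tv _ _ _ hji, one_mul]
        rw [h3]; exact hmul _ _ (htv _ _ _ hji) hP'

theorem row_clear (htv : ∀ (i j : ι) (c : D), i ≠ j → P (tv i j c))
    (hmul : ∀ a b, P a → P b → P (a * b)) {T : Finset ι} {g₃ : Matrix ι ι D} (hu : IsUnit g₃)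
    (hd : DiagT T g₃) {i₀ : ι} (hi₀ : i₀ ∉ T) (hp : g₃ i₀ i₀ ≠ 0) (U : Finset ι) :
    ∃ g₅, IsUnit g₅ ∧ DiagT T g₅ ∧ (∀ a, g₅ a i₀ = g₃ a i₀) ∧
      (∀ j ∈ U, j ≠ i₀ → g₅ i₀ j = 0) ∧ (P g₅ → P g₃) := by
  induction U using Finset.induction_on with
  | empty => exact ⟨g₃, hu, hd, fun _ => rfl, by simp, id⟩
  | insert j U hj ih =>
    obtain ⟨g₅, hu₅, hd₅, hcol, hrow, hP⟩ := ih
    by_cases hji : j = i₀
    · refine ⟨g₅, hu₅, hd₅, hcol, ?_, hP⟩
      intro j' hj' hne
      rcases Finset.mem_insert.mp hj' with rfl | h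
      · exact absurd hji hne
      · exact hrow j' h hne
    · set c : D := -((g₃ i₀ i₀)⁻¹ * g₅ i₀ j) with hc
      refine ⟨g₅ * tv i₀ j c, hu₅.mul (isUnit_tv i₀ j c (Ne.symm hji)), ?_, ?_, ?_, ?_⟩
      · intro i hi b hb
        have hii₀ : i ≠ i₀ := by rintro rfl; exact hi₀ hi
        constructor
        · rw [mul_tv_apply]
          have h1 : g₅ i i₀ = 0 := (hd₅ i hi i₀ (Ne.symm hii₀)).1
          rw [h1, zero_mul, ite_self, add_zero]; exact (hd₅ i hi b hb).1
        · rw [mul_tv_apply]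
          by_cases hij : i = j
          · rw [if_pos hij]
            have h4 : g₅ i₀ j = 0 := by subst hij; exact (hd₅ i hi i₀ (Ne.symm hii₀)).2
            rw [hc, h4]; simp [(hd₅ i hi b hb).2]
          · rw [if_neg hij, add_zero]; exact (hd₅ i hi b hb).2
      · intro a
        rw [mul_tv_apply, if_neg (Ne.symm hji), add_zero]; exact hcol a
      · intro j' hj' hne
        rw [mul_tv_apply]
        rcases Finset.mem_insert.mp hj' with rfl | h
        · rw [if_pos rfl, hcol i₀, hc, mul_neg, ← mul_assoc, mul_inv_cancel₀ hp, one_mul,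
            add_neg_cancel]
        · have h5 : j' ≠ j := by rintro rfl; exact hj h
          rw [if_neg h5, add_zero]; exact hrow j' h hne
      · intro hP'
        apply hP
        have h3 : g₅ = (g₅ * tv i₀ j c) * tv i₀ j (-c) := by
          rw [mul_assoc, tv_mul_tv_neg _ _ _ (Ne.symm hji), mul_one]
        rw [h3]; exact hmul _ _ hP' (htv _ _ _ (Ne.symm hji))

theorem exists_diag (htv : ∀ (i j : ι) (c : D), i ≠ j → P (tv i j c))
    (hmul : ∀ a b, P a → P b → P (a * b)) (g : Matrix ι ι D) (hg : IsUnit g) (T : Finset ι) :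
    ∃ g', IsUnit g' ∧ DiagT T g' ∧ (P g' → P g) := by
  induction T using Finset.induction_on with
  | empty => exact ⟨g, hg, fun i hi => by simp at hi, id⟩
  | insert i₀ T hi₀ ih =>
    obtain ⟨g₁, hu₁, hd₁, hP₁⟩ := ih
    obtain ⟨g₂, hu₂, hd₂, hp₂, hP₂⟩ := pivot_step P htv hmul hu₁ hd₁ hi₀
    obtain ⟨g₃, hu₃, hd₃, hrow₃, hcol₃, hP₃⟩ :=
      col_clear P htv hmul hu₂ hd₂ hi₀ hp₂ Finset.univ
    have hp₃ : g₃ i₀ i₀ ≠ 0 := by rw [hrow₃]; exact hp₂
    obtain ⟨g₅, hu₅, hd₅, hcol₅, hrow₅, hP₅⟩ :=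
      row_clear P htv hmul hu₃ hd₃ hi₀ hp₃ Finset.univ
    refine ⟨g₅, hu₅, ?_, fun h => hP₁ (hP₂ (hP₃ (hP₅ h)))⟩
    intro i hi j hj
    rcases Finset.mem_insert.mp hi with rfl | hi
    · exact ⟨hrow₅ j (Finset.mem_univ _) hj, by
        rw [hcol₅]; exact hcol₃ j (Finset.mem_univ _) hj⟩
    · exact hd₅ i hi j hj

/-- Gaussian elimination as an induction principle. -/
theorem ge_induction (htv : ∀ (i j : ι) (c : D), i ≠ j → P (tv i j c))
    (hdiag : ∀ d : ι → D, (∀ i, d i ≠ 0) → P (Matrix.diagonal d))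
    (hmul : ∀ a b, P a → P b → P (a * b)) (g : Matrix ι ι D) (hg : IsUnit g) : P g := by
  obtain ⟨g', hu, hd, hP⟩ := exists_diag P htv hmul g hg Finset.univ
  apply hP
  have h1 : g' = Matrix.diagonal (fun i => g' i i) := by
    ext a b
    by_cases hab : a = b
    · subst hab; simp
    · rw [Matrix.diagonal_apply_ne _ hab]
      exact (hd a (Finset.mem_univ _) b (Ne.symm hab)).1
  rw [h1]
  exact hdiag _ (fun i => diag_ne_zero hu i (fun j hj => (hd i (Finset.mem_univ _) j hj).1))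

end Groth.Agent.Lib.Helper22.GaussDiv
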