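import Mathlib

/-!
Helper lemmas on ℕ-graded commutative rings (helper22).
-/

set_option autoImplicit false

namespace Groth.Agent.Lib.Helper22

open DirectSum

universe u

/-- If `E` consists of homogeneous elements and `T` is an additive submonoid such that
`y * e ∈ T` for `e ∈ E` of degree `k ≤ d` and `y` homogeneous of degree `d - k`, then the degree-`d`
component of any element of the ideal generated by `E` lies in `T`. -/
theorem proj_mul_mem_of_mem_span {R A : Type*} [CommRing R] [CommRing A] [Algebra R A]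
    (𝒜 : ℕ → Submodule R A) [GradedAlgebra 𝒜] (E : Set A) (T : AddSubmonoid A) (d : ℕ)
    (h : ∀ e ∈ E, ∃ k, e ∈ 𝒜 k ∧ (k ≤ d → ∀ y ∈ 𝒜 (d - k), y * e ∈ T))
    (x : A) (hx : x ∈ Ideal.span E) :
    ∀ a : A, ((decompose 𝒜 (a * x) d : 𝒜 d) : A) ∈ T := by
  classical
  induction hx using Submodule.span_induction with
  | mem e he =>
    intro a
    obtain ⟨k, hek, hk⟩ := h e he
    rw [coe_decompose_mul_of_right_mem 𝒜 d hek]
    split_ifs with hkd
    · exact hk hkd _ (SetLike.coe_mem _)
    · exact zero_mem _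
  | zero => intro a; simp
  | add y z _ _ hy hz =>
    intro a
    rw [mul_add, decompose_add, DirectSum.add_apply, Submodule.coe_add]
    exact add_mem (hy a) (hz a)
  | smul b y _ hy =>
    intro a
    rw [smul_eq_mul, ← mul_assoc]
    exact hy (a * b)

/-- Homogeneous version: a homogeneous element of degree `d` of the ideal generated by `E`. -/
theorem mem_of_mem_span_of_mem_deg {R A : Type*} [CommRing R] [CommRing A] [Algebra R A]
    (𝒜 : ℕ → Submodule R A) [GradedAlgebra 𝒜] (E : Set A) (T : AddSubmonoid A) (d : ℕ)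
    (h : ∀ e ∈ E, ∃ k, e ∈ 𝒜 k ∧ (k ≤ d → ∀ y ∈ 𝒜 (d - k), y * e ∈ T))
    (x : A) (hx : x ∈ Ideal.span E) (hxd : x ∈ 𝒜 d) : x ∈ T := by
  have := proj_mul_mem_of_mem_span 𝒜 E T d h x hx 1
  rwa [one_mul, decompose_of_mem_same 𝒜 hxd] at this

end Groth.Agent.Lib.Helper22
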