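import Mathlib
import Groth.Agent.Lib.Helper22.Graded

/-!
Helper lemmas on ℕ-graded modules over ℕ-graded commutative rings (helper22).
-/

set_option autoImplicit false

namespace Groth.Agent.Lib.Helper22

open DirectSum

/-- Module version of `proj_mul_mem_of_mem_span`. -/
theorem proj_smul_mem_of_mem_span {R A M : Type*} [CommRing R] [CommRing A] [Algebra R A]
    (𝒜 : ℕ → Submodule R A) [GradedAlgebra 𝒜]
    [AddCommGroup M] [Module R M] [Module A M] [IsScalarTower R A M]
    (ℳ : ℕ → Submodule R M) [DirectSum.Decomposition ℳ] [SetLike.GradedSMul 𝒜 ℳ]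
    (Y : Set M) (T : AddSubmonoid M) (d : ℕ)
    (h : ∀ y ∈ Y, ∃ k, y ∈ ℳ k ∧ ∀ i, i + k = d → ∀ a ∈ 𝒜 i, a • y ∈ T)
    (x : M) (hx : x ∈ Submodule.span A Y) :
    ∀ a : A, ((decompose ℳ (a • x) d : ℳ d) : M) ∈ T := by
  classical
  induction hx using Submodule.span_induction with
  | mem y hy =>
    intro a
    obtain ⟨k, hyk, hk⟩ := h y hy
    rw [← DirectSum.sum_support_decompose 𝒜 a, Finset.sum_smul, decompose_sum,
      DFinsupp.finsetSum_apply, AddSubmonoidClass.coe_finsetSum]
    refine sum_mem fun i _ => ?_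
    have hmem : ((decompose 𝒜 a i : 𝒜 i) : A) • y ∈ ℳ (i + k) :=
      SetLike.GradedSMul.smul_mem (A := 𝒜) (B := ℳ) (i := i) (j := k)
        (SetLike.coe_mem (decompose 𝒜 a i)) hyk
    by_cases hik : i + k = d
    · rw [decompose_of_mem_same ℳ (hik ▸ hmem)]
      exact hk i hik _ (SetLike.coe_mem _)
    · rw [decompose_of_mem_ne ℳ hmem hik]
      exact zero_mem _
  | zero => intro a; simp
  | add y z _ _ hy hz =>
    intro a
    rw [smul_add, decompose_add, DirectSum.add_apply, Submodule.coe_add]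
    exact add_mem (hy a) (hz a)
  | smul b y _ hy =>
    intro a
    rw [smul_smul]
    exact hy (a * b)

/-- Homogeneous version. -/
theorem mem_of_mem_span_of_mem_deg_module {R A M : Type*} [CommRing R] [CommRing A] [Algebra R A]
    (𝒜 : ℕ → Submodule R A) [GradedAlgebra 𝒜]
    [AddCommGroup M] [Module R M] [Module A M] [IsScalarTower R A M]
    (ℳ : ℕ → Submodule R M) [DirectSum.Decomposition ℳ] [SetLike.GradedSMul 𝒜 ℳ]
    (Y : Set M) (T : AddSubmonoid M) (d : ℕ)
    (h : ∀ y ∈ Y, ∃ k, y ∈ ℳ k ∧ ∀ i, i + k = d → ∀ a ∈ 𝒜 i, a • y ∈ T)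
    (x : M) (hx : x ∈ Submodule.span A Y) (hxd : x ∈ ℳ d) : x ∈ T := by
  have := proj_smul_mem_of_mem_span 𝒜 ℳ Y T d h x hx 1
  rwa [one_smul, decompose_of_mem_same ℳ hxd] at this

/-- A finitely generated graded module has a finite set of homogeneous generators. -/
theorem exists_finset_homogeneous_span_eq_top {R A M : Type*} [CommRing R] [CommRing A]
    [Algebra R A] [AddCommGroup M] [Module R M] [Module A M] [IsScalarTower R A M]
    (ℳ : ℕ → Submodule R M) [DirectSum.Decomposition ℳ] [Module.Finite A M] :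
    ∃ Y : Finset M, Submodule.span A (Y : Set M) = ⊤ ∧ ∀ y ∈ Y, ∃ k, y ∈ ℳ k := by
  classical
  obtain ⟨S, hS⟩ := (Module.Finite.fg_top : (⊤ : Submodule A M).FG)
  refine ⟨S.biUnion fun s => (decompose ℳ s).support.image fun d => ((decompose ℳ s d : ℳ d) : M),
    ?_, ?_⟩
  · rw [eq_top_iff, ← hS, Submodule.span_le]
    intro s hs
    rw [← DirectSum.sum_support_decompose ℳ s]
    refine sum_mem fun d hd => Submodule.subset_span ?_
    simp only [Finset.coe_biUnion, Finset.coe_image, Set.mem_iUnion, Set.mem_image,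
      Finset.mem_coe]
    exact ⟨s, hs, d, hd, rfl⟩
  · intro y hy
    simp only [Finset.mem_biUnion, Finset.mem_image] at hy
    obtain ⟨s, _, d, _, rfl⟩ := hy
    exact ⟨d, SetLike.coe_mem _⟩

end Groth.Agent.Lib.Helper22
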