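import Mathlib
import Groth.Prelude.Def_Koszul
import Groth.Agent.Lib.Helper22.KoszulH1

/-!
# The Koszul complex of a sequence multiplied by a non-zero-divisor

`K(x f)` is degreewise identified with `K(f)`, the differential becoming `x` times that of `K(f)`;
consequently `H^q(K(x f)) ≅ Z^q(K(f)) / x B^q(K(f))`.
-/

set_option autoImplicit false
universe u
open CategoryTheory

namespace Groth.Agent.Lib.Helper22.KoszulScaled

section KS
open CochainComplex HomologicalComplex
open Groth.Agent.Lib.Helper22.KoszulH1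

variable {A : Type u} [CommRing A]

/-- a degreewise identification of two complexes turning the differential of the first into `x`
times the differential of the second, the terms of the second being `x`-torsion-free -/
structure Scaled (K K' : CochainComplex (ModuleCat.{u} A) ℤ) (x : A) where
  θ : ∀ q : ℤ, K.X q ≃ₗ[A] K'.X q
  comm : ∀ (p q : ℤ) (_ : p + 1 = q) (z : K.X p),
    θ q ((K.d p q).hom z) = x • (K'.d p q).hom (θ p z)
  nzd : ∀ (q : ℤ) (z : K'.X q), x • z = 0 → z = 0

/-- the two components of an element of the cone -/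
noncomputable def coneEquiv (K : CochainComplex (ModuleCat.{u} A) ℤ) (f : A) (p : ℤ) :
    (mappingCone (f • 𝟙 K)).X p ≃ₗ[A] (K.X (p + 1) × K.X p) where
  toFun z := (((mappingCone.fst (f • 𝟙 K)).1.v p (p + 1) rfl).hom z,
    ((mappingCone.snd (f • 𝟙 K)).v p p (add_zero p)).hom z)
  invFun ab := coneMk K f p (p + 1) rfl ab.1 ab.2
  left_inv z := mk_fst_snd K f p (p + 1) rfl z
  right_inv ab := Prod.ext (fst_mk K f p (p + 1) rfl ab.1 ab.2) (snd_mk K f p (p + 1) rfl ab.1 ab.2)
  map_add' z z' := by simp only [map_add, Prod.mk_add_mk]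
  map_smul' r z := by simp only [map_smul, RingHom.id_apply, Prod.smul_mk]

lemma coneEquiv_symm_apply (K : CochainComplex (ModuleCat.{u} A) ℤ) (f : A) (p : ℤ)
    (a : K.X (p + 1)) (b : K.X p) :
    (coneEquiv K f p).symm (a, b) = coneMk K f p (p + 1) rfl a b := rfl

lemma coneEquiv_mk (K : CochainComplex (ModuleCat.{u} A) ℤ) (f : A) (p : ℤ)
    (a : K.X (p + 1)) (b : K.X p) :
    coneEquiv K f p (coneMk K f p (p + 1) rfl a b) = (a, b) :=
  (coneEquiv K f p).apply_symm_apply (a, b)

/-- the inductive step -/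
noncomputable def Scaled.step {K K' : CochainComplex (ModuleCat.{u} A) ℤ} {x : A}
    (s : Scaled K K' x) (f : A) :
    Scaled (mappingCone ((x * f) • 𝟙 K)) (mappingCone (f • 𝟙 K')) x where
  θ p := (coneEquiv K (x * f) p).trans
    ((LinearEquiv.prodCongr (s.θ (p + 1)) (s.θ p)).trans (coneEquiv K' f p).symm)
  comm p q hpq z := by
    subst hpq
    obtain ⟨⟨a, b⟩, rfl⟩ := (coneEquiv K (x * f) p).symm.surjective z
    rw [coneEquiv_symm_apply, d_mk K (x * f) p (p + 1) (p + 1 + 1) rfl rfl]
    simp only [LinearEquiv.trans_apply, coneEquiv_mk, LinearEquiv.prodCongr_apply,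
      coneEquiv_symm_apply]
    rw [d_mk K' f p (p + 1) (p + 1 + 1) rfl rfl, ← mk_smul]
    congr 1
    · rw [map_neg, s.comm (p + 1) (p + 1 + 1) rfl, smul_neg]
    · rw [map_add, map_smul, s.comm p (p + 1) rfl, smul_add, mul_smul]
  nzd q z hz := by
    obtain ⟨⟨a, b⟩, rfl⟩ := (coneEquiv K' f q).symm.surjective z
    rw [← map_smul, Prod.smul_mk] at hz
    have h0 := (coneEquiv K' f q).symm.injective (hz.trans (map_zero _).symm)
    have ha : a = 0 := s.nzd _ a (congrArg Prod.fst h0)
    have hb : b = 0 := s.nzd _ b (congrArg Prod.snd h0)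
    rw [ha, hb]
    exact map_zero _

/-- the base case: the one-term complex -/
noncomputable def Scaled.base (x : A) (hx : x ∈ nonZeroDivisors A) :
    Scaled ((HomologicalComplex.single (ModuleCat.{u} A) (ComplexShape.up ℤ) 0).obj (ModuleCat.of A A))
      ((HomologicalComplex.single (ModuleCat.{u} A) (ComplexShape.up ℤ) 0).obj (ModuleCat.of A A)) x where
  θ q := LinearEquiv.refl A _
  comm p q hpq z := by
    simp only [HomologicalComplex.single_obj_d, LinearEquiv.refl_apply, ModuleCat.hom_zero,
      LinearMap.zero_apply, smul_zero]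
  nzd q z hz := by
    by_cases hq : q = 0
    · subst hq
      let e := (HomologicalComplex.singleObjXSelf (ComplexShape.up ℤ) 0
        (ModuleCat.of A A)).toLinearEquiv
      have h1 : x • e z = 0 := by rw [← map_smul, hz, map_zero]
      have h2 : e z = 0 := by
        have h3 : e z * x = 0 := by rw [mul_comm]; exact h1
        exact (mem_nonZeroDivisors_iff_right.mp hx) _ h3
      exact e.injective (h2.trans (map_zero e).symm)
    · exact eq_zero_of_isZero
        (HomologicalComplex.isZero_single_obj_X (ComplexShape.up ℤ) 0 (ModuleCat.of A A) q hq) z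

/-- the Koszul complex of the scaled sequence -/
noncomputable def scaled (x : A) (hx : x ∈ nonZeroDivisors A) :
    (l : List A) → Scaled (Koszul.koszul A (l.map (fun f => x * f))) (Koszul.koszul A l) x
  | [] => Scaled.base x hx
  | f :: l => (scaled x hx l).step f

/-- the cohomology of a complex of modules as cocycles modulo coboundaries -/
noncomputable def homologyIso (K : CochainComplex (ModuleCat.{u} A) ℤ) (q : ℤ) :
    K.homology q ≅ ModuleCat.of A (↥(LinearMap.ker (K.d q (q + 1)).hom) ⧸
      Submodule.comap (LinearMap.ker (K.d q (q + 1)).hom).subtype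
        (LinearMap.range (K.d (q - 1) q).hom)) := by
  refine (ShortComplex.homologyMapIso (K.isoSc' (q - 1) q (q + 1) (by simp) (by simp))).trans ?_
  refine (K.sc' (q - 1) q (q + 1)).moduleCatHomologyIso.trans ?_
  refine (LinearEquiv.toModuleIso ?_)
  refine Submodule.quotEquivOfEq _ _ ?_
  exact LinearMap.range_codRestrict _ _ _

/-- the identification of cocycles modulo coboundaries induced by a scaled identification -/
theorem Scaled.quotEquiv {K K' : CochainComplex (ModuleCat.{u} A) ℤ} {x : A} (s : Scaled K K' x)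
    (q : ℤ) :
    Nonempty ((↥(LinearMap.ker (K.d q (q + 1)).hom) ⧸
      Submodule.comap (LinearMap.ker (K.d q (q + 1)).hom).subtype
        (LinearMap.range (K.d (q - 1) q).hom)) ≃ₗ[A]
      (↥(LinearMap.ker (K'.d q (q + 1)).hom) ⧸
        Submodule.comap (LinearMap.ker (K'.d q (q + 1)).hom).subtype
          (Ideal.span {x} • LinearMap.range (K'.d (q - 1) q).hom))) := by
  have hker : (LinearMap.ker (K.d q (q + 1)).hom).map (s.θ q).toLinearMap =
      LinearMap.ker (K'.d q (q + 1)).hom := by
    ext y
    constructor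
    · rintro ⟨z, hz, rfl⟩
      have h1 := s.comm q (q + 1) rfl z
      rw [LinearMap.mem_ker.mp hz, map_zero] at h1
      exact LinearMap.mem_ker.mpr (s.nzd _ _ h1.symm)
    · intro hy
      refine ⟨(s.θ q).symm y, ?_, (s.θ q).apply_symm_apply y⟩
      apply LinearMap.mem_ker.mpr
      apply (s.θ (q + 1)).injective
      rw [s.comm q (q + 1) rfl, (s.θ q).apply_symm_apply, LinearMap.mem_ker.mp hy, smul_zero,
        map_zero]
  let e : ↥(LinearMap.ker (K.d q (q + 1)).hom) ≃ₗ[A] ↥(LinearMap.ker (K'.d q (q + 1)).hom) :=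
    LinearEquiv.ofSubmodules (s.θ q) _ _ hker
  have he : ∀ z, ((e z : ↥(LinearMap.ker (K'.d q (q + 1)).hom)) : K'.X q) = s.θ q z.1 := fun z => rfl
  refine ⟨Submodule.Quotient.equiv _ _ e ?_⟩
  ext y
  rw [Submodule.mem_comap, Submodule.ideal_span_singleton_smul,
    Submodule.mem_smul_pointwise_iff_exists]
  constructor
  · rintro ⟨z, hz, rfl⟩
    obtain ⟨w, hw⟩ : z.1 ∈ LinearMap.range (K.d (q - 1) q).hom := hz
    refine ⟨(K'.d (q - 1) q).hom (s.θ (q - 1) w), ⟨_, rfl⟩, ?_⟩
    rw [← s.comm (q - 1) q (by omega) w, hw]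
    rfl
  · rintro ⟨b, ⟨w, rfl⟩, hb⟩
    refine ⟨e.symm y, ?_, e.apply_symm_apply y⟩
    change (e.symm y).1 ∈ LinearMap.range (K.d (q - 1) q).hom
    refine ⟨(s.θ (q - 1)).symm w, ?_⟩
    apply (s.θ q).injective
    rw [s.comm (q - 1) q (by omega), (s.θ (q - 1)).apply_symm_apply, hb]
    change _ = s.θ q (e.symm y).1
    rw [← he, e.apply_symm_apply]
    rfl

theorem main (l : List A) (x : A) (hx : x ∈ nonZeroDivisors A) (q : ℤ) :
    Nonempty ((Koszul.koszul A (l.map (fun f => x * f))).homology q ≅
      ModuleCat.of A (↥(LinearMap.ker ((Koszul.koszul A l).d q (q + 1)).hom) ⧸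
        Submodule.comap (LinearMap.ker ((Koszul.koszul A l).d q (q + 1)).hom).subtype
          (Ideal.span {x} • LinearMap.range ((Koszul.koszul A l).d (q - 1) q).hom))) := by
  obtain ⟨e⟩ := (scaled x hx l).quotEquiv q
  exact ⟨(homologyIso _ q).trans e.toModuleIso⟩

end KS

end Groth.Agent.Lib.Helper22.KoszulScaled
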