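import Mathlib
import Groth.Agent.Lib.Helper87.KzLES
import Groth.Agent.Lib.Helper22.KoszulScaled
import Groth.Prelude.Def_Koszul
import Groth.Prelude.Def_DRing2

set_option autoImplicit false
universe u
open CategoryTheory CategoryTheory.Limits CochainComplex HomologicalComplex

namespace Groth.Agent.Lib.Helper22.KoszulSplit

open Groth.Agent.Lib.Helper94.KoszulReg (kz kmap)
open Groth.Agent.Lib.Helper87.KzLES
open Groth.Agent.Lib.Helper22.KoszulH1 Groth.Agent.Lib.Helper22.KoszulScaled

variable {A : Type u} [CommRing A]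

abbrev Cx (A : Type u) [CommRing A] := CochainComplex (ModuleCat.{u} A) ℤ

/-- `kz` of isomorphic complexes -/
noncomputable def kzIso {X X' : Cx A} (e : X ≅ X') (l : List A) : kz X l ≅ kz X' l where
  hom := kmap e.hom l
  inv := kmap e.inv l
  hom_inv_id := by rw [← kmap_comp, e.hom_inv_id, kmap_id]
  inv_hom_id := by rw [← kmap_comp, e.inv_hom_id, kmap_id]

theorem cone_congr (a : A) {X Y : Cx A} (h : X = Y) :
    mappingCone (a • 𝟙 X) = mappingCone (a • 𝟙 Y) := by
  subst h; rfl

theorem kz_append (X : Cx A) (g : List A) : ∀ f : List A, kz X (f ++ g) = kz (kz X g) f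
  | [] => rfl
  | a :: l => by
    change mappingCone (a • 𝟙 (kz X (l ++ g))) = mappingCone (a • 𝟙 (kz (kz X g) l))
    exact cone_congr a (kz_append X g l)

theorem koszul_eq : ∀ l : List A, Koszul.koszul A l = kz (Koszul.koszul A []) l
  | [] => rfl
  | a :: l => by
    change mappingCone (a • 𝟙 (Koszul.koszul A l)) = mappingCone (a • 𝟙 (kz (Koszul.koszul A []) l))
    exact cone_congr a (koszul_eq l)

/-- cones of equal morphisms are isomorphic -/
noncomputable def coneCongr {K L : Cx A} {φ φ' : K ⟶ L} (h : φ = φ') :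
    mappingCone φ ≅ mappingCone φ' := eqToIso (by rw [h])

section tensor

variable (M : ModuleCat.{u} A)

lemma tensor_map_smul (a : A) (K : Cx A) :
    ((MonoidalCategory.tensorRight M).mapHomologicalComplex (ComplexShape.up ℤ)).map (a • 𝟙 K) =
      a • 𝟙 (DRing.tensorCx K M) := by
  ext i : 1
  simp only [Functor.mapHomologicalComplex_map_f, HomologicalComplex.smul_f_apply,
    HomologicalComplex.id_f]
  change MonoidalCategory.whiskerRight (a • 𝟙 (K.X i)) M = a • 𝟙 _
  rw [MonoidalLinear.smul_whiskerRight, MonoidalCategory.id_whiskerRight]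
  rfl

/-- tensoring commutes with the iterated cone construction -/
noncomputable def tensorKz (X : Cx A) : ∀ l : List A,
    DRing.tensorCx (kz X l) M ≅ kz (DRing.tensorCx X M) l
  | [] => Iso.refl _
  | a :: l =>
    (mappingCone.mapHomologicalComplexIso (a • 𝟙 (kz X l)) (MonoidalCategory.tensorRight M)).trans
      ((coneCongr (tensor_map_smul M a (kz X l))).trans (kzIso (tensorKz X l) [a]))

end tensor

section swap

variable (V : Cx A) (x y : A)

/-- the shuffle `((a,b),(c,e)) ↦ ((-a,c),(b,e))` -/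
def shuffle (P Q S : Type u) [AddCommGroup P] [AddCommGroup Q] [AddCommGroup S]
    [Module A P] [Module A Q] [Module A S] :
    ((P × Q) × (Q × S)) ≃ₗ[A] ((P × Q) × (Q × S)) where
  toFun z := ((-z.1.1, z.2.1), (z.1.2, z.2.2))
  invFun z := ((-z.1.1, z.2.1), (z.1.2, z.2.2))
  left_inv z := by simp
  right_inv z := by simp
  map_add' z z' := by
    ext <;> simp [neg_add, add_comm]
  map_smul' r z := by
    ext <;> simp

/-- the degreewise swap -/
noncomputable def swapθ (p : ℤ) :
    (mappingCone (x • 𝟙 (mappingCone (y • 𝟙 V)))).X p ≃ₗ[A]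
      (mappingCone (y • 𝟙 (mappingCone (x • 𝟙 V)))).X p :=
  (coneEquiv (mappingCone (y • 𝟙 V)) x p).trans
    ((LinearEquiv.prodCongr (coneEquiv V y (p + 1)) (coneEquiv V y p)).trans
      ((shuffle (V.X (p + 1 + 1)) (V.X (p + 1)) (V.X p)).trans
        ((LinearEquiv.prodCongr (coneEquiv V x (p + 1)) (coneEquiv V x p)).symm.trans
          (coneEquiv (mappingCone (x • 𝟙 V)) y p).symm)))

lemma swapθ_mk (p : ℤ) (a : V.X (p + 1 + 1)) (b c : V.X (p + 1)) (e : V.X p) :
    swapθ V x y p (coneMk (mappingCone (y • 𝟙 V)) x p (p + 1) rfl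
      (coneMk V y (p + 1) (p + 1 + 1) rfl a b) (coneMk V y p (p + 1) rfl c e)) =
    coneMk (mappingCone (x • 𝟙 V)) y p (p + 1) rfl
      (coneMk V x (p + 1) (p + 1 + 1) rfl (-a) c) (coneMk V x p (p + 1) rfl b e) := by
  simp only [swapθ, LinearEquiv.trans_apply, coneEquiv_mk, LinearEquiv.prodCongr_apply,
    LinearEquiv.prodCongr_symm, coneEquiv_symm_apply]
  rfl

lemma exists_mk (p : ℤ) (z : (mappingCone (x • 𝟙 (mappingCone (y • 𝟙 V)))).X p) :
    ∃ (a : V.X (p + 1 + 1)) (b c : V.X (p + 1)) (e : V.X p),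
      z = coneMk (mappingCone (y • 𝟙 V)) x p (p + 1) rfl
        (coneMk V y (p + 1) (p + 1 + 1) rfl a b) (coneMk V y p (p + 1) rfl c e) := by
  obtain ⟨⟨u, w⟩, rfl⟩ := (coneEquiv (mappingCone (y • 𝟙 V)) x p).symm.surjective z
  obtain ⟨⟨a, b⟩, rfl⟩ := (coneEquiv V y (p + 1)).symm.surjective u
  obtain ⟨⟨c, e⟩, rfl⟩ := (coneEquiv V y p).symm.surjective w
  exact ⟨a, b, c, e, rfl⟩

lemma neg_mk (K : Cx A) (f : A) (p q : ℤ) (hpq : p + 1 = q) (u : K.X q) (v : K.X p) :
    -coneMk K f p q hpq u v = coneMk K f p q hpq (-u) (-v) := by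
  rw [← neg_one_smul A, ← mk_smul, neg_one_smul, neg_one_smul]

lemma mk_congr (K : Cx A) (f : A) (p q : ℤ) (hpq : p + 1 = q) {u u' : K.X q} {v v' : K.X p}
    (hu : u = u') (hv : v = v') : coneMk K f p q hpq u v = coneMk K f p q hpq u' v' := by
  rw [hu, hv]

lemma swapθ_comm (p : ℤ) (z : (mappingCone (x • 𝟙 (mappingCone (y • 𝟙 V)))).X p) :
    swapθ V x y (p + 1) (((mappingCone (x • 𝟙 (mappingCone (y • 𝟙 V)))).d p (p + 1)).hom z) =
      ((mappingCone (y • 𝟙 (mappingCone (x • 𝟙 V)))).d p (p + 1)).hom (swapθ V x y p z) := by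
  obtain ⟨a, b, c, e, rfl⟩ := exists_mk V x y p z
  rw [swapθ_mk, d_mk (mappingCone (y • 𝟙 V)) x p (p + 1) (p + 1 + 1) rfl rfl,
    d_mk (mappingCone (x • 𝟙 V)) y p (p + 1) (p + 1 + 1) rfl rfl,
    d_mk V y (p + 1) (p + 1 + 1) (p + 1 + 1 + 1) rfl rfl, d_mk V y p (p + 1) (p + 1 + 1) rfl rfl,
    d_mk V x (p + 1) (p + 1 + 1) (p + 1 + 1 + 1) rfl rfl, d_mk V x p (p + 1) (p + 1 + 1) rfl rfl]
  rw [neg_mk, neg_mk, ← mk_smul, ← mk_smul, ← mk_add, ← mk_add, swapθ_mk]
  refine mk_congr _ _ _ _ _ (mk_congr _ _ _ _ _ ?_ ?_) (mk_congr _ _ _ _ _ ?_ ?_)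
  · simp
  · simp only [map_neg, smul_neg]
    abel
  · simp only [smul_neg]
    abel
  · abel

/-- the swap isomorphism of complexes -/
noncomputable def swap :
    mappingCone (x • 𝟙 (mappingCone (y • 𝟙 V))) ≅ mappingCone (y • 𝟙 (mappingCone (x • 𝟙 V))) :=
  HomologicalComplex.Hom.isoOfComponents (fun p => (swapθ V x y p).toModuleIso) (by
    rintro p _ rfl
    ext z
    exact (swapθ_comm V x y p z).symm)

/-- the iterated swap -/
noncomputable def swapKz (W : Cx A) : ∀ xs : List A,
    kz (mappingCone (y • 𝟙 W)) xs ≅ mappingCone (y • 𝟙 (kz W xs))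
  | [] => Iso.refl _
  | x :: xs => (kzIso (swapKz W xs) [x]).trans (swap (kz W xs) x y)

end swap

section nullhomotopy

/-- an elementwise null-homotopy of multiplication by `y` on `V` -/
structure NH (V : Cx A) (y : A) where
  h : ∀ q : ℤ, V.X (q + 1) →ₗ[A] V.X q
  comm : ∀ (q : ℤ) (v : V.X (q + 1)),
    y • v = (V.d q (q + 1)).hom (h q v) + h (q + 1) ((V.d (q + 1) (q + 1 + 1)).hom v)

def NH.zero (V : Cx A) : NH V 0 where
  h q := 0
  comm q v := by simp

def NH.add {V : Cx A} {a b : A} (ha : NH V a) (hb : NH V b) : NH V (a + b) where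
  h q := ha.h q + hb.h q
  comm q v := by
    simp only [LinearMap.add_apply, map_add, add_smul]
    rw [ha.comm q v, hb.comm q v]
    abel

def NH.smul {V : Cx A} {a : A} (c : A) (ha : NH V a) : NH V (c * a) where
  h q := c • ha.h q
  comm q v := by
    simp only [LinearMap.smul_apply, map_smul, mul_smul]
    rw [ha.comm q v, smul_add]

/-- multiplication by `x` is null-homotopic on the cone of `x` -/
noncomputable def NH.self (Z : Cx A) (x : A) : NH (mappingCone (x • 𝟙 Z)) x where
  h q := (coneEquiv Z x q).symm.toLinearMap ∘ₗ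
    (LinearMap.inl A (Z.X (q + 1)) (Z.X q)) ∘ₗ (LinearMap.snd A (Z.X (q + 1 + 1)) (Z.X (q + 1))) ∘ₗ
      (coneEquiv Z x (q + 1)).toLinearMap
  comm q v := by
    obtain ⟨⟨a, b⟩, rfl⟩ := (coneEquiv Z x (q + 1)).symm.surjective v
    rw [coneEquiv_symm_apply, d_mk Z x (q + 1) (q + 1 + 1) (q + 1 + 1 + 1) rfl rfl]
    simp only [LinearMap.coe_comp, LinearEquiv.coe_coe, Function.comp_apply, coneEquiv_mk,
      LinearMap.inl_apply, LinearMap.snd_apply, coneEquiv_symm_apply]
    rw [d_mk Z x q (q + 1) (q + 1 + 1) rfl rfl, ← mk_add, ← mk_smul]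
    refine mk_congr _ _ _ _ _ ?_ ?_
    · simp
    · simp

/-- a null-homotopy on `Z` induces one on the cone of `x` -/
noncomputable def NH.cone {Z : Cx A} {y : A} (hz : NH Z y) (x : A) :
    NH (mappingCone (x • 𝟙 Z)) y where
  h q := (coneEquiv Z x q).symm.toLinearMap ∘ₗ
    (LinearMap.prodMap (-(hz.h (q + 1))) (hz.h q)) ∘ₗ (coneEquiv Z x (q + 1)).toLinearMap
  comm q v := by
    obtain ⟨⟨a, b⟩, rfl⟩ := (coneEquiv Z x (q + 1)).symm.surjective v
    rw [coneEquiv_symm_apply, d_mk Z x (q + 1) (q + 1 + 1) (q + 1 + 1 + 1) rfl rfl]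
    simp only [LinearMap.coe_comp, LinearEquiv.coe_coe, Function.comp_apply, coneEquiv_mk,
      LinearMap.prodMap_apply, LinearMap.neg_apply, coneEquiv_symm_apply]
    rw [d_mk Z x q (q + 1) (q + 1 + 1) rfl rfl, ← mk_add, ← mk_smul]
    refine mk_congr _ _ _ _ _ ?_ ?_
    · rw [hz.comm (q + 1) a]
      simp only [map_neg, neg_neg]
    · rw [hz.comm q b]
      simp only [map_add, map_neg, map_smul, smul_neg]
      abel

theorem nh_of_mem (W : Cx A) : ∀ (xs : List A) (y : A), y ∈ Ideal.span {a | a ∈ xs} →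
    Nonempty (NH (kz W xs) y)
  | [], y, hy => by
    have : y = 0 := by simpa using hy
    subst this
    exact ⟨NH.zero _⟩
  | x :: xs, y, hy => by
    induction hy using Submodule.span_induction with
    | mem a ha =>
      rcases List.mem_cons.mp ha with rfl | ha'
      · exact ⟨NH.self (kz W xs) a⟩
      · obtain ⟨h⟩ := nh_of_mem W xs a (Ideal.subset_span ha')
        exact ⟨h.cone x⟩
    | zero => exact ⟨NH.zero _⟩
    | add a b _ _ iha ihb =>
      obtain ⟨ha⟩ := iha
      obtain ⟨hb⟩ := ihb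
      exact ⟨ha.add hb⟩
    | smul c a _ iha =>
      obtain ⟨ha⟩ := iha
      exact ⟨ha.smul c⟩

end nullhomotopy

section split

variable {V : Cx A} {y : A} (nh : NH V y)

/-- the retraction, degreewise -/
noncomputable def retrLin (p : ℤ) : (mappingCone (y • 𝟙 V)).X p →ₗ[A] V.X p :=
  (LinearMap.snd A (V.X (p + 1)) (V.X p) +
    nh.h p ∘ₗ LinearMap.fst A (V.X (p + 1)) (V.X p)) ∘ₗ (coneEquiv V y p).toLinearMap

lemma retrLin_mk (p : ℤ) (a : V.X (p + 1)) (b : V.X p) :
    retrLin nh p (coneMk V y p (p + 1) rfl a b) = b + nh.h p a := by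
  simp only [retrLin, LinearMap.coe_comp, LinearEquiv.coe_coe,
    Function.comp_apply, coneEquiv_mk, LinearMap.add_apply, LinearMap.snd_apply,
    LinearMap.fst_apply]

/-- the retraction of the cone onto `V` given by a null-homotopy -/
noncomputable def retr : mappingCone (y • 𝟙 V) ⟶ V where
  f p := ModuleCat.ofHom (retrLin nh p)
  comm' i j hij := by
    have hij' : i + 1 = j := hij
    subst hij'
    ext z
    change (V.d i (i + 1)).hom (retrLin nh i z) =
      retrLin nh (i + 1) (((mappingCone (y • 𝟙 V)).d i (i + 1)).hom z)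
    obtain ⟨⟨a, b⟩, rfl⟩ := (coneEquiv V y i).symm.surjective z
    rw [coneEquiv_symm_apply, retrLin_mk, d_mk V y i (i + 1) (i + 1 + 1) rfl rfl, retrLin_mk]
    simp only [map_add, map_neg]
    rw [nh.comm i a]
    abel

lemma retr_mk (p : ℤ) (a : V.X (p + 1)) (b : V.X p) :
    ((retr nh).f p).hom (coneMk V y p (p + 1) rfl a b) = b + nh.h p a :=
  retrLin_mk nh p a b

lemma inr_retr : mappingCone.inr (y • 𝟙 V) ≫ retr nh = 𝟙 V := by
  ext p v
  have h1 : ((mappingCone.inr (y • 𝟙 V)).f p).hom v = coneMk V y p (p + 1) rfl 0 v := by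
    unfold coneMk
    rw [map_zero, zero_add]
  simp only [HomologicalComplex.comp_f, ModuleCat.hom_comp, LinearMap.coe_comp,
    Function.comp_apply, HomologicalComplex.id_f, ModuleCat.hom_id, LinearMap.id_coe, id_eq]
  rw [h1, retr_mk, map_zero, add_zero]

include nh in
lemma homologyMap_eq_zero (m : ℤ) (z : V.homology m) :
    (homologyMap (y • 𝟙 V) m).hom z = 0 := by
  have h0 : (homologyMap (mappingCone.inr (y • 𝟙 V)) m).hom ((homologyMap (y • 𝟙 V) m).hom z) = 0 :=
    (cone_exact₂ (y • 𝟙 V) m).apply_apply_eq_zero z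
  have h1 : homologyMap (mappingCone.inr (y • 𝟙 V)) m ≫ homologyMap (retr nh) m = 𝟙 _ := by
    rw [← homologyMap_comp, inr_retr, homologyMap_id]
  have h2 := congrArg (fun f => f.hom ((homologyMap (y • 𝟙 V) m).hom z)) h1
  simp only [ModuleCat.hom_comp, LinearMap.coe_comp, Function.comp_apply, ModuleCat.hom_id,
    LinearMap.id_coe, id_eq] at h2
  rw [← h2, h0, map_zero]

/-- the cohomology of the cone of a null-homotopic multiplication splits -/
noncomputable def splitEquiv (n m : ℤ) (hnm : n + 1 = m) :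
    (mappingCone (y • 𝟙 V)).homology n ≃ₗ[A] (V.homology n × V.homology m) := by
  let Φ : (mappingCone (y • 𝟙 V)).homology n →ₗ[A] (V.homology n × V.homology m) :=
    { toFun := fun z => ((homologyMap (retr nh) n).hom z, (coneδ (y • 𝟙 V) n m hnm).hom z)
      map_add' := fun z z' => by simp only [map_add, Prod.mk_add_mk]
      map_smul' := fun r z => by simp only [map_smul, RingHom.id_apply, Prod.smul_mk] }
  refine LinearEquiv.ofBijective Φ ⟨?_, ?_⟩
  · rw [← LinearMap.ker_eq_bot, LinearMap.ker_eq_bot']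
    intro z hz
    have hz1 : (homologyMap (retr nh) n).hom z = 0 := congrArg Prod.fst hz
    have hz2 : (coneδ (y • 𝟙 V) n m hnm).hom z = 0 := congrArg Prod.snd hz
    obtain ⟨w, rfl⟩ := (cone_exact₃ (y • 𝟙 V) n m hnm z).mp hz2
    have h1 : homologyMap (mappingCone.inr (y • 𝟙 V)) n ≫ homologyMap (retr nh) n = 𝟙 _ := by
      rw [← homologyMap_comp, inr_retr, homologyMap_id]
    have h2 := congrArg (fun f => f.hom w) h1
    simp only [ModuleCat.hom_comp, LinearMap.coe_comp, Function.comp_apply, ModuleCat.hom_id,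
      LinearMap.id_coe, id_eq] at h2
    rw [hz1] at h2
    rw [← h2, map_zero]
  · rintro ⟨a, b⟩
    obtain ⟨z₀, hz₀⟩ := (cone_exact₁ (y • 𝟙 V) n m hnm b).mp (homologyMap_eq_zero nh m b)
    have h1 : homologyMap (mappingCone.inr (y • 𝟙 V)) n ≫ homologyMap (retr nh) n = 𝟙 _ := by
      rw [← homologyMap_comp, inr_retr, homologyMap_id]
    refine ⟨z₀ + (homologyMap (mappingCone.inr (y • 𝟙 V)) n).hom
      (a - (homologyMap (retr nh) n).hom z₀), ?_⟩
    have h2 := congrArg (fun f => f.hom (a - (homologyMap (retr nh) n).hom z₀)) h1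
    simp only [ModuleCat.hom_comp, LinearMap.coe_comp, Function.comp_apply, ModuleCat.hom_id,
      LinearMap.id_coe, id_eq] at h2
    have h3 : (coneδ (y • 𝟙 V) n m hnm).hom ((homologyMap (mappingCone.inr (y • 𝟙 V)) n).hom
        (a - (homologyMap (retr nh) n).hom z₀)) = 0 :=
      (cone_exact₃ (y • 𝟙 V) n m hnm).apply_apply_eq_zero _
    apply Prod.ext
    · change (homologyMap (retr nh) n).hom (z₀ + _) = a
      rw [map_add, h2]
      abel
    · change (coneδ (y • 𝟙 V) n m hnm).hom (z₀ + _) = b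
      rw [map_add, h3, hz₀, add_zero]

end split

section bookkeeping

/-- transport of cohomology along an equality of degrees -/
noncomputable def hcast (V : Cx A) {a b : ℤ} (h : a = b) : V.homology a ≃ₗ[A] V.homology b := by
  subst h
  exact LinearEquiv.refl _ _

/-- the cohomology isomorphism induced by an isomorphism of complexes -/
noncomputable def homologyEquiv {K L : Cx A} (e : K ≅ L) (m : ℤ) :
    K.homology m ≃ₗ[A] L.homology m :=
  ((HomologicalComplex.homologyFunctor (ModuleCat.{u} A) (ComplexShape.up ℤ) m).mapIso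
    e).toLinearEquiv

lemma card_sum_fiber {I : Type} [Fintype I] (deg : I → ℕ) (r : ℕ)
    (hcard : ∀ j : ℕ, Fintype.card {i : I // deg i = j} = r.choose j) (j : ℕ) :
    Fintype.card {t : I ⊕ I // Sum.elim deg (fun i => deg i + 1) t = j} = (r + 1).choose j := by
  classical
  have e : {t : I ⊕ I // Sum.elim deg (fun i => deg i + 1) t = j} ≃
      {a : I // deg a = j} ⊕ {b : I // deg b + 1 = j} := Equiv.subtypeSum
  rw [Fintype.card_congr e, Fintype.card_sum, hcard j]
  cases j with
  | zero =>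
    have : IsEmpty {b : I // deg b + 1 = 0} := ⟨fun b => Nat.succ_ne_zero _ b.2⟩
    rw [Fintype.card_eq_zero]
    simp
  | succ k =>
    have e : {b : I // deg b + 1 = k + 1} ≃ {b : I // deg b = k} :=
      Equiv.subtypeEquivRight (fun b => by omega)
    rw [Fintype.card_congr e, hcard k, Nat.choose_succ_succ, add_comm]

theorem main_ind (W : Cx A) (xs : List A) : ∀ (ys : List A),
    (∀ y ∈ ys, y ∈ Ideal.span {a | a ∈ xs}) →
    ∃ (I : Type) (_ : Fintype I) (deg : I → ℕ),
      (∀ j : ℕ, Fintype.card {i : I // deg i = j} = ys.length.choose j) ∧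
      ∀ m : ℤ, Nonempty ((kz (kz W ys) xs).homology m ≃ₗ[A]
        ((i : I) → (kz W xs).homology (m + deg i)))
  | [], _ => by
    refine ⟨Unit, inferInstance, fun _ => 0, ?_, ?_⟩
    · intro j
      cases j with
      | zero => simp
      | succ k =>
        have : IsEmpty {i : Unit // (0 : ℕ) = k + 1} := ⟨fun b => Nat.succ_ne_zero _ b.2.symm⟩
        rw [Fintype.card_eq_zero]
        simp
    · intro m
      exact ⟨(hcast (kz W xs) (by simp)).trans
        (LinearEquiv.funUnique Unit A ((kz W xs).homology (m + ((0 : ℕ) : ℤ)))).symm⟩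
  | y :: ys, hy => by
    obtain ⟨I, hI, deg, hcard, he⟩ := main_ind W xs ys (fun z hz => hy z (List.mem_cons_of_mem _ hz))
    obtain ⟨nh⟩ := nh_of_mem (kz W ys) xs y (hy y List.mem_cons_self)
    refine ⟨I ⊕ I, inferInstance, Sum.elim deg (fun i => deg i + 1), ?_, ?_⟩
    · intro j
      exact card_sum_fiber deg ys.length hcard j
    · intro m
      obtain ⟨e0⟩ := he m
      obtain ⟨e1⟩ := he (m + 1)
      have E1 : (kz (kz W (y :: ys)) xs).homology m ≃ₗ[A]
          (mappingCone (y • 𝟙 (kz (kz W ys) xs))).homology m :=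
        homologyEquiv (swapKz y (kz W ys) xs) m
      have E2 := splitEquiv nh m (m + 1) rfl
      have E3 : ((kz (kz W ys) xs).homology m × (kz (kz W ys) xs).homology (m + 1)) ≃ₗ[A]
          (((i : I) → (kz W xs).homology (m + deg i)) ×
            ((i : I) → (kz W xs).homology (m + (deg i + 1 : ℕ)))) :=
        LinearEquiv.prodCongr e0 (e1.trans (LinearEquiv.piCongrRight (fun i =>
          hcast (kz W xs) (by push_cast; ring))))
      have E4 := (LinearEquiv.sumPiEquivProdPi A I I
        (fun t => (kz W xs).homology (m + (Sum.elim deg (fun i => deg i + 1) t : ℕ)))).symm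
      exact ⟨E1.trans (E2.trans (E3.trans E4))⟩

end bookkeeping

section final

/-- transport along an equality of indices in a family of modules -/
def famCast (H : ℤ → Type u) [∀ k, AddCommGroup (H k)] [∀ k, Module A (H k)] {a b : ℤ}
    (h : a = b) : H a ≃ₗ[A] H b := by
  subst h
  exact LinearEquiv.refl _ _

theorem convert_pi {r : ℕ} {I : Type} [Fintype I] (deg : I → ℕ)
    (hcard : ∀ j : ℕ, Fintype.card {i : I // deg i = j} = r.choose j)
    (H : ℤ → Type u) [∀ k, AddCommGroup (H k)] [∀ k, Module A (H k)] (m : ℤ) :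
    Nonempty (((i : I) → H (m + deg i)) ≃ₗ[A]
      ((j : Fin (r + 1)) → Fin (r.choose j) → H (m + j))) := by
  classical
  have hlt : ∀ i, deg i < r + 1 := by
    intro i
    by_contra hge
    have h0 : r.choose (deg i) = 0 := Nat.choose_eq_zero_of_lt (by omega)
    have h2 := hcard (deg i)
    rw [h0] at h2
    have h3 : IsEmpty {i' : I // deg i' = deg i} := Fintype.card_eq_zero_iff.mp h2
    exact h3.false ⟨i, rfl⟩
  let f : I → Fin (r + 1) := fun i => ⟨deg i, hlt i⟩
  have hcard' : ∀ j : Fin (r + 1), Fintype.card {x : I // f x = j} = r.choose j := fun j =>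
    (Fintype.card_congr (Equiv.subtypeEquivRight (fun x => by simp [f, Fin.ext_iff]))).trans
      (hcard j)
  let ej : ∀ j : Fin (r + 1), {x : I // f x = j} ≃ Fin (r.choose j) := fun j =>
    Fintype.equivFinOfCardEq (hcard' j)
  let E1 := (LinearEquiv.piCongrLeft A (fun i : I => H (m + deg i)) (Equiv.sigmaFiberEquiv f)).symm
  let E2 : ((s : Σ j : Fin (r + 1), {x : I // f x = j}) → H (m + deg (Equiv.sigmaFiberEquiv f s))) ≃ₗ[A]
      ((s : Σ j : Fin (r + 1), {x : I // f x = j}) → H (m + (s.1 : ℕ))) :=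
    LinearEquiv.piCongrRight (fun s => famCast H (by
      have h := congrArg Fin.val s.2.2
      simp only [f] at h
      change m + ((deg s.2.1 : ℕ) : ℤ) = _
      rw [h]))
  let E3 := LinearEquiv.piCurry A
    (fun (j : Fin (r + 1)) (_ : {x : I // f x = j}) => H (m + (j : ℕ)))
  let E4 : ((j : Fin (r + 1)) → {x : I // f x = j} → H (m + (j : ℕ))) ≃ₗ[A]
      ((j : Fin (r + 1)) → Fin (r.choose j) → H (m + (j : ℕ))) :=
    LinearEquiv.piCongrRight (fun j => LinearEquiv.funCongrLeft A _ (ej j).symm)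
  exact ⟨E1.trans (E2.trans (E3.trans E4))⟩

theorem final (M : ModuleCat.{u} A) (xs ys : List A)
    (hy : ∀ y ∈ ys, y ∈ Ideal.span {a | a ∈ xs}) (m : ℤ) :
    Nonempty ((DRing.tensorCx (Koszul.koszul A (xs ++ ys)) M).homology m ≅
      ModuleCat.of A ((j : Fin (ys.length + 1)) → Fin (ys.length.choose j) →
        (DRing.tensorCx (Koszul.koszul A xs) M).homology (m + j))) := by
  let X₀ : Cx A := Koszul.koszul A []
  let Y₀ : Cx A := DRing.tensorCx X₀ M
  have h1 : Koszul.koszul A (xs ++ ys) = kz (kz X₀ ys) xs := by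
    rw [koszul_eq (xs ++ ys), kz_append]
  have h2 : Koszul.koszul A xs = kz X₀ xs := koszul_eq xs
  let iso1 : DRing.tensorCx (Koszul.koszul A (xs ++ ys)) M ≅ kz (kz Y₀ ys) xs :=
    (eqToIso (by rw [h1])).trans ((tensorKz M (kz X₀ ys) xs).trans (kzIso (tensorKz M X₀ ys) xs))
  let iso2 : DRing.tensorCx (Koszul.koszul A xs) M ≅ kz Y₀ xs :=
    (eqToIso (by rw [h2])).trans (tensorKz M X₀ xs)
  obtain ⟨I, hI, deg, hcard, he⟩ := main_ind Y₀ xs ys hy
  obtain ⟨e0⟩ := he m
  obtain ⟨e1⟩ := convert_pi (A := A) deg hcard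
    (fun k => (DRing.tensorCx (Koszul.koszul A xs) M).homology k) m
  let E : (DRing.tensorCx (Koszul.koszul A (xs ++ ys)) M).homology m ≃ₗ[A]
      ((j : Fin (ys.length + 1)) → Fin (ys.length.choose j) →
        (DRing.tensorCx (Koszul.koszul A xs) M).homology (m + j)) :=
    (homologyEquiv iso1 m).trans (e0.trans
      ((LinearEquiv.piCongrRight (fun i => (homologyEquiv iso2 (m + deg i)).symm)).trans e1))
  exact ⟨E.toModuleIso⟩

end final

end Groth.Agent.Lib.Helper22.KoszulSplit
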