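import Mathlib
import Groth.Prelude.Def_LinTop

/-!
Helper lemmas on admissible rings (helper22): geometric series, units, Jacobson radical.
-/

set_option autoImplicit false

namespace Groth.Agent.Lib.Helper22

open Topology

universe u

/-- In a complete linearly topologized ring with an ideal of definition `J`, the geometric series of
an element of `J` is summable. -/
theorem summable_pow_of_mem_idealOfDefinition
    {A : Type u} [CommRing A] [UniformSpace A] [IsUniformAddGroup A] [IsTopologicalRing A]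
    (hA : LinTop.IsAdmissible A) (J : Ideal A) (hJ : LinTop.IsIdealOfDefinition A J)
    (x : A) (hx : x ∈ J) : Summable (fun n : ℕ => x ^ n) := by
  obtain ⟨⟨hlin, -⟩, hT2, hcomp⟩ := hA
  rw [summable_iff_vanishing]
  intro e he
  obtain ⟨U, hU, hUe⟩ := (IsLinearTopology.hasBasis_ideal (R := A)).mem_iff.mp he
  obtain ⟨N, -, hN⟩ := hJ.2 _ hU
  refine ⟨Finset.range N, fun t ht => hUe ?_⟩
  refine Ideal.sum_mem _ fun n hn => hN ?_
  have hnN : N ≤ n := by
    by_contra h
    exact Finset.disjoint_left.mp ht hn (Finset.mem_range.mpr (not_le.mp h))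
  exact Ideal.pow_le_pow_right hnN (Ideal.pow_mem_pow hx n)

/-- `1 - x` is a unit for `x` in an ideal of definition of an admissible ring. -/
theorem isUnit_one_sub_of_mem_idealOfDefinition
    {A : Type u} [CommRing A] [UniformSpace A] [IsUniformAddGroup A] [IsTopologicalRing A]
    (hA : LinTop.IsAdmissible A) (J : Ideal A) (hJ : LinTop.IsIdealOfDefinition A J)
    (x : A) (hx : x ∈ J) : IsUnit (1 - x) := by
  have hsum := summable_pow_of_mem_idealOfDefinition hA J hJ x hx
  have : T2Space A := hA.2.1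
  have h1 : ∑' n : ℕ, x ^ n = 1 + x * ∑' n : ℕ, x ^ n :=
    calc ∑' n : ℕ, x ^ n = x ^ 0 + ∑' n : ℕ, x ^ (n + 1) := hsum.tsum_eq_zero_add
      _ = 1 + ∑' n : ℕ, x * x ^ n := by
          rw [pow_zero]; congr 1; exact tsum_congr fun n => pow_succ' x n
      _ = 1 + x * ∑' n : ℕ, x ^ n := by rw [hsum.tsum_mul_left x]
  refine IsUnit.of_mul_eq_one (∑' n : ℕ, x ^ n) ?_
  rw [sub_mul, one_mul]
  nth_rewrite 1 [h1]
  ring

/-- An ideal of definition of an admissible ring is contained in the Jacobson radical. -/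
theorem idealOfDefinition_le_jacobson_bot
    {A : Type u} [CommRing A] [UniformSpace A] [IsUniformAddGroup A] [IsTopologicalRing A]
    (hA : LinTop.IsAdmissible A) (J : Ideal A) (hJ : LinTop.IsIdealOfDefinition A J) :
    J ≤ (⊥ : Ideal A).jacobson := by
  intro x hx
  rw [Ideal.mem_jacobson_bot]
  intro y
  have hxy : -(x * y) ∈ J := neg_mem (Ideal.mul_mem_right _ _ hx)
  have := isUnit_one_sub_of_mem_idealOfDefinition hA J hJ _ hxy
  rwa [sub_neg_eq_add, add_comm] at this

/-- A sequence which is eventually in every power of an ideal of definition of an admissible ring is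
summable. -/
theorem summable_of_eventually_mem_pow
    {A : Type u} [CommRing A] [UniformSpace A] [IsUniformAddGroup A] [IsTopologicalRing A]
    (hA : LinTop.IsAdmissible A) (J : Ideal A) (hJ : LinTop.IsIdealOfDefinition A J)
    (y : ℕ → A) (h : ∀ N : ℕ, ∃ K : ℕ, ∀ k, K ≤ k → y k ∈ J ^ N) : Summable y := by
  obtain ⟨⟨hlin, -⟩, hT2, hcomp⟩ := hA
  rw [summable_iff_vanishing]
  intro e he
  obtain ⟨U, hU, hUe⟩ := (IsLinearTopology.hasBasis_ideal (R := A)).mem_iff.mp he
  obtain ⟨N, -, hN⟩ := hJ.2 _ hU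
  obtain ⟨K, hK⟩ := h N
  refine ⟨Finset.range K, fun t ht => hUe ?_⟩
  refine Ideal.sum_mem _ fun n hn => hN ?_
  have hnK : K ≤ n := by
    by_contra h'
    exact Finset.disjoint_left.mp ht hn (Finset.mem_range.mpr (not_le.mp h'))
  exact hK n hnK

/-- Elements of `span S * K` are combinations of the elements of `S` with coefficients in `K`. -/
theorem exists_coeff_of_mem_span_finset_mul {A : Type u} [CommRing A] (S : Finset A) (K : Ideal A)
    (x : A) (hx : x ∈ Ideal.span (S : Set A) * K) :
    ∃ c : A → A, (∀ a, c a ∈ K) ∧ x = ∑ a ∈ S, a * c a := by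
  refine Submodule.mul_induction_on hx ?_ ?_
  · intro a ha b hb
    obtain ⟨coef, -, rfl⟩ := Submodule.mem_span_finset.mp ha
    refine ⟨fun j => coef j * b, fun j => K.mul_mem_left _ hb, ?_⟩
    rw [Finset.sum_mul]
    refine Finset.sum_congr rfl fun j _ => ?_
    rw [smul_eq_mul]; ring
  · rintro x y ⟨c, hc, rfl⟩ ⟨c', hc', rfl⟩
    refine ⟨c + c', fun j => add_mem (hc j) (hc' j), ?_⟩
    simp [mul_add, Finset.sum_add_distrib]

end Groth.Agent.Lib.Helper22
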