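import Mathlib

/-!
Helper lemmas on `LocalSubring` of a field and `LocalSubring.ofPrime` (helper22).
-/

set_option autoImplicit false

namespace Groth.Agent.Lib.Helper22

open IsLocalRing

variable {K : Type*} [Field K]

/-- `ofPrime` only depends on the ideal. -/
theorem ofPrime_congr (A : Subring K) {P P' : Ideal A} [P.IsPrime] [P'.IsPrime] (h : P = P') :
    LocalSubring.ofPrime A P = LocalSubring.ofPrime A P' := by
  subst h; rfl

/-- The trace on `A` of the maximal ideal of a local subring containing `A`. -/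
noncomputable abbrev traceIdeal (A : Subring K) (Q : LocalSubring K) (hA : A ≤ Q.toSubring) :
    Ideal A := (maximalIdeal Q.toSubring).comap (Subring.inclusion hA)

instance (A : Subring K) (Q : LocalSubring K) (hA : A ≤ Q.toSubring) :
    (traceIdeal A Q hA).IsPrime := Ideal.comap_isPrime _ _

/-- The trace of the maximal ideal of `A_P` on `A` is `P`. -/
theorem traceIdeal_ofPrime (A : Subring K) (P : Ideal A) [P.IsPrime] :
    traceIdeal A (LocalSubring.ofPrime A P) (LocalSubring.le_ofPrime A P) = P :=
  IsLocalization.AtPrime.under_maximalIdeal (LocalSubring.ofPrime A P).toSubring P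

/-- Domination does not change traces. -/
theorem traceIdeal_eq_of_le (A : Subring K) {D Q : LocalSubring K} (hDQ : D ≤ Q)
    (hA : A ≤ D.toSubring) :
    traceIdeal A D hA = traceIdeal A Q (hA.trans hDQ.1) := by
  obtain ⟨h, hloc⟩ := hDQ
  have h1 : (maximalIdeal Q.toSubring).comap (Subring.inclusion h) = maximalIdeal D.toSubring :=
    ((IsLocalRing.local_hom_TFAE (Subring.inclusion h)).out 0 4).mp hloc
  unfold traceIdeal
  rw [← h1, Ideal.comap_comap]
  rfl

/-- Transitivity of traces along an inclusion of subrings. -/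
theorem traceIdeal_comap (A C : Subring K) (hAC : A ≤ C) (Q : LocalSubring K)
    (hC : C ≤ Q.toSubring) :
    (traceIdeal C Q hC).comap (Subring.inclusion hAC) = traceIdeal A Q (hAC.trans hC) := by
  unfold traceIdeal
  rw [Ideal.comap_comap]
  rfl

/-- The localization of `A` at the trace of the maximal ideal of `Q` is dominated by `Q`. -/
theorem ofPrime_traceIdeal_le (A : Subring K) (Q : LocalSubring K) (hA : A ≤ Q.toSubring) :
    LocalSubring.ofPrime A (traceIdeal A Q hA) ≤ Q := by
  set P := traceIdeal A Q hA with hP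
  set S := (LocalSubring.ofPrime A P).toSubring with hS
  -- key: every element of `S` is `a * u⁻¹` with `u` a unit of `Q` coming from `A \ P`
  have key : ∀ x' : S, ∃ (a : A) (u : (Q.toSubring)ˣ) (s : P.primeCompl),
      x' = IsLocalization.mk' S a s ∧
      (x' : K) = ((Subring.inclusion hA a * ((u⁻¹ : (Q.toSubring)ˣ) : Q.toSubring) :
        Q.toSubring) : K) := by
    intro x'
    obtain ⟨⟨a, s⟩, h⟩ := IsLocalization.mk'_surjective P.primeCompl x'
    replace h : IsLocalization.mk' S a s = x' := h
    have hspec := IsLocalization.mk'_spec S a s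
    rw [h] at hspec
    have hsK : (x' : K) * ((s : A) : K) = (a : K) := congrArg Subtype.val hspec
    have hsu : IsUnit (Subring.inclusion hA (s : A)) := by
      have hs : (s : A) ∉ P := s.2
      exact IsLocalRing.notMem_maximalIdeal.mp hs
    obtain ⟨u, hu⟩ := hsu
    refine ⟨a, u, s, h.symm, ?_⟩
    have huK : ((u : Q.toSubring) : K) = ((s : A) : K) := congrArg Subtype.val hu
    have hinv : (((u⁻¹ : (Q.toSubring)ˣ) : Q.toSubring) : K) * ((u : Q.toSubring) : K) = 1 := by
      have h3 : ((u⁻¹ : (Q.toSubring)ˣ) : Q.toSubring) * (u : Q.toSubring) = 1 := Units.inv_mul u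
      have h4 := congrArg Subtype.val h3
      exact h4
    have hs0 : ((s : A) : K) ≠ 0 := by
      intro h0
      rw [huK, h0, mul_zero] at hinv
      exact zero_ne_one hinv
    have : (x' : K) = (a : K) * (((u⁻¹ : (Q.toSubring)ˣ) : Q.toSubring) : K) := by
      rw [← hsK, mul_assoc, ← huK, mul_comm ((u : Q.toSubring) : K), hinv, mul_one]
    rw [this]
    rfl
  have hle : S ≤ Q.toSubring := by
    intro x hx
    obtain ⟨a, u, s, -, h2⟩ := key ⟨x, hx⟩
    change x = _ at h2
    rw [h2]
    exact SetLike.coe_mem _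
  refine ⟨hle, ⟨fun x' hx' => ?_⟩⟩
  by_contra hnu
  obtain ⟨a, u, s, h1, h2⟩ := key x'
  have hmem : x' ∈ maximalIdeal S := (IsLocalRing.mem_maximalIdeal _).mpr hnu
  rw [h1, IsLocalization.AtPrime.mk'_mem_maximal_iff (S := S) (I := P)] at hmem
  have haQ : Subring.inclusion hA a ∈ maximalIdeal Q.toSubring := hmem
  have hprod : Subring.inclusion hA a * ((u⁻¹ : (Q.toSubring)ˣ) : Q.toSubring) ∈
      maximalIdeal Q.toSubring := Ideal.mul_mem_right _ _ haQ
  have heq : Subring.inclusion hle x' =
      Subring.inclusion hA a * ((u⁻¹ : (Q.toSubring)ˣ) : Q.toSubring) := Subtype.ext h2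
  rw [← heq] at hprod
  exact (IsLocalRing.mem_maximalIdeal _).mp hprod hx'

end Groth.Agent.Lib.Helper22
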