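import Mathlib
import Groth.Prelude.Def_W4c4chowquasisplitNorm
import Groth.Agent.S7446

/-!
helper22: the Chow group of zero-cycles of the spectrum of a field is `ℤ` (via the coefficient at
the point), and the pushforward from a finite extension multiplies by the degree.
-/

set_option autoImplicit false
universe u
open CategoryTheory AlgebraicGeometry

namespace Groth.Agent.Lib.Helper22.PtChow

variable (k : Type u) [Field k]

/-- the constant cycle `n` on the spectrum of a field. -/
noncomputable def constCycle (n : ℤ) : AlgebraicCycle (Spec (CommRingCat.of k)) ℤ :=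
  ⟨fun _ => n, fun _ _ => trivial, fun z _ =>
    ⟨Set.univ, Filter.univ_mem, Set.toFinite _⟩⟩

lemma constCycle_apply (n : ℤ) (x : ↥(Spec (CommRingCat.of k))) : constCycle k n x = n := rfl

lemma constCycle_mem (n : ℤ) :
    constCycle k n ∈ Cyc.Zk (Spec (CommRingCat.of k)) (fun _ => (0 : ℤ)) 0 :=
  fun _ hx => absurd rfl hx

lemma mem_zk (α : AlgebraicCycle (Spec (CommRingCat.of k)) ℤ) :
    α ∈ Cyc.Zk (Spec (CommRingCat.of k)) (fun _ => (0 : ℤ)) 0 :=
  fun _ hx => absurd rfl hx

lemma cycle_ext (α β : AlgebraicCycle (Spec (CommRingCat.of k)) ℤ)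
    (h : α default = β default) : α = β := by
  ext x
  rw [Unique.eq_default x]
  exact h

/-- the coefficient at the point, on `0`-cycles. -/
noncomputable def ev : ↥(ChowOps.zk (Spec (CommRingCat.of k)) (fun _ => (0 : ℤ)) 0) →+ ℤ where
  toFun β := β.1 default
  map_zero' := rfl
  map_add' _ _ := rfl

lemma ratTriv_eq_bot :
    ChowOps.ratTriv (Spec (CommRingCat.of k)) (fun _ => (0 : ℤ)) 0 = ⊥ := by
  unfold ChowOps.ratTriv
  rw [AddSubgroup.closure_eq_bot_iff]
  rintro a ⟨ι, ξ, f, h1, -, -, h4⟩
  rw [Set.mem_singleton_iff]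
  apply Subtype.ext
  apply cycle_ext
  have he : IsEmpty ι := ⟨fun i => by
    have h := h1 i
    simp only at h
    omega⟩
  rw [h4 default]
  show _ = (0 : AlgebraicCycle (Spec (CommRingCat.of k)) ℤ) default
  rw [finsum_of_isEmpty]
  rfl

/-- the degree isomorphism `CH_0(Spec k) → ℤ`. -/
noncomputable def deg : ChowOps.CH (Spec (CommRingCat.of k)) (fun _ => (0 : ℤ)) 0 →+ ℤ :=
  QuotientAddGroup.lift _ (ev k) (by
    intro a ha
    rw [ratTriv_eq_bot, AddSubgroup.mem_bot] at ha
    rw [ha]
    exact zero_mem _)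

lemma deg_cl (α : AlgebraicCycle (Spec (CommRingCat.of k)) ℤ)
    (h : α ∈ Cyc.Zk (Spec (CommRingCat.of k)) (fun _ => (0 : ℤ)) 0) :
    deg k (ChowOps.cl α h) = α default := rfl

lemma deg_injective : Function.Injective (deg k) := by
  rw [injective_iff_map_eq_zero]
  intro c hc
  obtain ⟨β, rfl⟩ := QuotientAddGroup.mk_surjective c
  have h0 : β = 0 := by
    apply Subtype.ext
    apply cycle_ext
    exact hc
  rw [h0]
  rfl

lemma deg_surjective : Function.Surjective (deg k) := by
  intro n
  exact ⟨ChowOps.cl (constCycle k n) (constCycle_mem k n), rfl⟩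

section push
variable {k} (F : Type u) [Field F] [Algebra k F]

lemma residueDegree_specMap' (p : Spec (CommRingCat.of F) ⟶ Spec (CommRingCat.of k))
    (hp : p = Spec.map (CommRingCat.ofHom (algebraMap k F))) (x : ↥(Spec (CommRingCat.of F))) :
    p.residueDegree x = Module.finrank k F := by
  rw [Groth.Agent.S7446.residueDegree_eq p x]
  letI : Algebra k ((Spec (CommRingCat.of F)).residueField x) :=
    (((Spec (CommRingCat.of F)).Γevaluation x).hom.comp
      ((Scheme.ΓSpecIso (CommRingCat.of k)).inv ≫ p.appTop).hom).toAlgebra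
  let j : F →+* (Spec (CommRingCat.of F)).residueField x :=
    ((Scheme.ΓSpecIso (CommRingCat.of F)).inv ≫ (Spec (CommRingCat.of F)).Γevaluation x).hom
  haveI : IsArtinianRing Γ(Spec (CommRingCat.of F), ⊤) := by
    have e : (CommRingCat.of F) ≃+* Γ(Spec (CommRingCat.of F), ⊤) :=
      (Scheme.ΓSpecIso (CommRingCat.of F)).symm.commRingCatIsoToRingEquiv
    haveI : IsArtinianRing (CommRingCat.of F) := inferInstanceAs (IsArtinianRing F)
    exact e.isArtinianRing
  have hj : Function.Bijective j := by
    refine ⟨j.injective, ?_⟩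
    have h1 := Groth.Agent.S7446.evaluation_surjective (T := Spec (CommRingCat.of F)) x
    have h2 : Function.Surjective (Scheme.ΓSpecIso (CommRingCat.of F)).inv :=
      (ConcreteCategory.bijective_of_isIso _).2
    exact h1.comp h2
  let je : F ≃+* (Spec (CommRingCat.of F)).residueField x := RingEquiv.ofBijective j hj
  refine (Algebra.finrank_eq_of_equiv_equiv (RingEquiv.refl k) je ?_).symm
  ext r
  have hn := Scheme.ΓSpecIso_inv_naturality (CommRingCat.ofHom (algebraMap k F))
  rw [← hp] at hn
  have h3 := ConcreteCategory.congr_hom hn r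
  show ((Spec (CommRingCat.of F)).Γevaluation x).hom
      (((Scheme.ΓSpecIso (CommRingCat.of k)).inv ≫ p.appTop).hom r) =
    ((Spec (CommRingCat.of F)).Γevaluation x).hom
      ((Scheme.ΓSpecIso (CommRingCat.of F)).inv.hom (algebraMap k F r))
  congr 1
  exact h3.symm

lemma residueDegree_specMap (x : ↥(Spec (CommRingCat.of F))) :
    (Spec.map (CommRingCat.ofHom (algebraMap k F))).residueDegree x = Module.finrank k F :=
  residueDegree_specMap' F _ rfl x

lemma map_push_apply (α : AlgebraicCycle (Spec (CommRingCat.of F)) ℤ) :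
    (AlgebraicCycle.map (Spec.map (CommRingCat.ofHom (algebraMap k F)))
      (fun _ => (0 : ℤ)) (fun _ => (0 : ℤ)) α) default = α default * (Module.finrank k F : ℤ) := by
  show ∑ᶠ x ∈ (Spec.map (CommRingCat.ofHom (algebraMap k F))) ⁻¹' {default},
    α x * ((AlgebraicCycle.mapCoeff (Spec.map (CommRingCat.ofHom (algebraMap k F)))
      (fun _ => (0 : ℤ)) (fun _ => (0 : ℤ)) x : ℕ) : ℤ) = _
  have hset : ((Spec.map (CommRingCat.ofHom (algebraMap k F))) ⁻¹' {default} :
      Set ↥(Spec (CommRingCat.of F))) = {default} := by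
    ext x
    simp only [Set.mem_preimage, Set.mem_singleton_iff]
    exact ⟨fun _ => Unique.eq_default x, fun _ => Unique.eq_default _⟩
  rw [hset, finsum_mem_singleton]
  unfold AlgebraicCycle.mapCoeff
  rw [if_pos rfl, residueDegree_specMap]

end push

section norm
variable (k : Type u) [Field k] (K : Type u) [Field K] [Algebra k K]

/-- the generator of the norm subgroup attached to an intermediate field. -/
lemma exists_gen (F : IntermediateField k K) [FiniteDimensional k F] (hF : F ≠ ⊥) :
    ∃ c ∈ QsChow.ptNormSubgroup k K, deg k c = (Module.finrank k F : ℤ) := by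
  refine ⟨ChowOps.cl (AlgebraicCycle.map (Spec.map (CommRingCat.ofHom (algebraMap k F)))
      (fun _ => (0 : ℤ)) (fun _ => (0 : ℤ)) (constCycle F 1)) (mem_zk k _), ?_, ?_⟩
  · apply AddSubgroup.subset_closure
    exact ⟨F, inferInstance, hF, constCycle F 1, mem_zk k _, rfl⟩
  · rw [deg_cl, map_push_apply]
    show (1 : ℤ) * _ = _
    rw [one_mul]

lemma deg_mem_of_forall (S : AddSubgroup ℤ)
    (h : ∀ F : IntermediateField k K, FiniteDimensional k F → F ≠ ⊥ →
      (Module.finrank k F : ℤ) ∈ S) :
    ∀ c ∈ QsChow.ptNormSubgroup k K, deg k c ∈ S := by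
  intro c hc
  have hle : QsChow.ptNormSubgroup k K ≤ S.comap (deg k) := by
    unfold QsChow.ptNormSubgroup
    rw [AddSubgroup.closure_le]
    rintro c ⟨F, hFd, hF, α, hα, rfl⟩
    show deg k _ ∈ S
    rw [deg_cl, map_push_apply]
    have := S.zsmul_mem (h F hFd hF) (α default)
    rwa [smul_eq_mul] at this
  exact hle hc

lemma eq_top_of_deg_one (c : ChowOps.CH (Spec (CommRingCat.of k)) (fun _ => (0 : ℤ)) 0)
    (hc : c ∈ QsChow.ptNormSubgroup k K) (h1 : deg k c = 1) :
    QsChow.ptNormSubgroup k K = ⊤ := by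
  rw [eq_top_iff]
  intro x _
  have hx : x = (deg k x) • c := by
    apply deg_injective k
    rw [map_zsmul, h1, smul_eq_mul, mul_one]
  rw [hx]
  exact AddSubgroup.zsmul_mem _ hc _

variable {k K}

lemma exists_fixed (L : IntermediateField k K) [FiniteDimensional k L] [IsGalois k L]
    (H : Subgroup (L ≃ₐ[k] L)) :
    ∃ F : IntermediateField k K, FiniteDimensional k F ∧
      Module.finrank k F * Nat.card H = Module.finrank k L := by
  let E : IntermediateField k L := IntermediateField.fixedField H
  have h1 : Module.finrank E L = Nat.card H := IntermediateField.finrank_fixedField_eq_card H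
  have h2 : Module.finrank k E * Module.finrank E L = Module.finrank k L :=
    Module.finrank_mul_finrank k E L
  let e : E ≃ₐ[k] IntermediateField.lift E := IntermediateField.liftAlgEquiv E
  have h3 : Module.finrank k (IntermediateField.lift E) = Module.finrank k E :=
    (e.toLinearEquiv.finrank_eq).symm
  refine ⟨IntermediateField.lift E, ?_, ?_⟩
  · exact Module.Finite.equiv e.toLinearEquiv
  · rw [h3, ← h1, h2]

end norm

end Groth.Agent.Lib.Helper22.PtChow
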