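import Mathlib
import Groth.Agent.Lib.Helper39.KrullAkizuki

/-!
helper22: a ring between a one-dimensional Noetherian domain `R` and a finite extension of its
fraction field is quasi-finite over `R` (via Krull–Akizuki).
-/

set_option autoImplicit false

namespace Groth.Agent.Lib.Helper22.QFBetween

open TensorProduct

section span
variable {R S : Type*} [CommRing R] [CommRing S] [Algebra R S]

/-- spanning criterion for finiteness of a fibre. -/
theorem fiber_finite (P : Ideal R) [P.IsPrime] (t : Finset S)
    (h : ∀ s : S, ∃ r : R, r ∉ P ∧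
      r • s ∈ Submodule.span R (t : Set S) ⊔ (P • ⊤ : Submodule R S)) :
    Module.Finite P.ResidueField (P.Fiber S) := by
  classical
  refine ⟨⟨t.image (fun s => (1 : P.ResidueField) ⊗ₜ[R] s), ?_⟩⟩
  rw [eq_top_iff]
  intro x _
  revert x
  have key : ∀ s : S, ((1 : P.ResidueField) ⊗ₜ[R] s : P.Fiber S) ∈
      Submodule.span P.ResidueField
        ((t.image (fun s => (1 : P.ResidueField) ⊗ₜ[R] s) : Finset (P.Fiber S)) :
          Set (P.Fiber S)) := by
    intro s
    obtain ⟨r, hr, hrs⟩ := h s
    have hr0 : algebraMap R P.ResidueField r ≠ 0 := by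
      intro h0
      exact hr (Ideal.algebraMap_residueField_eq_zero.mp h0)
    have e1 : ((1 : P.ResidueField) ⊗ₜ[R] s : P.Fiber S) =
        (algebraMap R P.ResidueField r)⁻¹ • ((1 : P.ResidueField) ⊗ₜ[R] (r • s)) := by
      rw [← TensorProduct.smul_tmul, TensorProduct.smul_tmul',
        Algebra.smul_def r (1 : P.ResidueField), mul_one, smul_eq_mul, inv_mul_cancel₀ hr0]
    rw [e1]
    refine Submodule.smul_mem _ _ ?_
    obtain ⟨a, ha, b, hb, hab⟩ := Submodule.mem_sup.mp hrs
    rw [← hab, TensorProduct.tmul_add]
    refine Submodule.add_mem _ ?_ ?_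
    · refine Submodule.span_induction (p := fun a _ => ((1 : P.ResidueField) ⊗ₜ[R] a : P.Fiber S) ∈
        Submodule.span P.ResidueField
        ((t.image (fun s => (1 : P.ResidueField) ⊗ₜ[R] s) : Finset (P.Fiber S)) :
          Set (P.Fiber S))) ?_ ?_ ?_ ?_ ha
      · intro y hy
        apply Submodule.subset_span
        rw [Finset.coe_image]
        exact ⟨y, hy, rfl⟩
      · rw [TensorProduct.tmul_zero]; exact Submodule.zero_mem _
      · intro y z _ _ hy hz
        rw [TensorProduct.tmul_add]; exact Submodule.add_mem _ hy hz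
      · intro c y _ hy
        rw [← TensorProduct.smul_tmul, Algebra.smul_def c (1 : P.ResidueField), mul_one]
        have e2 : ((algebraMap R P.ResidueField c) ⊗ₜ[R] y : P.Fiber S) =
            (algebraMap R P.ResidueField c) • ((1 : P.ResidueField) ⊗ₜ[R] y) := by
          rw [TensorProduct.smul_tmul', smul_eq_mul, mul_one]
        rw [e2]
        exact Submodule.smul_mem _ _ hy
    · have hz : ((1 : P.ResidueField) ⊗ₜ[R] b : P.Fiber S) = 0 := by
        refine Submodule.smul_induction_on hb ?_ ?_
        · intro p hp n _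
          rw [← TensorProduct.smul_tmul, Algebra.smul_def, mul_one,
            Ideal.algebraMap_residueField_eq_zero.mpr hp, TensorProduct.zero_tmul]
        · intro y z hy hz
          rw [TensorProduct.tmul_add, hy, hz, add_zero]
      rw [hz]; exact Submodule.zero_mem _
  intro x hx
  clear hx
  induction x using TensorProduct.induction_on with
  | zero => exact Submodule.zero_mem _
  | tmul c s =>
    have : (c ⊗ₜ[R] s : P.Fiber S) = c • ((1 : P.ResidueField) ⊗ₜ[R] s) := by
      rw [TensorProduct.smul_tmul', smul_eq_mul, mul_one]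
    rw [this]
    exact Submodule.smul_mem _ _ (key s)
  | add y z hy hz => exact Submodule.add_mem _ hy hz

end span

section between
variable (R : Type*) [CommRing R] [IsDomain R] [IsNoetherianRing R] [Ring.KrullDimLE 1 R]
  (K : Type*) [Field K] [Algebra R K] [IsFractionRing R K]
  {L : Type*} [Field L] [Algebra K L] [FiniteDimensional K L] [Algebra R L] [IsScalarTower R K L]
  {S : Type*} [CommRing S] [Algebra R S] [Algebra S L] [IsScalarTower R S L]

omit [IsNoetherianRing R] [Ring.KrullDimLE 1 R] in
include K in
theorem exists_finset_bot (hS : Function.Injective (algebraMap S L)) :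
    ∃ t : Finset S, ∀ s : S, ∃ r : R, r ≠ 0 ∧ r • s ∈ Submodule.span R (t : Set S) := by
  classical
  have hfg : (Submodule.span K (Set.range (algebraMap S L))).FG := IsNoetherian.noetherian _
  obtain ⟨s', hs'sub, hs'eq⟩ := (Submodule.fg_span_iff_fg_span_finset_subset _).mp hfg
  have hsub : (s' : Set L) ⊆ algebraMap S L '' Set.univ := by rwa [Set.image_univ]
  obtain ⟨t, -, ht⟩ := Finset.subset_set_image_iff.mp hsub
  refine ⟨t, fun s => ?_⟩
  have hmem : algebraMap S L s ∈ Submodule.span K (s' : Set L) := by
    rw [← hs'eq]; exact Submodule.subset_span ⟨s, rfl⟩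
  rw [← ht, Finset.coe_image] at hmem
  obtain ⟨c, hc⟩ := (Submodule.mem_span_image_finset_iff_exists_fun' K).mp hmem
  obtain ⟨b, hb⟩ := IsLocalization.exist_integer_multiples (nonZeroDivisors R) t c
  choose! d hd using hb
  refine ⟨b, nonZeroDivisors.ne_zero b.2, ?_⟩
  have key : ∀ i ∈ t, algebraMap R L (d i) = algebraMap R L b * algebraMap K L (c i) := by
    intro i hi
    rw [IsScalarTower.algebraMap_apply R K L (d i), hd i hi, Algebra.smul_def, map_mul,
      ← IsScalarTower.algebraMap_apply R K L]
  have e : (b : R) • s = ∑ i ∈ t, d i • i := by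
    apply hS
    rw [Algebra.smul_def, map_mul, ← IsScalarTower.algebraMap_apply R S L, ← hc, map_sum,
      Finset.mul_sum]
    refine Finset.sum_congr rfl fun i hi => ?_
    rw [Algebra.smul_def (d i) i, map_mul, ← IsScalarTower.algebraMap_apply R S L, key i hi,
      Algebra.smul_def (c i), mul_assoc]
  rw [e]
  exact Submodule.sum_mem _ fun i hi => Submodule.smul_mem _ _ (Submodule.subset_span hi)

include K in
theorem exists_finset_ne_bot (hS : Function.Injective (algebraMap S L)) (P : Ideal R)
    (hP : P ≠ ⊥) :
    ∃ t : Finset S, ∀ s : S,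
      s ∈ Submodule.span R (t : Set S) ⊔ (P • ⊤ : Submodule R S) := by
  classical
  have hRS : Function.Injective (algebraMap R S) := by
    intro a b hab
    have h1 : algebraMap R L a = algebraMap R L b := by
      rw [IsScalarTower.algebraMap_apply R S L, hab, ← IsScalarTower.algebraMap_apply]
    rw [IsScalarTower.algebraMap_apply R K L, IsScalarTower.algebraMap_apply R K L] at h1
    exact IsFractionRing.injective R K ((algebraMap K L).injective h1)
  have hI : P.map (algebraMap R S) ≠ ⊥ := by
    obtain ⟨p, hpP, hp0⟩ := Submodule.exists_mem_ne_zero_of_ne_bot hP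
    intro h
    have h2 : algebraMap R S p ∈ P.map (algebraMap R S) := Ideal.mem_map_of_mem _ hpP
    rw [h, Ideal.mem_bot] at h2
    exact hp0 (hRS (h2.trans (map_zero _).symm))
  have hlen := Groth.Agent.Lib.Helper39.KA.length_quotient_ideal_ne_top R K hS _ hI
  rw [Module.length_ne_top_iff, isFiniteLength_iff_isNoetherian_isArtinian] at hlen
  haveI := hlen.1
  obtain ⟨u, hu⟩ := (Module.Finite.fg_top : (⊤ : Submodule R (S ⧸ P.map (algebraMap R S))).FG)
  let mkl : S →ₗ[R] S ⧸ P.map (algebraMap R S) :=
    (Ideal.Quotient.mkₐ R (P.map (algebraMap R S))).toLinearMap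
  have hsub : (u : Set (S ⧸ P.map (algebraMap R S))) ⊆ mkl '' Set.univ := by
    intro z _
    obtain ⟨a, rfl⟩ := Ideal.Quotient.mk_surjective z
    exact ⟨a, trivial, rfl⟩
  obtain ⟨t, -, ht⟩ := Finset.subset_set_image_iff.mp hsub
  refine ⟨t, fun s => ?_⟩
  have hmem : mkl s ∈ Submodule.span R (u : Set (S ⧸ P.map (algebraMap R S))) := by
    rw [hu]; trivial
  rw [← ht, Finset.coe_image, ← Submodule.map_span] at hmem
  obtain ⟨a, ha, has⟩ := hmem
  have hd : s - a ∈ P.map (algebraMap R S) := by
    rw [← Ideal.Quotient.eq]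
    exact has.symm
  have : s = a + (s - a) := by ring
  rw [this]
  refine Submodule.add_mem_sup ha ?_
  rw [Ideal.smul_top_eq_map]
  exact hd

include K in
/-- a ring between a one-dimensional Noetherian domain and a finite extension of its fraction
field is quasi-finite over it. -/
theorem quasiFinite_of_between (hS : Function.Injective (algebraMap S L)) :
    Algebra.QuasiFinite R S := by
  refine ⟨fun P hP => ?_⟩
  by_cases hP0 : P = ⊥
  · obtain ⟨t, ht⟩ := exists_finset_bot R K hS
    refine fiber_finite P t fun s => ?_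
    obtain ⟨r, hr, hrs⟩ := ht s
    refine ⟨r, ?_, Submodule.mem_sup_left hrs⟩
    rw [hP0, Ideal.mem_bot]
    exact hr
  · obtain ⟨t, ht⟩ := exists_finset_ne_bot R K hS P hP0
    refine fiber_finite P t fun s => ⟨1, ?_, ?_⟩
    · exact fun h => hP.ne_top ((Ideal.eq_top_iff_one _).mpr h)
    · rw [one_smul]; exact ht s

end between

end Groth.Agent.Lib.Helper22.QFBetween
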