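import Mathlib

/-!
helper22: for a locally quasi-finite morphism `f`, at every point `x` the fibre ring
`O_x / m_{f x} O_x` has finite length and the residue field extension is finite.
-/

set_option autoImplicit false
universe u
open CategoryTheory AlgebraicGeometry IsLocalRing TensorProduct

namespace Groth.Agent.Lib.Helper22.QFStalk

section alg

theorem finite_of_quasiFinite {A B : Type u} [CommRing A] [CommRing B] [IsLocalRing A]
    [IsLocalRing B] [Algebra A B] [IsLocalHom (algebraMap A B)] [Algebra.QuasiFinite A B] :
    Module.length B (B ⧸ (maximalIdeal A).map (algebraMap A B)) ≠ ⊤ ∧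
      Module.length (ResidueField A) (ResidueField B) ≠ ⊤ := by
  let m := maximalIdeal A
  let k := m.ResidueField
  let F := m.Fiber B
  haveI : Module.Finite k F := inferInstance
  have h2 : Module.length k F ≠ ⊤ := by
    rw [Module.length_eq_finrank]
    exact ENat.coe_ne_top _
  have h3 : Module.length A F = Module.length k F :=
    Module.length_eq_of_surjective (S := A) (R := k) (M := F) m.algebraMap_residueField_surjective
  -- `F ≃ B ⧸ m B` over `A`
  let e0 : (A ⧸ m) ≃ₗ[A] k :=
    LinearEquiv.ofBijective (IsScalarTower.toAlgHom A (A ⧸ m) k).toLinearMap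
      m.bijective_algebraMap_quotient_residueField
  let e1 : ((A ⧸ m) ⊗[A] B) ≃ₗ[A] F := TensorProduct.congr e0 (LinearEquiv.refl A B)
  have e2 : ((A ⧸ m) ⊗[A] B) ≃ₗ[A] B ⧸ (m • (⊤ : Submodule A B)) :=
    TensorProduct.quotTensorEquivQuotSMul B m
  have hsm : m • (⊤ : Submodule A B) = (m.map (algebraMap A B)).restrictScalars A :=
    Ideal.smul_top_eq_map m
  have e3 : (B ⧸ (m • (⊤ : Submodule A B))) ≃ₗ[A] B ⧸ (m.map (algebraMap A B)) :=
    (Submodule.quotEquivOfEq _ _ hsm).trans
      (Submodule.Quotient.restrictScalarsEquiv A (m.map (algebraMap A B)))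
  have h4 : Module.length A (B ⧸ (m.map (algebraMap A B))) ≠ ⊤ := by
    rw [← (e1.symm.trans (e2.trans e3)).length_eq, h3]
    exact h2
  have h5 := IsLocalRing.length_restrictScalars A B (B ⧸ (m.map (algebraMap A B)))
  have h6 : Module.length B (B ⧸ (m.map (algebraMap A B))) ≠ 0 := by
    simpa [← pos_iff_ne_zero, Module.length_pos_iff] using
      (map_maximalIdeal_lt_top (algebraMap A B)).ne
  have h7 : Module.length (ResidueField A) (ResidueField B) ≠ 0 := by
    rw [← pos_iff_ne_zero, Module.length_pos_iff]
    infer_instance
  constructor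
  · intro h
    rw [h, ENat.top_mul h7] at h5
    exact h4 h5
  · intro h
    rw [h, ENat.mul_top h6] at h5
    exact h4 h5

theorem quasiFinite_localRingHom {R S : Type u} [CommRing R] [CommRing S] (f : R →+* S)
    (hf : f.QuasiFinite) (J : Ideal S) [J.IsPrime] :
    (Localization.localRingHom (J.comap f) J f rfl).QuasiFinite := by
  algebraize [f]
  letI : Algebra (Localization.AtPrime (J.comap (algebraMap R S))) (Localization.AtPrime J) :=
    (Localization.localRingHom (J.comap (algebraMap R S)) J (algebraMap R S) rfl).toAlgebra
  haveI : IsScalarTower R (Localization.AtPrime (J.comap (algebraMap R S)))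
      (Localization.AtPrime J) := by
    refine IsScalarTower.of_algebraMap_eq' ?_
    ext r
    show algebraMap R (Localization.AtPrime J) r =
      Localization.localRingHom _ J (algebraMap R S) rfl (algebraMap R _ r)
    rw [Localization.localRingHom_to_map]
    exact IsScalarTower.algebraMap_apply R S (Localization.AtPrime J) r
  haveI : Algebra.QuasiFinite R (Localization.AtPrime J) := inferInstance
  have : Algebra.QuasiFinite (Localization.AtPrime (J.comap (algebraMap R S)))
      (Localization.AtPrime J) :=
    Algebra.QuasiFinite.of_restrictScalars R _ _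
  exact this

end alg

section geo
variable {X Y : Scheme.{u}} (f : X ⟶ Y)

lemma stalkMap_quasiFinite [LocallyQuasiFinite f] (x : X) : (f.stalkMap x).hom.QuasiFinite :=
  HasRingHomProperty.stalkMap (P := @LocallyQuasiFinite)
    (fun f hf J hJ => by
      haveI := hJ
      exact quasiFinite_localRingHom f hf J) inferInstance x

theorem stalk_finite [LocallyQuasiFinite f] (x : X) :
    Module.length (X.presheaf.stalk x) (X.presheaf.stalk x ⧸
        Ideal.map (f.stalkMap x).hom (maximalIdeal (Y.presheaf.stalk (f x)))) ≠ ⊤ ∧
      (letI := (f.residueFieldMap x).hom.toAlgebra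
       Module.Finite (Y.residueField (f x)) (X.residueField x)) := by
  have hq := stalkMap_quasiFinite f x
  algebraize [(f.stalkMap x).hom]
  haveI : IsLocalHom (algebraMap (Y.presheaf.stalk (f x)) (X.presheaf.stalk x)) :=
    inferInstanceAs <| IsLocalHom (f.stalkMap x).hom
  obtain ⟨h1, h2⟩ := finite_of_quasiFinite (A := Y.presheaf.stalk (f x)) (B := X.presheaf.stalk x)
  refine ⟨h1, ?_⟩
  have h3 : Module.Finite (ResidueField (Y.presheaf.stalk (f x)))
      (ResidueField (X.presheaf.stalk x)) := by
    have := (isFiniteLength_iff_isNoetherian_isArtinian.mp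
      ((Module.length_ne_top_iff (R := ResidueField (Y.presheaf.stalk (f x)))
        (M := ResidueField (X.presheaf.stalk x))).mp h2)).1
    infer_instance
  convert! h3
  refine Module.ext' _ _ fun r m ↦ ?_
  obtain ⟨r, rfl⟩ := IsLocalRing.residue_surjective r
  obtain ⟨m, rfl⟩ := IsLocalRing.residue_surjective m
  rfl

end geo

end Groth.Agent.Lib.Helper22.QFStalk
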