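import Mathlib
import Groth.Prelude.Def_GSzCSA
import Groth.Agent.Lib.Helper59.RedNorm
import Groth.Agent.Lib.Helper22.CSASplit2

/-!
# Reduced characteristic polynomial, reduced norm and trace (part A)

* `charpoly_pi_pow` : the characteristic polynomial of `n` copies of `g` is `g.charpoly ^ n`.
* `charpoly_mulLeft_matrix` : left multiplication by `X` on `M_n(K)` has charpoly `X.charpoly ^ n`.
* `monic_pow_inj` : monic `n`-th roots of polynomials over a field are unique.
* `charpoly_pow_eq` : for a splitting `φ : K ⊗ A ≃ M_n(K)`, `(φ (1 ⊗ a)).charpoly ^ n` is the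
  (base change of the) characteristic polynomial of left multiplication by `a` on `A`.
* `charpoly_mulLeft_algHom` : left multiplication by `ι x`, `ι : K → A` a subfield.
* `charpoly_map_eq` : independence of the splitting (in a common extension).
* `charpoly_eq_of_subfield` : reduced charpoly of an element of a subfield of degree `deg A`.
-/

set_option autoImplicit false
set_option linter.style.haveILetI false

namespace Groth.Agent.Lib.Helper22.RedNorm

open TensorProduct Polynomial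

universe u v w

section pi

variable {R : Type*} [Field R] {W : Type*} [AddCommGroup W] [Module R W] [FiniteDimensional R W]

theorem charpoly_pi_pow (g : W →ₗ[R] W) (n : ℕ) :
    (LinearMap.pi (fun i : Fin n => g ∘ₗ LinearMap.proj i) :
      (Fin n → W) →ₗ[R] (Fin n → W)).charpoly = g.charpoly ^ n := by
  induction n with
  | zero =>
    rw [pow_zero]
    apply Polynomial.eq_one_of_monic_natDegree_zero (LinearMap.charpoly_monic _)
    rw [LinearMap.charpoly_natDegree]
    exact Module.finrank_zero_of_subsingleton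
  | succ n ih =>
    have h : (LinearMap.pi (fun i : Fin (n + 1) => g ∘ₗ LinearMap.proj i) :
        (Fin (n + 1) → W) →ₗ[R] (Fin (n + 1) → W)) =
        (Fin.consLinearEquiv R (fun _ : Fin (n + 1) => W)).conj
          (g.prodMap (LinearMap.pi (fun i : Fin n => g ∘ₗ LinearMap.proj i))) := by
      refine LinearMap.ext fun v => funext fun j => ?_
      rw [LinearEquiv.conj_apply]
      refine Fin.cases ?_ (fun i => ?_) j
      · simp [Fin.consLinearEquiv, Fin.consEquiv]
      · simp [Fin.consLinearEquiv, Fin.consEquiv, Fin.tail]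
    rw [h, LinearEquiv.charpoly_conj, LinearMap.charpoly_prodMap, ih, pow_succ']

end pi

section matrix

variable (K : Type*) [Field K] (n : ℕ)

theorem charpoly_mulLeft_matrix (X : Matrix (Fin n) (Fin n) K) :
    (LinearMap.mulLeft K X).charpoly = X.charpoly ^ n := by
  rw [← LinearMap.charpoly_toMatrix _ (Matrix.stdBasis K (Fin n) (Fin n)),
    Groth.Agent.Lib.Helper59.RedNorm.toMatrix_mulLeft]
  have h : (Matrix.kroneckerMap (· * ·) X (1 : Matrix (Fin n) (Fin n) K)).charmatrix =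
      Matrix.kroneckerMap (· * ·) X.charmatrix (1 : Matrix (Fin n) (Fin n) K[X]) := by
    ext ⟨i, j⟩ ⟨i', j'⟩
    simp only [Matrix.charmatrix_apply, Matrix.kroneckerMap_apply, Matrix.diagonal_apply,
      Matrix.one_apply, Prod.mk.injEq]
    by_cases hi : i = i' <;> by_cases hj : j = j' <;> simp [hi, hj]
  rw [Matrix.charpoly, h, Matrix.det_kronecker]
  simp [Matrix.charpoly]

end matrix

theorem monic_pow_inj {F : Type*} [Field F] {f g : F[X]} (hf : f.Monic) (hg : g.Monic) {n : ℕ}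
    (hn : n ≠ 0) (h : f ^ n = g ^ n) : f = g := by
  have h1 : f ∣ g := (UniqueFactorizationMonoid.pow_dvd_pow_iff_dvd hn).mp (dvd_of_eq h)
  have h2 : g ∣ f := (UniqueFactorizationMonoid.pow_dvd_pow_iff_dvd hn).mp (dvd_of_eq h.symm)
  exact Polynomial.eq_of_monic_of_associated hf hg (associated_of_dvd_dvd h1 h2)

section splitting

variable {k : Type u} [Field k] {A : Type v} [Ring A] [Algebra k A] [FiniteDimensional k A]

theorem charpoly_pow_eq {K : Type w} [Field K] [Algebra k K] {n : ℕ}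
    (φ : K ⊗[k] A ≃ₐ[K] Matrix (Fin n) (Fin n) K) (a : A) :
    (φ ((1 : K) ⊗ₜ[k] a)).charpoly ^ n =
      ((LinearMap.mulLeft k a).charpoly).map (algebraMap k K) := by
  rw [← charpoly_mulLeft_matrix, ← LinearMap.charpoly_baseChange,
    Groth.Agent.Lib.Helper59.RedNorm.baseChange_mulLeft]
  have h : LinearMap.mulLeft K (φ ((1 : K) ⊗ₜ[k] a)) =
      φ.toLinearEquiv.conj (LinearMap.mulLeft K ((1 : K) ⊗ₜ[k] a)) := by
    refine LinearMap.ext fun y => ?_
    simp [LinearEquiv.conj_apply]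
  rw [h, LinearEquiv.charpoly_conj]

theorem charpoly_mulLeft_algHom {K : Type w} [Field K] [Algebra k K] [FiniteDimensional k K]
    (ι : K →ₐ[k] A) :
    ∃ f : ℕ, Module.finrank k K * f = Module.finrank k A ∧ ∀ x : K,
      (LinearMap.mulLeft k (ι x)).charpoly = (LinearMap.mulLeft k x).charpoly ^ f := by
  letI : Module K A := Module.compHom A (ι : K →+* A)
  haveI : IsScalarTower k K A := ⟨fun c x a => by
    show ι (c • x) * a = c • (ι x * a)
    rw [map_smul, smul_mul_assoc]⟩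
  haveI : Module.Finite K A := Module.Finite.of_restrictScalars_finite k K A
  refine ⟨Module.finrank K A, Module.finrank_mul_finrank k K A, fun x => ?_⟩
  let b := Module.finBasis K A
  let e : A ≃ₗ[k] (Fin (Module.finrank K A) → K) := b.equivFun.restrictScalars k
  have h : LinearMap.mulLeft k (ι x) = e.symm.conj
      (LinearMap.pi (fun i => (LinearMap.mulLeft k x) ∘ₗ LinearMap.proj i)) := by
    refine LinearMap.ext fun a => ?_
    rw [LinearEquiv.conj_apply]
    apply e.injective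
    funext i
    simp only [LinearMap.comp_apply, LinearEquiv.coe_coe, LinearEquiv.symm_symm,
      LinearEquiv.apply_symm_apply, LinearMap.pi_apply, LinearMap.proj_apply,
      LinearMap.mulLeft_apply]
    show b.equivFun (x • a) i = x * b.equivFun a i
    rw [map_smul]
    rfl
  rw [h, LinearEquiv.charpoly_conj, charpoly_pi_pow]

variable [Nontrivial A]

theorem charpoly_map_eq {K₁ : Type*} {K₂ : Type*} {Ω : Type*} [Field K₁] [Field K₂] [Field Ω]
    [Algebra k K₁] [Algebra k K₂] [Algebra k Ω] (i₁ : K₁ →ₐ[k] Ω) (i₂ : K₂ →ₐ[k] Ω) {n₁ n₂ : ℕ}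
    (φ₁ : K₁ ⊗[k] A ≃ₐ[K₁] Matrix (Fin n₁) (Fin n₁) K₁)
    (φ₂ : K₂ ⊗[k] A ≃ₐ[K₂] Matrix (Fin n₂) (Fin n₂) K₂) (a : A) :
    n₁ = n₂ ∧ (φ₁ ((1 : K₁) ⊗ₜ[k] a)).charpoly.map (i₁ : K₁ →+* Ω) =
      (φ₂ ((1 : K₂) ⊗ₜ[k] a)).charpoly.map (i₂ : K₂ →+* Ω) := by
  have h1 : Module.finrank k A = n₁ * n₁ := Groth.Agent.Lib.Helper22.CSASplit.finrank_eq_of_splits φ₁
  have h2 : Module.finrank k A = n₂ * n₂ := Groth.Agent.Lib.Helper22.CSASplit.finrank_eq_of_splits φ₂
  have hpos : 0 < Module.finrank k A := Module.finrank_pos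
  have hn : n₁ = n₂ := by
    have : n₁ * n₁ = n₂ * n₂ := h1.symm.trans h2
    exact Nat.mul_self_inj.mp this
  subst hn
  refine ⟨rfl, ?_⟩
  have hn0 : n₁ ≠ 0 := by
    rintro rfl
    simp at h1
    omega
  apply monic_pow_inj ((Matrix.charpoly_monic _).map _) ((Matrix.charpoly_monic _).map _) hn0
  rw [← Polynomial.map_pow, ← Polynomial.map_pow, charpoly_pow_eq, charpoly_pow_eq,
    Polynomial.map_map, Polynomial.map_map]
  congr 1
  · rw [show ((i₁ : K₁ →+* Ω).comp (algebraMap k K₁)) = algebraMap k Ω from i₁.comp_algebraMap]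
    rw [show ((i₂ : K₂ →+* Ω).comp (algebraMap k K₂)) = algebraMap k Ω from i₂.comp_algebraMap]

theorem det_map_eq {K₁ : Type*} {K₂ : Type*} {Ω : Type*} [Field K₁] [Field K₂] [Field Ω]
    [Algebra k K₁] [Algebra k K₂] [Algebra k Ω] (i₁ : K₁ →ₐ[k] Ω) (i₂ : K₂ →ₐ[k] Ω) {n₁ n₂ : ℕ}
    (φ₁ : K₁ ⊗[k] A ≃ₐ[K₁] Matrix (Fin n₁) (Fin n₁) K₁)
    (φ₂ : K₂ ⊗[k] A ≃ₐ[K₂] Matrix (Fin n₂) (Fin n₂) K₂) (a : A) :
    i₁ (φ₁ ((1 : K₁) ⊗ₜ[k] a)).det = i₂ (φ₂ ((1 : K₂) ⊗ₜ[k] a)).det := by
  obtain ⟨hn, h⟩ := charpoly_map_eq i₁ i₂ φ₁ φ₂ a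
  subst hn
  rw [Matrix.det_eq_sign_charpoly_coeff, Matrix.det_eq_sign_charpoly_coeff, map_mul, map_mul,
    map_pow, map_pow, map_neg, map_neg, map_one, map_one]
  congr 1
  have := congrArg (fun p => p.coeff 0) h
  simpa [Polynomial.coeff_map] using this

theorem trace_map_eq {K₁ : Type*} {K₂ : Type*} {Ω : Type*} [Field K₁] [Field K₂] [Field Ω]
    [Algebra k K₁] [Algebra k K₂] [Algebra k Ω] (i₁ : K₁ →ₐ[k] Ω) (i₂ : K₂ →ₐ[k] Ω) {n₁ n₂ : ℕ}
    (φ₁ : K₁ ⊗[k] A ≃ₐ[K₁] Matrix (Fin n₁) (Fin n₁) K₁)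
    (φ₂ : K₂ ⊗[k] A ≃ₐ[K₂] Matrix (Fin n₂) (Fin n₂) K₂) (a : A) :
    i₁ (φ₁ ((1 : K₁) ⊗ₜ[k] a)).trace = i₂ (φ₂ ((1 : K₂) ⊗ₜ[k] a)).trace := by
  obtain ⟨hn, h⟩ := charpoly_map_eq i₁ i₂ φ₁ φ₂ a
  subst hn
  have h1 : Module.finrank k A = n₁ * n₁ := Groth.Agent.Lib.Helper22.CSASplit.finrank_eq_of_splits φ₁
  have hpos : 0 < Module.finrank k A := Module.finrank_pos
  haveI : Nonempty (Fin n₁) := by
    rcases Nat.eq_zero_or_pos n₁ with h0 | h0
    · subst h0; simp at h1; omega
    · exact ⟨⟨0, h0⟩⟩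
  rw [Matrix.trace_eq_neg_charpoly_coeff, Matrix.trace_eq_neg_charpoly_coeff, map_neg, map_neg]
  congr 1
  have := congrArg (fun p => p.coeff (Fintype.card (Fin n₁) - 1)) h
  simpa [Polynomial.coeff_map] using this

/-- Reduced characteristic polynomial on a subfield of maximal degree. -/
theorem charpoly_eq_of_subfield {K' : Type*} [Field K'] [Algebra k K'] {n : ℕ}
    (φ : K' ⊗[k] A ≃ₐ[K'] Matrix (Fin n) (Fin n) K')
    {K : Type w} [Field K] [Algebra k K] [FiniteDimensional k K] (ι : K →ₐ[k] A)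
    (hK : Module.finrank k A = Module.finrank k K ^ 2) (x : K) :
    (φ ((1 : K') ⊗ₜ[k] ι x)).charpoly =
      ((LinearMap.mulLeft k x).charpoly).map (algebraMap k K') := by
  have h1 : Module.finrank k A = n * n := Groth.Agent.Lib.Helper22.CSASplit.finrank_eq_of_splits φ
  have hpos : 0 < Module.finrank k A := Module.finrank_pos
  have hm : Module.finrank k K = n := by
    have : Module.finrank k K * Module.finrank k K = n * n := by rw [← h1, hK, sq]
    exact Nat.mul_self_inj.mp this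
  have hn0 : n ≠ 0 := by
    rintro rfl
    simp at h1
    omega
  obtain ⟨f, hf, hx⟩ := charpoly_mulLeft_algHom ι
  have hfn : f = n := by
    rw [hm, h1] at hf
    exact Nat.eq_of_mul_eq_mul_left (Nat.pos_of_ne_zero hn0) hf
  subst hfn
  apply monic_pow_inj (Matrix.charpoly_monic _) ((LinearMap.charpoly_monic _).map _) hn0
  rw [charpoly_pow_eq, hx, Polynomial.map_pow]

end splitting

end Groth.Agent.Lib.Helper22.RedNorm
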