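import Mathlib
import Groth.Prelude.Def_GSzCSA
import Groth.Agent.Lib.Helper22.RedNormA
import Groth.Agent.Lib.Helper22.GaussDiv
import Groth.Agent.Lib.Helper22.CSASplit
import Groth.Agent.Lib.Helper52.CSAWedderburn

/-!
# Reduced norm (part B): the canonical `AlgebraicClosure k`-valued reduced norm `nrd`

* `nrd k A a` : determinant of the image of `1 ⊗ a` under a chosen splitting over the algebraic
  closure; `nrd_eq_of_splitting` shows it is computed by any splitting; `nrd_of_isRedNorm`.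
* `nrd_matrix_tv`, `nrd_matrix_diagonal` : reduced norm on `M_r(X)`.
* `normSet k A` : the set of reduced norms of units; `normSet_matrix` (Gaussian elimination),
  `normSet_eq_of_brauer`.
-/

set_option autoImplicit false
set_option linter.style.haveILetI false

namespace Groth.Agent.Lib.Helper22.RedNorm

open TensorProduct Polynomial

universe u v w

theorem isCentral_of_algEquiv' (k : Type u) [Field k] {A : Type v} {B : Type w} [Ring A]
    [Algebra k A] [Ring B] [Algebra k B] (e : A ≃ₐ[k] B) [Algebra.IsCentral k A] :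
    Algebra.IsCentral k B := by
  constructor
  intro x hx
  have h : e.symm x ∈ Subalgebra.center k A := by
    rw [Subalgebra.mem_center_iff] at hx ⊢
    intro a
    apply e.injective
    rw [map_mul, map_mul, e.apply_symm_apply]
    exact hx (e a)
  obtain ⟨c, hc⟩ := Algebra.mem_bot.mp (Algebra.IsCentral.out h)
  refine Algebra.mem_bot.mpr ⟨c, ?_⟩
  rw [← e.commutes, hc, e.apply_symm_apply]

theorem isCentral_of_matrix (k : Type u) [Field k] (D : Type v) [Ring D] [Algebra k D] (r : ℕ)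
    [NeZero r] [Algebra.IsCentral k (Matrix (Fin r) (Fin r) D)] : Algebra.IsCentral k D := by
  constructor
  intro z hz
  rw [Subalgebra.mem_center_iff] at hz
  have h : Matrix.scalar (Fin r) z ∈ Subalgebra.center k (Matrix (Fin r) (Fin r) D) := by
    rw [Subalgebra.mem_center_iff]
    intro M
    exact ((Matrix.scalar_commute z (fun r' => (hz r').symm) M).eq).symm
  obtain ⟨c, hc⟩ := Algebra.mem_bot.mp (Algebra.IsCentral.out h)
  refine Algebra.mem_bot.mpr ⟨c, ?_⟩
  have := congrFun (congrFun hc 0) 0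
  simpa [Matrix.algebraMap_matrix_apply] using this

section nrd

variable (k : Type u) [Field k] (A : Type v) [Ring A] [Algebra k A] [Algebra.IsCentral k A]
  [IsSimpleRing A] [FiniteDimensional k A]

/-- degree of `A` -/
noncomputable def sdeg : ℕ :=
  (Groth.Agent.Lib.Helper22.CSASplit.splits_of_isSepClosed k A (AlgebraicClosure k)).choose

/-- a chosen splitting over the algebraic closure -/
noncomputable def siso : AlgebraicClosure k ⊗[k] A ≃ₐ[AlgebraicClosure k]
    Matrix (Fin (sdeg k A)) (Fin (sdeg k A)) (AlgebraicClosure k) :=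
  (Groth.Agent.Lib.Helper22.CSASplit.splits_of_isSepClosed k A
    (AlgebraicClosure k)).choose_spec.2.some

/-- the reduced norm with values in the algebraic closure -/
noncomputable def nrd (a : A) : AlgebraicClosure k :=
  (siso k A ((1 : AlgebraicClosure k) ⊗ₜ[k] a)).det

theorem finrank_eq_sdeg : Module.finrank k A = sdeg k A * sdeg k A :=
  Groth.Agent.Lib.Helper22.CSASplit.finrank_eq_of_splits (siso k A)

theorem nrd_one : nrd k A 1 = 1 := by
  unfold nrd
  rw [← Algebra.TensorProduct.one_def, map_one, Matrix.det_one]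

theorem nrd_mul (a b : A) : nrd k A (a * b) = nrd k A a * nrd k A b := by
  unfold nrd
  rw [show (1 : AlgebraicClosure k) ⊗ₜ[k] (a * b) =
    ((1 : AlgebraicClosure k) ⊗ₜ[k] a) * ((1 : AlgebraicClosure k) ⊗ₜ[k] b) by
      rw [Algebra.TensorProduct.tmul_mul_tmul, one_mul], map_mul, Matrix.det_mul]

theorem nrd_eq_of_splitting {K : Type*} [Field K] [Algebra k K]
    (i : K →ₐ[k] AlgebraicClosure k) {n : ℕ}
    (φ : K ⊗[k] A ≃ₐ[K] Matrix (Fin n) (Fin n) K) (a : A) :
    nrd k A a = i (φ ((1 : K) ⊗ₜ[k] a)).det := by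
  have := det_map_eq (AlgHom.id k (AlgebraicClosure k)) i (siso k A) φ a
  simpa [nrd] using this

theorem nrd_of_isRedNorm {N : A →* k} (hN : CSAGal.IsRedNorm k A N) (a : A) :
    algebraMap k (AlgebraicClosure k) (N a) = nrd k A a := by
  obtain ⟨K, _, _, hfin, n, φ, hφ⟩ := hN
  haveI : Module.Finite k K := hfin
  haveI : Algebra.IsAlgebraic k K := Algebra.IsAlgebraic.of_finite k K
  let i : K →ₐ[k] AlgebraicClosure k := IsAlgClosed.lift
  rw [nrd_eq_of_splitting k A i φ a, ← hφ, AlgHom.commutes]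

theorem nrd_algEquiv {B : Type w} [Ring B] [Algebra k B] [Algebra.IsCentral k B]
    [IsSimpleRing B] [FiniteDimensional k B] (e : A ≃ₐ[k] B) (a : A) :
    nrd k B (e a) = nrd k A a := by
  let φ : AlgebraicClosure k ⊗[k] A ≃ₐ[AlgebraicClosure k]
      Matrix (Fin (sdeg k B)) (Fin (sdeg k B)) (AlgebraicClosure k) :=
    (Algebra.TensorProduct.congr AlgEquiv.refl e).trans (siso k B)
  rw [nrd_eq_of_splitting k A (AlgHom.id k _) φ a]
  simp [φ, nrd]

theorem exists_splitting_of_algHom {K : Type w} [Field K] [Algebra k K] {ι : Type*} [Fintype ι]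
    [DecidableEq ι] (hdim : Module.finrank k A = Fintype.card ι * Fintype.card ι)
    (ρ : A →ₐ[k] Matrix ι ι K) :
    ∃ φ : K ⊗[k] A ≃ₐ[K] Matrix (Fin (Fintype.card ι)) (Fin (Fintype.card ι)) K,
      ∀ a, (φ ((1 : K) ⊗ₜ[k] a)).det = (ρ a).det := by
  have hpos : 0 < Module.finrank k A := Module.finrank_pos
  haveI : Nonempty ι := by
    rcases isEmpty_or_nonempty ι with h | h
    · rw [Fintype.card_eq_zero] at hdim; omega
    · exact h
  let Ψ : K ⊗[k] A →ₐ[K] Matrix ι ι K :=
    Algebra.TensorProduct.lift (Algebra.ofId K _) ρ (fun x y => Algebra.commutes x _)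
  haveI := Groth.Agent.Lib.Helper59.CSA.isSimpleRing_baseChange k A K
  have hinj : Function.Injective Ψ := RingHom.injective Ψ.toRingHom
  have hdim' : Module.finrank K (K ⊗[k] A) = Module.finrank K (Matrix ι ι K) := by
    rw [Module.finrank_baseChange, hdim, Module.finrank_matrix]
    simp
  have hsurj : Function.Surjective Ψ :=
    (LinearMap.injective_iff_surjective_of_finrank_eq_finrank (f := Ψ.toLinearMap) hdim').mp hinj
  let φ₀ : K ⊗[k] A ≃ₐ[K] Matrix ι ι K := AlgEquiv.ofBijective Ψ ⟨hinj, hsurj⟩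
  refine ⟨φ₀.trans (Matrix.reindexAlgEquiv K K (Fintype.equivFin ι)), fun a => ?_⟩
  rw [AlgEquiv.trans_apply, Matrix.det_reindexAlgEquiv]
  congr 1
  show Ψ ((1 : K) ⊗ₜ[k] a) = ρ a
  simp [Ψ]

theorem nrd_eq_det_of_algHom {ι : Type*} [Fintype ι] [DecidableEq ι]
    (hdim : Module.finrank k A = Fintype.card ι * Fintype.card ι)
    (ρ : A →ₐ[k] Matrix ι ι (AlgebraicClosure k)) (a : A) : nrd k A a = (ρ a).det := by
  obtain ⟨φ, hφ⟩ := exists_splitting_of_algHom k A hdim ρ
  rw [nrd_eq_of_splitting k A (AlgHom.id k _) φ a, hφ]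
  rfl

/-- the set of reduced norms of units -/
def normSet : Set (AlgebraicClosure k) := {ω | ∃ a : A, IsUnit a ∧ nrd k A a = ω}

theorem normSet_algEquiv {B : Type w} [Ring B] [Algebra k B] [Algebra.IsCentral k B]
    [IsSimpleRing B] [FiniteDimensional k B] (e : A ≃ₐ[k] B) : normSet k A = normSet k B := by
  ext ω
  constructor
  · rintro ⟨a, ha, rfl⟩
    exact ⟨e a, ha.map e, nrd_algEquiv k A e a⟩
  · rintro ⟨b, hb, rfl⟩
    refine ⟨e.symm b, hb.map e.symm, ?_⟩
    rw [← nrd_algEquiv k A e, e.apply_symm_apply]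

theorem mem_range_iff {N : A →* k} (hN : CSAGal.IsRedNorm k A N) (c : kˣ) :
    c ∈ (Units.map N).range ↔ algebraMap k (AlgebraicClosure k) (c : k) ∈ normSet k A := by
  constructor
  · rintro ⟨u, rfl⟩
    exact ⟨(u : A), u.isUnit, by rw [← nrd_of_isRedNorm k A hN]; rfl⟩
  · rintro ⟨a, ha, h⟩
    obtain ⟨u, rfl⟩ := ha
    refine ⟨u, Units.ext ?_⟩
    apply (algebraMap k (AlgebraicClosure k)).injective
    rw [← h, ← nrd_of_isRedNorm k A hN]
    rfl

end nrd

section matrixnrd

variable (k : Type u) [Field k] (X : Type v) [Ring X] [Algebra k X] [Algebra.IsCentral k X]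
  [IsSimpleRing X] [FiniteDimensional k X] (r : ℕ) [NeZero r]

/-- `x ↦ siso (1 ⊗ x)` -/
noncomputable def psi0 :
    X →ₐ[k] Matrix (Fin (sdeg k X)) (Fin (sdeg k X)) (AlgebraicClosure k) :=
  ((siso k X).toAlgHom.restrictScalars k).comp Algebra.TensorProduct.includeRight

theorem psi0_det (x : X) : (psi0 k X x).det = nrd k X x := rfl

/-- blockwise splitting of the matrix algebra -/
noncomputable def theta : Matrix (Fin r) (Fin r) X →ₐ[k]
    Matrix (Fin r × Fin (sdeg k X)) (Fin r × Fin (sdeg k X)) (AlgebraicClosure k) :=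
  (Matrix.compAlgEquiv (Fin r) (Fin (sdeg k X)) (AlgebraicClosure k) k).toAlgHom.comp
    (psi0 k X).mapMatrix

theorem nrd_matrix (g : Matrix (Fin r) (Fin r) X) :
    nrd k (Matrix (Fin r) (Fin r) X) g = (theta k X r g).det := by
  apply nrd_eq_det_of_algHom
  rw [Module.finrank_matrix, finrank_eq_sdeg k X]
  simp only [Fintype.card_prod, Fintype.card_fin]
  ring

theorem nrd_matrix_tv (i j : Fin r) (c : X) (h : i ≠ j) :
    nrd k (Matrix (Fin r) (Fin r) X) (1 + Matrix.single i j c) = 1 := by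
  rw [nrd_matrix, map_add, map_one]
  have h1 : Matrix.single i j c = Matrix.single i i (1 : X) * Matrix.single i j c := by
    rw [Matrix.single_mul_single_same, one_mul]
  have h2 : Matrix.single i j c * Matrix.single i i (1 : X) = 0 := by
    rw [Matrix.single_mul_single_of_ne]; exact h.symm
  rw [h1, map_mul, Matrix.det_one_add_mul_comm, ← map_mul, h2, map_zero, add_zero, Matrix.det_one]

theorem nrd_matrix_diagonal (d : Fin r → X) :
    nrd k (Matrix (Fin r) (Fin r) X) (Matrix.diagonal d) = ∏ i, nrd k X (d i) := by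
  rw [nrd_matrix]
  have h : theta k X r (Matrix.diagonal d) =
      Matrix.comp _ _ _ _ _ ((Matrix.diagonal d).map (psi0 k X)) := rfl
  rw [h, Matrix.diagonal_map (map_zero _), Matrix.comp_diagonal, Matrix.det_reindex_self,
    Matrix.det_blockDiagonal]
  rfl

end matrixnrd

section division

variable (k : Type u) [Field k] (D : Type v) [DivisionRing D] [Algebra k D]
  [Algebra.IsCentral k D] [FiniteDimensional k D] (r : ℕ) [NeZero r]

theorem nrd_matrix_unit (g : Matrix (Fin r) (Fin r) D) (hg : IsUnit g) :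
    ∃ x : D, x ≠ 0 ∧ nrd k (Matrix (Fin r) (Fin r) D) g = nrd k D x := by
  refine Groth.Agent.Lib.Helper22.GaussDiv.ge_induction
    (fun g => ∃ x : D, x ≠ 0 ∧ nrd k (Matrix (Fin r) (Fin r) D) g = nrd k D x) ?_ ?_ ?_ g hg
  · intro i j c h
    exact ⟨1, one_ne_zero, by
      rw [Groth.Agent.Lib.Helper22.GaussDiv.tv, nrd_matrix_tv k D r i j c h, nrd_one]⟩
  · intro d hd
    show ∃ x : D, x ≠ 0 ∧ nrd k (Matrix (Fin r) (Fin r) D) (Matrix.diagonal d) = nrd k D x
    rw [nrd_matrix_diagonal]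
    apply Finset.prod_induction _ (fun ω => ∃ x : D, x ≠ 0 ∧ ω = nrd k D x)
    · rintro _ _ ⟨x, hx, rfl⟩ ⟨y, hy, rfl⟩
      exact ⟨x * y, mul_ne_zero hx hy, (nrd_mul k D x y).symm⟩
    · exact ⟨1, one_ne_zero, (nrd_one k D).symm⟩
    · intro i _
      exact ⟨d i, hd i, rfl⟩
  · rintro a b ⟨x, hx, h1⟩ ⟨y, hy, h2⟩
    exact ⟨x * y, mul_ne_zero hx hy, by rw [nrd_mul, h1, h2, nrd_mul]⟩

theorem exists_unit_nrd_matrix (x : D) (hx : x ≠ 0) :
    ∃ g : Matrix (Fin r) (Fin r) D, IsUnit g ∧ nrd k (Matrix (Fin r) (Fin r) D) g = nrd k D x := by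
  classical
  let d : Fin r → D := Function.update (fun _ => (1 : D)) 0 x
  have hd : ∀ i, d i ≠ 0 := by
    intro i
    by_cases hi : i = 0
    · subst hi; simpa [d] using hx
    · simp [d, Function.update_of_ne hi]
  refine ⟨Matrix.diagonal d, ?_, ?_⟩
  · refine ⟨⟨Matrix.diagonal d, Matrix.diagonal (fun i => (d i)⁻¹), ?_, ?_⟩, rfl⟩
    · rw [Matrix.diagonal_mul_diagonal]
      simp [mul_inv_cancel₀ (hd _), ← Matrix.diagonal_one]
    · rw [Matrix.diagonal_mul_diagonal]
      simp [inv_mul_cancel₀ (hd _), ← Matrix.diagonal_one]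
  · rw [nrd_matrix_diagonal, Fintype.prod_eq_single 0]
    · simp [d]
    · intro i hi
      simp [d, Function.update_of_ne hi, nrd_one]

theorem normSet_matrix : normSet k (Matrix (Fin r) (Fin r) D) = normSet k D := by
  ext ω
  constructor
  · rintro ⟨g, hg, rfl⟩
    obtain ⟨x, hx, h⟩ := nrd_matrix_unit k D r g hg
    exact ⟨x, isUnit_iff_ne_zero.mpr hx, h.symm⟩
  · rintro ⟨x, hx, rfl⟩
    obtain ⟨g, hg, h⟩ := exists_unit_nrd_matrix k D r x (isUnit_iff_ne_zero.mp hx)
    exact ⟨g, hg, h⟩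

end division

section brauer

variable (k : Type u) [Field k]

/-- Wedderburn: the norm set is that of the underlying division algebra. -/
theorem exists_division_normSet (A : Type v) [Ring A] [Algebra k A] [Algebra.IsCentral k A]
    [IsSimpleRing A] [FiniteDimensional k A] :
    ∃ (r : ℕ) (_ : NeZero r) (D : Type v) (_ : DivisionRing D) (_ : Algebra k D)
      (_ : Algebra.IsCentral k D) (_ : FiniteDimensional k D),
      Nonempty (A ≃ₐ[k] Matrix (Fin r) (Fin r) D) ∧ normSet k A = normSet k D := by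
  haveI : IsArtinianRing A := IsArtinianRing.of_finite k A
  obtain ⟨r, hr, D, hD, hDa, hDf, ⟨e⟩⟩ :=
    IsSimpleRing.exists_algEquiv_matrix_divisionRing_finite k A
  haveI : Algebra.IsCentral k (Matrix (Fin r) (Fin r) D) := isCentral_of_algEquiv' k e
  haveI : Algebra.IsCentral k D := isCentral_of_matrix k D r
  refine ⟨r, hr, D, hD, hDa, inferInstance, hDf, ⟨e⟩, ?_⟩
  rw [normSet_algEquiv k A e, normSet_matrix]

theorem normSet_eq_of_brauer (A : Type v) [Ring A] [Algebra k A] [Algebra.IsCentral k A]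
    [IsSimpleRing A] [FiniteDimensional k A] (B : Type w) [Ring B] [Algebra k B]
    [Algebra.IsCentral k B] [IsSimpleRing B] [FiniteDimensional k B] (n m : ℕ) (hn : n ≠ 0)
    (hm : m ≠ 0) (e : Matrix (Fin n) (Fin n) A ≃ₐ[k] Matrix (Fin m) (Fin m) B) :
    normSet k A = normSet k B := by
  obtain ⟨r, hr, D, _, _, _, _, ⟨eA⟩, hA⟩ := exists_division_normSet k A
  obtain ⟨s, hs, D', _, _, _, _, ⟨eB⟩, hB⟩ := exists_division_normSet k B
  have e1 : Matrix (Fin (n * r)) (Fin (n * r)) D ≃ₐ[k] Matrix (Fin n) (Fin n) A :=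
    ((Matrix.reindexAlgEquiv k D finProdFinEquiv).symm.trans
      (Matrix.compAlgEquiv (Fin n) (Fin r) D k).symm).trans eA.mapMatrix.symm
  have e2 : Matrix (Fin m) (Fin m) B ≃ₐ[k] Matrix (Fin (m * s)) (Fin (m * s)) D' :=
    eB.mapMatrix.trans ((Matrix.compAlgEquiv (Fin m) (Fin s) D' k).trans
      (Matrix.reindexAlgEquiv k D' finProdFinEquiv))
  obtain ⟨eD⟩ := Groth.Agent.Lib.Helper52.CSAWedderburn.nonempty_algEquiv_of_matrix_algEquiv k D D'
    (n * r) (m * s) (Nat.mul_ne_zero hn hr.out) (Nat.mul_ne_zero hm hs.out)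
    (e1.trans (e.trans e2))
  rw [hA, hB, normSet_algEquiv k D eD]

end brauer

end Groth.Agent.Lib.Helper22.RedNorm
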