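import Mathlib
import Groth.Prelude.Def_SchFin2
import Groth.Agent.Lib.Helper89.SchFinBC

set_option autoImplicit false

open TensorProduct

namespace Groth.Agent.Lib.Helper22.SchFinAff

open _root_.SchFin
open Groth.Agent.Lib.Helper89.SchFinBC

universe u

/-- transfer of `IsBCAlong` along a semilinear isomorphism of the source data -/
theorem isBCAlong_transfer {S S' T : Type u} [CommRing S] [CommRing S'] [CommRing T]
    (e : S ≃+* S') (h' : S' →+* T) (h : S →+* T) (hh : ∀ s, h s = h' (e s))
    {P P' Q : Type u} [AddCommGroup P] [AddCommGroup P'] [AddCommGroup Q]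
    [Module S P] [Module S' P'] [Module T Q]
    (ε : P ≃+ P') (hε : ∀ (s : S) (p : P), ε (s • p) = e s • ε p)
    (k' : P' →ₛₗ[h'] Q) (k : P →ₛₗ[h] Q) (hk : ∀ p, k p = k' (ε p))
    (H : IsBCAlong h' k') : IsBCAlong h k := by
  let algS : Algebra S T := h.toAlgebra
  let algS' : Algebra S' T := h'.toAlgebra
  let modQ : Module S Q := Module.compHom Q h
  let modQ' : Module S' Q := Module.compHom Q h'
  have tower : IsScalarTower S T Q := IsScalarTower.of_algebraMap_smul fun _ _ => rfl
  have tower' : IsScalarTower S' T Q := IsScalarTower.of_algebraMap_smul fun _ _ => rfl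
  let kL : P →ₗ[S] Q := { toFun := k, map_add' := k.map_add, map_smul' := k.map_smulₛₗ }
  let kL' : P' →ₗ[S'] Q := { toFun := k', map_add' := k'.map_add, map_smul' := k'.map_smulₛₗ }
  have H' : IsBaseChange T kL' := H
  have hε' : ∀ (s : S') (p : P'), ε.symm (s • p) = e.symm s • ε.symm p := by
    intro s p
    apply ε.injective
    rw [hε]; simp
  have halg : ∀ (s : S) (t : T), s • t = e s • t := by
    intro s t
    change h s * t = h' (e s) * t
    rw [hh]
  let Ψ : T ⊗[S] P →+ T ⊗[S'] P' :=
    TensorProduct.liftAddHom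
      { toFun := fun t => { toFun := fun p => t ⊗ₜ[S'] ε p
                            map_zero' := by rw [map_zero, tmul_zero]
                            map_add' := fun p p' => by rw [map_add, tmul_add] }
        map_zero' := by ext p; exact zero_tmul _ _
        map_add' := fun t t' => by ext p; exact add_tmul _ _ _ }
      (fun s t p => by
        change (s • t) ⊗ₜ[S'] ε p = t ⊗ₜ[S'] ε (s • p)
        rw [hε, halg, smul_tmul])
  let Ψ' : T ⊗[S'] P' →+ T ⊗[S] P :=
    TensorProduct.liftAddHom
      { toFun := fun t => { toFun := fun p => t ⊗ₜ[S] ε.symm p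
                            map_zero' := by rw [map_zero, tmul_zero]
                            map_add' := fun p p' => by rw [map_add, tmul_add] }
        map_zero' := by ext p; exact zero_tmul _ _
        map_add' := fun t t' => by ext p; exact add_tmul _ _ _ }
      (fun s t p => by
        change (s • t) ⊗ₜ[S] ε.symm p = t ⊗ₜ[S] ε.symm (s • p)
        rw [hε', ← smul_tmul, halg]; simp)
  have hΨ : ∀ t p, Ψ (t ⊗ₜ p) = t ⊗ₜ ε p := fun t p => rfl
  have hΨ' : ∀ t p, Ψ' (t ⊗ₜ p) = t ⊗ₜ ε.symm p := fun t p => rfl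
  have h1 : ∀ x, Ψ' (Ψ x) = x := by
    intro x
    induction x using TensorProduct.induction_on with
    | zero => rw [map_zero, map_zero]
    | tmul t p => rw [hΨ, hΨ']; simp
    | add x y hx hy => rw [map_add, map_add, hx, hy]
  have h2 : ∀ x, Ψ (Ψ' x) = x := by
    intro x
    induction x using TensorProduct.induction_on with
    | zero => rw [map_zero, map_zero]
    | tmul t p => rw [hΨ', hΨ]; simp
    | add x y hx hy => rw [map_add, map_add, hx, hy]
  have hb : Function.Bijective Ψ :=
    ⟨fun a b hab => by rw [← h1 a, hab, h1], fun y => ⟨Ψ' y, h2 y⟩⟩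
  have hfin : IsBaseChange T kL := by
    refine isBaseChange_of_bijective kL (H'.equiv.toLinearMap.toAddMonoidHom.comp Ψ) ?_
      (H'.equiv.bijective.comp hb)
    intro t p
    change H'.equiv (Ψ (t ⊗ₜ p)) = t • k p
    rw [hΨ, IsBaseChange.equiv_tmul, hk]
    rfl
  exact hfin

section Sect

variable (X : RSpace.{u}) (U : Set X.pt)

/-- sections over `U` versus global sections of the restricted space -/
def sectRingEquiv : X.sectRing U ≃+* (X.restrict U).sectRing Set.univ where
  toFun s := ⟨fun q => s.1 q.1, fun q q' h => s.2 q.1 q'.1 h⟩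
  invFun s := ⟨fun q => s.1 ⟨q, trivial⟩, fun q q' h => s.2 ⟨q, trivial⟩ ⟨q', trivial⟩ h⟩
  left_inv s := rfl
  right_inv s := rfl
  map_mul' a b := rfl
  map_add' a b := rfl

variable {X} (M : OMod X)

/-- module sections over `U` versus global sections of the restricted module -/
def sectEquiv : M.sect U ≃+ (M.restrict U).sect Set.univ where
  toFun s := ⟨fun q => s.1 q.1, fun q q' h => s.2 q.1 q'.1 h⟩
  invFun s := ⟨fun q => s.1 ⟨q, trivial⟩, fun q q' h => s.2 ⟨q, trivial⟩ ⟨q', trivial⟩ h⟩
  left_inv s := rfl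
  right_inv s := rfl
  map_add' a b := rfl

lemma restrict_isQcoh (hM : M.IsQcoh) : (M.restrict U).IsQcoh :=
  fun p q h => hM p.1 q.1 h

/-- the counit over an affine subset: the module at a point of `U` is the base change of the
sections over `U` -/
theorem counit_of_isAffine (hUa : (X.restrict U).IsAffine) (hM : M.IsQcoh) (q : U) :
    IsBCAlong (X.evalRing U q) (M.evalMod U q) := by
  have H := hUa.2.2.1 (M.restrict U) (restrict_isQcoh U M hM) q
  exact isBCAlong_transfer (sectRingEquiv X U) _ _ (fun s => rfl) (sectEquiv U M)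
    (fun s p => rfl) _ _ (fun p => rfl) H

end Sect

section Pi

variable {R : Type*} [CommRing R] {B : Type*} [AddCommGroup B] [Module R B]
  {J : Type*} [Finite J] (T : J → Type*) [∀ j, CommRing (T j)] [∀ j, Algebra R (T j)]
  (Q : J → Type*) [∀ j, AddCommGroup (Q j)] [∀ j, Module R (Q j)] [∀ j, Module (T j) (Q j)]
  [∀ j, IsScalarTower R (T j) (Q j)]

/-- a finite family of base changes of one module assembles to a base change to the product -/
theorem isBaseChange_pi (k : ∀ j, B →ₗ[R] Q j) (hk : ∀ j, IsBaseChange (T j) (k j)) :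
    IsBaseChange (∀ j, T j) (LinearMap.pi k) := by
  classical
  cases nonempty_fintype J
  let e2 : (∀ j, T j ⊗[R] B) ≃ₗ[R] ∀ j, Q j :=
    LinearEquiv.piCongrRight (fun j => (hk j).equiv.restrictScalars R)
  let E : (∀ j, T j) ⊗[R] B ≃ₗ[R] ∀ j, Q j := (TensorProduct.piLeft R B T).trans e2
  refine isBaseChange_of_bijective (LinearMap.pi k) E.toLinearMap.toAddMonoidHom ?_ E.bijective
  intro t b
  funext j
  change (hk j).equiv ((TensorProduct.piLeft R B T (t ⊗ₜ b)) j) = t j • k j b
  simp

end Pi

section Descent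

variable {R S : Type*} [CommRing R] [CommRing S] [Algebra R S]
  {N P : Type*} [AddCommGroup N] [Module R N] [AddCommGroup P] [Module R P] [Module S P]
  [IsScalarTower R S P]
  {J : Type*} [Finite J] (T : J → Type*) [∀ j, CommRing (T j)] [∀ j, Algebra S (T j)]
  [∀ j, Algebra R (T j)] [∀ j, IsScalarTower R S (T j)]
  (Q : J → Type*) [∀ j, AddCommGroup (Q j)] [∀ j, Module (T j) (Q j)] [∀ j, Module S (Q j)]
  [∀ j, Module R (Q j)]
  [∀ j, IsScalarTower S (T j) (Q j)] [∀ j, IsScalarTower R S (Q j)]
  [∀ j, IsScalarTower R (T j) (Q j)]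

/-- descent of base change along a jointly faithfully flat finite family -/
theorem isBaseChange_of_family (f : N →ₗ[R] P) (k : ∀ j, P →ₗ[S] Q j)
    (hk : ∀ j, IsBaseChange (T j) (k j))
    (hkf : ∀ j, IsBaseChange (T j) ((k j).restrictScalars R ∘ₗ f))
    [Module.FaithfullyFlat S (∀ j, T j)] : IsBaseChange S f := by
  let i : N →ₗ[R] S ⊗[R] N := TensorProduct.mk R S N 1
  have hi : IsBaseChange S i := TensorProduct.isBaseChange R N S
  let φ : S ⊗[R] N →ₗ[S] P := LinearMap.liftBaseChange S f
  have hφ : ∀ s n, φ (s ⊗ₜ n) = s • f n := fun s n => LinearMap.liftBaseChange_tmul _ _ _ _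
  have hj : ∀ j, IsBaseChange (T j) (k j ∘ₗ φ) := by
    intro j
    refine IsBaseChange.of_comp hi ?_
    have e : ((k j ∘ₗ φ : S ⊗[R] N →ₗ[S] Q j) : S ⊗[R] N →ₗ[R] Q j) ∘ₗ i
        = (k j).restrictScalars R ∘ₗ f := by
      ext n
      change k j (φ ((1 : S) ⊗ₜ n)) = k j (f n)
      rw [hφ, one_smul]
    rw [e]
    exact hkf j
  have hK : IsBaseChange (∀ j, T j) (LinearMap.pi k) := isBaseChange_pi T Q k hk
  have hK' : IsBaseChange (∀ j, T j) (LinearMap.pi fun j => k j ∘ₗ φ) :=
    isBaseChange_pi T Q _ hj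
  have hcomp : ∀ x, hK.equiv (LinearMap.lTensor (∀ j, T j) φ x) = hK'.equiv x := by
    intro x
    induction x using TensorProduct.induction_on with
    | zero => rw [map_zero, map_zero, map_zero]
    | tmul t w =>
      rw [LinearMap.lTensor_tmul, IsBaseChange.equiv_tmul, IsBaseChange.equiv_tmul]
      rfl
    | add x y hx hy => rw [map_add, map_add, map_add, hx, hy]
  have hb : Function.Bijective (LinearMap.lTensor (∀ j, T j) φ) := by
    have : ⇑(LinearMap.lTensor (∀ j, T j) φ) = ⇑hK.equiv.symm ∘ ⇑hK'.equiv := by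
      funext x
      rw [Function.comp_apply, ← hcomp, LinearEquiv.symm_apply_apply]
    rw [this]
    exact hK.equiv.symm.bijective.comp hK'.equiv.bijective
  have hφb : Function.Bijective φ :=
    (Module.FaithfullyFlat.lTensor_bijective_iff_bijective S (∀ j, T j) φ).mp hb
  exact isBaseChange_of_bijective f φ.toAddMonoidHom hφ hφb

end Descent

end Groth.Agent.Lib.Helper22.SchFinAff
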