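import Mathlib
import Groth.Prelude.Def_SchFin2
import Groth.Agent.Lib.Helper22.SchFinAff

set_option autoImplicit false

open TensorProduct

namespace Groth.Agent.Lib.Helper22.SchFinAlg

open _root_.SchFin
open Groth.Agent.Lib.Helper89.SchFinBC Groth.Agent.Lib.Helper22.SchFinAff

universe u

section Proj

variable {J : Type*} [Finite J] (T : J → Type*) [∀ j, CommRing (T j)] (j : J)

lemma isLocalization_away_proj [DecidableEq J] :
    letI : Algebra (∀ j, T j) (T j) := (Pi.evalRingHom T j).toAlgebra
    IsLocalization.Away (Pi.single j 1 : ∀ j, T j) (T j) := by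
  letI : Algebra (∀ j, T j) (T j) := (Pi.evalRingHom T j).toAlgebra
  have he : IsIdempotentElem (Pi.single j 1 : ∀ j, T j) := by
    change Pi.single j 1 * Pi.single j 1 = (Pi.single j 1 : ∀ j, T j)
    rw [← Pi.single_mul, mul_one]
  refine IsLocalization.away_of_isIdempotentElem_of_mul he ?_ ?_
  · intro x y
    change x j = y j ↔ _
    constructor
    · intro h
      funext i
      by_cases hi : i = j
      · subst hi; simp [h]
      · simp [Pi.single_eq_of_ne hi]
    · intro h
      have := congrFun h j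
      simpa using this
  · intro t
    exact ⟨Pi.single j t, by change (Pi.single j t : ∀ j, T j) j = t; simp⟩

lemma flat_proj :
    letI : Algebra (∀ j, T j) (T j) := (Pi.evalRingHom T j).toAlgebra
    Module.Flat (∀ j, T j) (T j) := by
  classical
  letI : Algebra (∀ j, T j) (T j) := (Pi.evalRingHom T j).toAlgebra
  haveI := isLocalization_away_proj T j
  exact IsLocalization.flat (T j) (Submonoid.powers (Pi.single j 1 : ∀ j, T j))

lemma finite_proj :
    letI : Algebra (∀ j, T j) (T j) := (Pi.evalRingHom T j).toAlgebra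
    Module.Finite (∀ j, T j) (T j) := by
  classical
  letI : Algebra (∀ j, T j) (T j) := (Pi.evalRingHom T j).toAlgebra
  refine Module.Finite.of_surjective (Algebra.linearMap (∀ j, T j) (T j)) ?_
  intro t
  exact ⟨Pi.single j t, by change (Pi.single j t : ∀ j, T j) j = t; simp⟩

lemma etale_proj :
    letI : Algebra (∀ j, T j) (T j) := (Pi.evalRingHom T j).toAlgebra
    Algebra.Etale (∀ j, T j) (T j) := by
  classical
  letI : Algebra (∀ j, T j) (T j) := (Pi.evalRingHom T j).toAlgebra
  haveI := isLocalization_away_proj T j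
  exact Algebra.Etale.of_isLocalizationAway (Pi.single j 1 : ∀ j, T j)

end Proj

lemma flat_pi {R : Type*} [CommRing R] {J : Type*} [Finite J] (M : J → Type*)
    [∀ j, AddCommGroup (M j)] [∀ j, Module R (M j)] [∀ j, Module.Flat R (M j)] :
    Module.Flat R (∀ j, M j) := by
  classical
  cases nonempty_fintype J
  exact Module.Flat.of_linearEquiv (DFinsupp.linearEquivFunOnFintype (R := R) (M := M)).symm

section PiGen

variable {R : Type*} [CommRing R] {B : Type*} [AddCommGroup B] [Module R B]
  {J : Type*} [Finite J] (T : J → Type*) [∀ j, CommRing (T j)] [∀ j, Algebra R (T j)]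
  (Q : J → Type*) [∀ j, AddCommGroup (Q j)] [∀ j, Module R (Q j)] [∀ j, Module (T j) (Q j)]
  [∀ j, IsScalarTower R (T j) (Q j)]

/-- variant of `isBaseChange_pi` for a module over the product ring identified with the product
of the modules, on which the product ring acts componentwise -/
theorem isBaseChange_pi' {N : Type*} [AddCommGroup N] [Module R N] (modN : Module (∀ j, T j) N)
    (tower : IsScalarTower R (∀ j, T j) N) (π : N ≃ₗ[R] ∀ j, Q j)
    (hsm : ∀ (t : ∀ j, T j) (x : N) (j : J), π (t • x) j = t j • π x j)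
    (k : ∀ j, B →ₗ[R] Q j) (hk : ∀ j, IsBaseChange (T j) (k j))
    (k' : B →ₗ[R] N) (hk' : ∀ b j, π (k' b) j = k j b) :
    IsBaseChange (∀ j, T j) k' := by
  classical
  cases nonempty_fintype J
  let e2 : (∀ j, T j ⊗[R] B) ≃ₗ[R] ∀ j, Q j :=
    LinearEquiv.piCongrRight (fun j => (hk j).equiv.restrictScalars R)
  let E : (∀ j, T j) ⊗[R] B ≃ₗ[R] N := ((TensorProduct.piLeft R B T).trans e2).trans π.symm
  refine isBaseChange_of_bijective k' E.toLinearMap.toAddMonoidHom ?_ E.bijective
  intro t b
  apply π.injective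
  funext j
  rw [hsm, hk']
  change π (π.symm (e2 (TensorProduct.piLeft R B T (t ⊗ₜ b)))) j = t j • k j b
  rw [LinearEquiv.apply_symm_apply]
  change (hk j).equiv ((TensorProduct.piLeft R B T (t ⊗ₜ b)) j) = t j • k j b
  simp

end PiGen

section Abstract

/-- the product of a family of rings, as a type on which the componentwise action of a product of
rings is not visible -/
def PiC {J : Type u} (C : J → Type u) : Type u := ∀ j, C j

instance {J : Type u} (C : J → Type u) [∀ j, CommRing (C j)] : CommRing (PiC C) :=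
  inferInstanceAs (CommRing (∀ j, C j))

instance {J : Type u} (C : J → Type u) [∀ j, CommRing (C j)] (S : Type*) [CommRing S]
    [∀ j, Algebra S (C j)] : Algebra S (PiC C) :=
  inferInstanceAs (Algebra S (∀ j, C j))

lemma PiC.algebraMap_apply {J : Type u} (C : J → Type u) [∀ j, CommRing (C j)] (S : Type*)
    [CommRing S] [∀ j, Algebra S (C j)] (s : S) (j : J) :
    (algebraMap S (PiC C) s : ∀ j, C j) j = algebraMap S (C j) s := rfl

lemma PiC.smul_apply {J : Type u} (C : J → Type u) [∀ j, CommRing (C j)] (S : Type*)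
    [CommRing S] [∀ j, Algebra S (C j)] (s : S) (x : PiC C) (j : J) :
    ((s • x : PiC C) : ∀ j, C j) j = s • (x : ∀ j, C j) j := rfl

instance {J : Type u} (C : J → Type u) [∀ j, CommRing (C j)] (S S' : Type*) [CommRing S]
    [CommRing S'] [Algebra S S'] [∀ j, Algebra S (C j)] [∀ j, Algebra S' (C j)]
    [∀ j, IsScalarTower S S' (C j)] : IsScalarTower S S' (PiC C) :=
  IsScalarTower.of_algebraMap_eq fun s => funext fun j =>
    IsScalarTower.algebraMap_apply S S' (C j) s

variable {R : Type u} [CommRing R] {B : Type u} [CommRing B] [Algebra R B]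
  {J : Type u} [Finite J] (T : J → Type u) [∀ j, CommRing (T j)] [∀ j, Algebra R (T j)]
  (C : J → Type u) [∀ j, CommRing (C j)] [∀ j, Algebra R (C j)] [∀ j, Algebra (T j) (C j)]
  [∀ j, Algebra B (C j)]
  [∀ j, IsScalarTower R (T j) (C j)] [∀ j, IsScalarTower R B (C j)]

/-- the algebra structure of a factor of the target over the product of the sources -/
@[reducible] def projAlg (j : J) : Algebra (∀ j, T j) (C j) :=
  ((algebraMap (T j) (C j)).comp (Pi.evalRingHom T j)).toAlgebra

theorem exists_algEquiv_pi (hpo : ∀ j, Algebra.IsPushout R (T j) B (C j)) :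
    letI : ∀ j, Algebra (∀ j, T j) (C j) := fun j => projAlg T C j
    Nonempty ((∀ j, T j) ⊗[R] B ≃ₐ[∀ j, T j] PiC C) := by
  letI : ∀ j, Algebra (∀ j, T j) (C j) := fun j => projAlg T C j
  haveI tower : IsScalarTower R (∀ j, T j) (PiC C) :=
    IsScalarTower.of_algebraMap_eq fun r => funext fun j =>
      IsScalarTower.algebraMap_apply R (T j) (C j) r
  let π : PiC C ≃ₗ[R] ∀ j, C j := LinearEquiv.refl R (∀ j, C j)
  have hsm : ∀ (t : ∀ j, T j) (x : PiC C) (j : J), π (t • x) j = t j • π x j := by
    intro t x j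
    change algebraMap (T j) (C j) (t j) • (x : ∀ j, C j) j = t j • (x : ∀ j, C j) j
    rw [algebraMap_smul]
  have hbc : IsBaseChange (∀ j, T j) (IsScalarTower.toAlgHom R B (PiC C)).toLinearMap :=
    isBaseChange_pi' T C inferInstance tower π hsm
      (fun j => (IsScalarTower.toAlgHom R B (C j)).toLinearMap) (fun j => (hpo j).out) _
      (fun b j => rfl)
  haveI : Algebra.IsPushout R (∀ j, T j) B (PiC C) := ⟨hbc⟩
  exact ⟨Algebra.IsPushout.equiv R (∀ j, T j) B (PiC C)⟩

end Abstract

lemma PiC.finite {J : Type u} [Finite J] (C : J → Type u) [∀ j, CommRing (C j)] (S : Type*)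
    [CommRing S] [∀ j, Algebra S (C j)] [∀ j, Module.Finite S (C j)] :
    Module.Finite S (PiC C) :=
  (Module.Finite.pi : Module.Finite S (∀ j, C j))

lemma PiC.flat {J : Type u} [Finite J] (C : J → Type u) [∀ j, CommRing (C j)] (S : Type*)
    [CommRing S] [∀ j, Algebra S (C j)] [∀ j, Module.Flat S (C j)] :
    Module.Flat S (PiC C) :=
  (flat_pi C : Module.Flat S (∀ j, C j))

lemma PiC.etale {J : Type u} [Finite J] (C : J → Type u) [∀ j, CommRing (C j)] (S : Type u)
    [CommRing S] [∀ j, Algebra S (C j)] [∀ j, Algebra.Etale S (C j)] :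
    Algebra.Etale S (PiC C) :=
  (inferInstance : Algebra.Etale S (∀ j, C j))

section Props

variable {R : Type u} [CommRing R] {B : Type u} [CommRing B] [Algebra R B]
  {J : Type u} [Finite J] (T : J → Type u) [∀ j, CommRing (T j)] [∀ j, Algebra R (T j)]
  (C : J → Type u) [∀ j, CommRing (C j)] [∀ j, Algebra R (C j)] [∀ j, Algebra (T j) (C j)]
  [∀ j, Algebra B (C j)]
  [∀ j, IsScalarTower R (T j) (C j)] [∀ j, IsScalarTower R B (C j)]

include T C in
theorem flat_of_forall (hpo : ∀ j, Algebra.IsPushout R (T j) B (C j))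
    (hff : Module.FaithfullyFlat R (∀ j, T j))
    (h : ∀ j, Module.Flat (T j) (C j)) : Module.Flat R B := by
  letI : ∀ j, Algebra (∀ j, T j) (C j) := fun j => projAlg T C j
  letI : ∀ j, Algebra (∀ j, T j) (T j) := fun j => (Pi.evalRingHom T j).toAlgebra
  haveI : ∀ j, IsScalarTower (∀ j, T j) (T j) (C j) :=
    fun j => IsScalarTower.of_algebraMap_eq fun _ => rfl
  obtain ⟨e⟩ := exists_algEquiv_pi T C hpo
  haveI : ∀ j, Module.Flat (∀ j, T j) (T j) := fun j => flat_proj T j
  haveI : ∀ j, Module.Flat (∀ j, T j) (C j) :=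
    fun j => Module.Flat.trans (∀ j, T j) (T j) (C j)
  haveI : Module.Flat (∀ j, T j) (PiC C) := PiC.flat C (∀ j, T j)
  haveI : Module.Flat (∀ j, T j) ((∀ j, T j) ⊗[R] B) := Module.Flat.of_linearEquiv e.toLinearEquiv
  exact Module.Flat.of_flat_tensorProduct R B (∀ j, T j)

include T C in
theorem finite_of_forall (hpo : ∀ j, Algebra.IsPushout R (T j) B (C j))
    (hff : Module.FaithfullyFlat R (∀ j, T j))
    (h : ∀ j, Module.Finite (T j) (C j)) : Module.Finite R B := by
  letI : ∀ j, Algebra (∀ j, T j) (C j) := fun j => projAlg T C j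
  letI : ∀ j, Algebra (∀ j, T j) (T j) := fun j => (Pi.evalRingHom T j).toAlgebra
  haveI : ∀ j, IsScalarTower (∀ j, T j) (T j) (C j) :=
    fun j => IsScalarTower.of_algebraMap_eq fun _ => rfl
  obtain ⟨e⟩ := exists_algEquiv_pi T C hpo
  haveI : ∀ j, Module.Finite (∀ j, T j) (T j) := fun j => finite_proj T j
  haveI : ∀ j, Module.Finite (∀ j, T j) (C j) :=
    fun j => Module.Finite.trans (T j) (C j)
  haveI : Module.Finite (∀ j, T j) (PiC C) := PiC.finite C (∀ j, T j)
  haveI : Module.Finite (∀ j, T j) ((∀ j, T j) ⊗[R] B) :=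
    Module.Finite.equiv e.symm.toLinearEquiv
  exact Module.Finite.of_finite_tensorProduct_of_faithfullyFlat (∀ j, T j)

include T C in
theorem etale_of_forall (hpo : ∀ j, Algebra.IsPushout R (T j) B (C j))
    (hff : Module.FaithfullyFlat R (∀ j, T j))
    (h : ∀ j, Algebra.Etale (T j) (C j)) : Algebra.Etale R B := by
  letI : ∀ j, Algebra (∀ j, T j) (C j) := fun j => projAlg T C j
  letI : ∀ j, Algebra (∀ j, T j) (T j) := fun j => (Pi.evalRingHom T j).toAlgebra
  haveI : ∀ j, IsScalarTower (∀ j, T j) (T j) (C j) :=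
    fun j => IsScalarTower.of_algebraMap_eq fun _ => rfl
  obtain ⟨e⟩ := exists_algEquiv_pi T C hpo
  haveI : ∀ j, Algebra.Etale (∀ j, T j) (T j) := fun j => etale_proj T j
  haveI : ∀ j, Algebra.Etale (∀ j, T j) (C j) :=
    fun j => Algebra.Etale.comp (∀ j, T j) (T j) (C j)
  haveI : Algebra.Etale (∀ j, T j) (PiC C) := PiC.etale C (∀ j, T j)
  haveI : Algebra.Etale (∀ j, T j) ((∀ j, T j) ⊗[R] B) := Algebra.Etale.of_equiv e.symm
  exact Algebra.Etale.of_etale_tensorProduct_of_faithfullyFlat (∀ j, T j)

include T C in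
theorem faithfullyFlat_of_forall (hpo : ∀ j, Algebra.IsPushout R (T j) B (C j))
    (hff : Module.FaithfullyFlat R (∀ j, T j))
    (h : ∀ j, Module.FaithfullyFlat (T j) (C j)) : Module.FaithfullyFlat R B := by
  haveI : Module.Flat R B := flat_of_forall T C hpo hff (fun j => inferInstance)
  refine Module.FaithfullyFlat.of_comap_surjective ?_
  intro p
  obtain ⟨p', hp'⟩ := PrimeSpectrum.comap_surjective_of_faithfullyFlat (A := R) (B := ∀ j, T j) p
  obtain ⟨⟨j, pj⟩, hj⟩ := (PrimeSpectrum.sigmaToPi_bijective T).2 p'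
  rw [PrimeSpectrum.sigmaToPi_apply] at hj
  obtain ⟨P, hP⟩ := PrimeSpectrum.comap_surjective_of_faithfullyFlat (A := T j) (B := C j) pj
  refine ⟨PrimeSpectrum.comap (algebraMap B (C j)) P, ?_⟩
  rw [← PrimeSpectrum.comap_comp_apply, ← hp', ← hj, ← hP, ← PrimeSpectrum.comap_comp_apply,
    ← PrimeSpectrum.comap_comp_apply]
  congr 1
  ext r
  change algebraMap B (C j) (algebraMap R B r) = algebraMap (T j) (C j) (algebraMap R (T j) r)
  rw [← IsScalarTower.algebraMap_apply, ← IsScalarTower.algebraMap_apply]

theorem flat_of_flat (hpo : ∀ j, Algebra.IsPushout R (T j) B (C j)) [Module.Flat R B] (j : J) :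
    Module.Flat (T j) (C j) := by
  haveI := hpo j
  exact Module.Flat.of_linearEquiv (Algebra.IsPushout.equiv R (T j) B (C j)).symm.toLinearEquiv

theorem finite_of_finite (hpo : ∀ j, Algebra.IsPushout R (T j) B (C j)) [Module.Finite R B]
    (j : J) : Module.Finite (T j) (C j) := by
  haveI := hpo j
  exact Module.Finite.equiv (Algebra.IsPushout.equiv R (T j) B (C j)).toLinearEquiv

theorem etale_of_etale (hpo : ∀ j, Algebra.IsPushout R (T j) B (C j)) [Algebra.Etale R B]
    (j : J) : Algebra.Etale (T j) (C j) := by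
  haveI := hpo j
  exact Algebra.Etale.of_equiv (Algebra.IsPushout.equiv R (T j) B (C j))

theorem faithfullyFlat_of_faithfullyFlat (hpo : ∀ j, Algebra.IsPushout R (T j) B (C j))
    [Module.FaithfullyFlat R B] (j : J) : Module.FaithfullyFlat (T j) (C j) := by
  haveI := hpo j
  exact Module.FaithfullyFlat.of_linearEquiv (T j) (T j ⊗[R] B)
    (Algebra.IsPushout.equiv R (T j) B (C j)).symm.toLinearEquiv

end Props

section Space

variable {X : RSpace.{u}} (A : Alg X) (U : Set X.pt)

/-- sections of the algebra over `U` as an algebra over the sections of the rings -/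
@[reducible] def algRB : Algebra (X.sectRing U) (A.total.sectRing U) := (A.sectMap U).toAlgebra
/-- the ring of a point of `U` as an algebra over the sections of the rings -/
@[reducible] def algRT (q : U) : Algebra (X.sectRing U) (X.ring q.1) :=
  (X.evalRing U q).toAlgebra
/-- the algebra at a point of `U` as an algebra over the sections of the algebra -/
@[reducible] def algBC (q : U) : Algebra (A.total.sectRing U) (A.carrier q.1) :=
  (A.total.evalRing U q).toAlgebra
/-- the algebra at a point of `U` as an algebra over the sections of the rings -/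
@[reducible] def algRC (q : U) : Algebra (X.sectRing U) (A.carrier q.1) :=
  Algebra.compHom (A.carrier q.1) (X.evalRing U q)

attribute [local instance] algRB algRT algBC algRC

instance towerRTC (q : U) : IsScalarTower (X.sectRing U) (X.ring q.1) (A.carrier q.1) :=
  IsScalarTower.of_algebraMap_eq fun _ => rfl

instance towerRBC (q : U) : IsScalarTower (X.sectRing U) (A.total.sectRing U) (A.carrier q.1) :=
  IsScalarTower.of_algebraMap_eq fun _ => rfl

theorem isPushout_eval (hUa : (X.restrict U).IsAffine) (hA : A.IsQcoh) (q : U) :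
    Algebra.IsPushout (X.sectRing U) (X.ring q.1) (A.total.sectRing U) (A.carrier q.1) := by
  have H : IsBCAlong (X.evalRing U q) (A.toMod.evalMod U q) :=
    counit_of_isAffine U A.toMod hUa hA q
  let kL : A.toMod.sect U →ₗ[X.sectRing U] A.carrier q.1 :=
    { toFun := A.toMod.evalMod U q, map_add' := (A.toMod.evalMod U q).map_add,
      map_smul' := (A.toMod.evalMod U q).map_smulₛₗ }
  have H' : IsBaseChange (X.ring q.1) kL := H
  let eB : A.total.sectRing U ≃ₗ[X.sectRing U] A.toMod.sect U :=
    { toFun := fun b => ⟨b.1, b.2⟩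
      invFun := fun s => ⟨s.1, s.2⟩
      map_add' := fun _ _ => rfl
      map_smul' := fun r b => by
        apply Subtype.ext
        funext p
        exact (@Algebra.smul_def (X.ring p.1) (A.carrier p.1) _ _ _ (r.1 p) (b.1 p)).symm
      left_inv := fun _ => rfl
      right_inv := fun _ => rfl }
  refine ⟨?_⟩
  exact IsBaseChange.comp_equiv eB kL H'

theorem flat_iff (hUa : (X.restrict U).IsAffine) (hA : A.IsQcoh)
    (hφ : Module.FaithfullyFlat (X.sectRing U) ((q : ↥U) → X.ring q.1)) :
    (∀ q : X.pt, q ∈ U → Module.Flat (X.ring q) (A.carrier q)) ↔ (A.sectMap U).Flat := by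
  have hpo := isPushout_eval A U hUa hA
  constructor
  · intro h
    exact flat_of_forall (fun q : U => X.ring q.1) (fun q : U => A.carrier q.1) hpo hφ
      (fun q => h q.1 q.2)
  · intro h q hq
    haveI : Module.Flat (X.sectRing U) (A.total.sectRing U) := h
    exact flat_of_flat (fun q : U => X.ring q.1) (fun q : U => A.carrier q.1) hpo ⟨q, hq⟩

theorem faithfullyFlat_iff (hUa : (X.restrict U).IsAffine) (hA : A.IsQcoh)
    (hφ : Module.FaithfullyFlat (X.sectRing U) ((q : ↥U) → X.ring q.1)) :
    (∀ q : X.pt, q ∈ U → Module.FaithfullyFlat (X.ring q) (A.carrier q)) ↔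
      (A.sectMap U).FaithfullyFlat := by
  have hpo := isPushout_eval A U hUa hA
  constructor
  · intro h
    exact faithfullyFlat_of_forall (fun q : U => X.ring q.1) (fun q : U => A.carrier q.1) hpo hφ
      (fun q => h q.1 q.2)
  · intro h q hq
    haveI : Module.FaithfullyFlat (X.sectRing U) (A.total.sectRing U) := h
    exact faithfullyFlat_of_faithfullyFlat (fun q : U => X.ring q.1) (fun q : U => A.carrier q.1)
      hpo ⟨q, hq⟩

theorem finite_iff (hUa : (X.restrict U).IsAffine) (hA : A.IsQcoh)
    (hφ : Module.FaithfullyFlat (X.sectRing U) ((q : ↥U) → X.ring q.1)) :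
    (∀ q : X.pt, q ∈ U → Module.Finite (X.ring q) (A.carrier q)) ↔ (A.sectMap U).Finite := by
  have hpo := isPushout_eval A U hUa hA
  constructor
  · intro h
    exact finite_of_forall (fun q : U => X.ring q.1) (fun q : U => A.carrier q.1) hpo hφ
      (fun q => h q.1 q.2)
  · intro h q hq
    haveI : Module.Finite (X.sectRing U) (A.total.sectRing U) := h
    exact finite_of_finite (fun q : U => X.ring q.1) (fun q : U => A.carrier q.1) hpo ⟨q, hq⟩

theorem etale_iff (hUa : (X.restrict U).IsAffine) (hA : A.IsQcoh)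
    (hφ : Module.FaithfullyFlat (X.sectRing U) ((q : ↥U) → X.ring q.1)) :
    (∀ q : X.pt, q ∈ U → Algebra.Etale (X.ring q) (A.carrier q)) ↔ (A.sectMap U).Etale := by
  have hpo := isPushout_eval A U hUa hA
  constructor
  · intro h
    exact etale_of_forall (fun q : U => X.ring q.1) (fun q : U => A.carrier q.1) hpo hφ
      (fun q => h q.1 q.2)
  · intro h q hq
    haveI : Algebra.Etale (X.sectRing U) (A.total.sectRing U) := h
    exact etale_of_etale (fun q : U => X.ring q.1) (fun q : U => A.carrier q.1) hpo ⟨q, hq⟩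

end Space

end Groth.Agent.Lib.Helper22.SchFinAlg
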