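import Mathlib

/-!
# Spreading out uniqueness for targets locally of finite type (helper22)

`spread_out_unique_of_locallyOfFiniteType`: two `S`-morphisms `f g : X ⟶ Y` with `Y ⟶ S` locally of
finite type that agree on `Spec 𝒪_{X,x}` agree on an open neighbourhood of `x`
(no germ-injectivity hypothesis on `X`; this is the TODO of Mathlib's
`spread_out_unique_of_isGermInjective`).
-/

namespace Groth.Agent.Lib.Helper22

open AlgebraicGeometry CategoryTheory Opposite TopologicalSpace

universe u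

variable {S X Y : Scheme.{u}}

set_option backward.isDefEq.respectTransparency.types false in
/-- Stacks 0BX6 without germ-injectivity, for targets locally of finite type over a base. -/
lemma spread_out_unique_of_locallyOfFiniteType (sY : Y ⟶ S) [LocallyOfFiniteType sY] {x : X}
    (f g : X ⟶ Y) (hfg : f ≫ sY = g ≫ sY) (e : f x = g x)
    (H : f.stalkMap x =
      Y.presheaf.stalkSpecializes (Inseparable.of_eq e.symm).specializes ≫ g.stalkMap x) :
    ∃ (U : X.Opens), x ∈ U ∧ U.ι ≫ f = U.ι ≫ g := by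
  -- affine opens `W ⊆ S`, `V ⊆ Y`
  obtain ⟨_, ⟨W : S.Opens, hW, rfl⟩, hxW, -⟩ :=
    S.isBasis_affineOpens.exists_subset_of_mem_open (Set.mem_univ (sY (f x))) isOpen_univ
  obtain ⟨_, ⟨V : Y.Opens, hV, rfl⟩, hxV, hVW⟩ :=
    Y.isBasis_affineOpens.exists_subset_of_mem_open (show f x ∈ (sY ⁻¹ᵁ W : Set Y) from hxW)
      (sY ⁻¹ᵁ W).isOpen
  replace hVW : V ≤ sY ⁻¹ᵁ W := hVW
  have hxV' : g x ∈ V := e ▸ hxV
  -- key germ equality
  have hgerm : ∀ (U : X.Opens) (hxU : x ∈ U) (hUV : U ≤ f ⁻¹ᵁ V ⊓ g ⁻¹ᵁ V),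
      f.appLE V U (hUV.trans inf_le_left) ≫ X.presheaf.germ U x hxU =
        g.appLE V U (hUV.trans inf_le_right) ≫ X.presheaf.germ U x hxU := by
    intro U hxU hUV
    simp only [Scheme.Hom.appLE, Category.assoc, X.presheaf.germ_res', ← Scheme.Hom.germ_stalkMap, H]
    simp only [TopCat.Presheaf.germ_stalkSpecializes_assoc, Scheme.Hom.germ_stalkMap]
  -- finite type
  let _ := (sY.appLE W V hVW).hom.toAlgebra
  have hft : Algebra.FiniteType Γ(S, W) Γ(Y, V) := sY.finiteType_appLE hW hV hVW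
  obtain ⟨t, ht⟩ := hft.out
  have key : ∀ t' : Finset Γ(Y, V), ∃ U : X.Opens, x ∈ U ∧ ∃ hU : U ≤ f ⁻¹ᵁ V ⊓ g ⁻¹ᵁ V,
      ∀ b ∈ t', f.appLE V U (hU.trans inf_le_left) b = g.appLE V U (hU.trans inf_le_right) b := by
    intro t'
    classical
    induction t' using Finset.induction_on with
    | empty => exact ⟨f ⁻¹ᵁ V ⊓ g ⁻¹ᵁ V, ⟨hxV, hxV'⟩, le_rfl, by simp⟩
    | insert b t' hb ih =>
      obtain ⟨U, hxU, hU, hUt⟩ := ih
      have hb := congr($(hgerm U hxU hU) b)
      obtain ⟨U', hxU', i₁, i₂, heq⟩ := TopCat.Presheaf.germ_eq X.presheaf x hxU hxU _ _ hb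
      refine ⟨U', hxU', i₁.le.trans hU, ?_⟩
      have hf' : ∀ b', f.appLE V U' ((i₁.le.trans hU).trans inf_le_left) b' =
          X.presheaf.map i₁.op (f.appLE V U (hU.trans inf_le_left) b') := fun b' =>
        (congr($(f.appLE_map (hU.trans inf_le_left) i₁.op) b')).symm
      have hg' : ∀ b', g.appLE V U' ((i₁.le.trans hU).trans inf_le_right) b' =
          X.presheaf.map i₂.op (g.appLE V U (hU.trans inf_le_right) b') := fun b' =>
        (congr($(g.appLE_map (hU.trans inf_le_right) i₂.op) b')).symm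
      intro b' hb'
      rw [hf', hg']
      rcases Finset.mem_insert.mp hb' with rfl | hb'
      · exact heq
      · rw [hUt b' hb', Subsingleton.elim i₁ i₂]
  obtain ⟨U, hxU, hU, hUt⟩ := key t
  refine ⟨U, hxU, ?_⟩
  have happ : f.appLE V U (hU.trans inf_le_left) = g.appLE V U (hU.trans inf_le_right) := by
    have hσ : sY.appLE W V hVW ≫ f.appLE V U (hU.trans inf_le_left) =
        sY.appLE W V hVW ≫ g.appLE V U (hU.trans inf_le_right) := by
      rw [Scheme.Hom.appLE_comp_appLE, Scheme.Hom.appLE_comp_appLE]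
      have : ∀ (k : X ⟶ S) (_ : f ≫ sY = k) (e₁ : U ≤ (f ≫ sY) ⁻¹ᵁ W) (e₂ : U ≤ k ⁻¹ᵁ W),
          (f ≫ sY).appLE W U e₁ = k.appLE W U e₂ := by
        rintro _ rfl _ _; rfl
      exact this _ hfg _ _
    apply CommRingCat.hom_ext
    apply RingHom.ext
    intro b
    have hb : b ∈ Algebra.adjoin Γ(S, W) (t : Set Γ(Y, V)) := ht ▸ Algebra.mem_top
    induction hb using Algebra.adjoin_induction with
    | mem b hb => exact hUt b hb
    | algebraMap a => exact congr($hσ a)
    | add b c _ _ hb hc => rw [map_add, map_add, hb, hc]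
    | mul b c _ _ hb hc => rw [map_mul, map_mul, hb, hc]
  rw [← Scheme.Hom.resLE_comp_ι _ (hU.trans inf_le_left),
    ← Scheme.Hom.resLE_comp_ι _ (hU.trans inf_le_right)]
  congr 1
  have : IsAffine V := hV
  suffices ∀ (U₀ V₀) (eU : U = U₀) (eV : V = V₀),
      f.appLE V₀ U₀ (eU ▸ eV ▸ hU.trans inf_le_left) =
        g.appLE V₀ U₀ (eU ▸ eV ▸ hU.trans inf_le_right) by
    rw [← cancel_mono V.toScheme.isoSpec.hom]
    simp only [Scheme.isoSpec, asIso_hom, Scheme.toSpecΓ_naturality,
      Scheme.Hom.app_eq_appLE, Scheme.Hom.resLE_appLE]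
    congr 2
    apply this <;> simp
  rintro U V rfl rfl
  exact happ

set_option backward.isDefEq.respectTransparency.types false in
/-- A variant whose condition is an equality of scheme morphisms. -/
lemma spread_out_unique_of_locallyOfFiniteType' (sY : Y ⟶ S) [LocallyOfFiniteType sY] {x : X}
    (f g : X ⟶ Y) (hfg : f ≫ sY = g ≫ sY)
    (e : X.fromSpecStalk x ≫ f = X.fromSpecStalk x ≫ g) :
    ∃ (U : X.Opens), x ∈ U ∧ U.ι ≫ f = U.ι ≫ g := by
  fapply spread_out_unique_of_locallyOfFiniteType sY f g hfg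
  · simpa using congr($e (IsLocalRing.closedPoint _))
  · apply Spec.map_injective
    rw [← cancel_mono (Y.fromSpecStalk _)]
    simpa [Scheme.SpecMap_stalkSpecializes_fromSpecStalk]

set_option backward.defeqAttrib.useBackward true in
set_option backward.isDefEq.respectTransparency false in
/-- Two partial `S`-maps to a target locally of finite type over `S` that agree on `Spec 𝒪_{X,x}`
are equivalent; no germ-injectivity needed. -/
lemma equiv_of_fromSpecStalkOfMem_eq_of_locallyOfFiniteType [X.Over S] [Y.Over S]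
    [LocallyOfFiniteType (Y ↘ S)] [IrreducibleSpace X]
    {x : X} (f g : X.PartialMap Y) [f.IsOver S] [g.IsOver S]
    (hxf : x ∈ f.domain) (hxg : x ∈ g.domain)
    (H : f.fromSpecStalkOfMem hxf = g.fromSpecStalkOfMem hxg) : f.equiv g := by
  have hdense : Dense ((f.domain ⊓ g.domain) : Set X) :=
    f.dense_domain.inter_of_isOpen_left g.dense_domain f.domain.2
  have := spread_out_unique_of_locallyOfFiniteType' (X := (f.domain ⊓ g.domain).toScheme)
    (Y ↘ S) (X.homOfLE inf_le_left ≫ f.hom) (X.homOfLE inf_le_right ≫ g.hom)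
    (x := ⟨x, hxf, hxg⟩) ?_ ?_
  · obtain ⟨U, hxU, e⟩ := this
    refine ⟨(f.domain ⊓ g.domain).ι ''ᵁ U, ((f.domain ⊓ g.domain).ι ''ᵁ U).2.dense
      ⟨_, ⟨_, hxU, rfl⟩⟩,
      ((Set.image_subset_range _ _).trans_eq (Subtype.range_val)).trans inf_le_left,
      ((Set.image_subset_range _ _).trans_eq (Subtype.range_val)).trans inf_le_right, ?_⟩
    rw [← cancel_epi (Scheme.Hom.isoImage _ _).hom]
    simp only [Scheme.PartialMap.restrict_hom, ← Category.assoc] at e ⊢
    convert! e using 2 <;> rw [← cancel_mono (Scheme.Opens.ι _)] <;> simp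
  · simp only [CategoryTheory.comp_over]
  · rw [← f.fromSpecStalkOfMem_restrict hdense inf_le_left ⟨hxf, hxg⟩,
      ← g.fromSpecStalkOfMem_restrict hdense inf_le_right ⟨hxf, hxg⟩] at H
    simpa only [Scheme.PartialMap.fromSpecStalkOfMem, Scheme.PartialMap.restrict_domain,
      Scheme.Opens.fromSpecStalkOfMem, Spec.map_inv,
      Scheme.PartialMap.restrict_hom, Category.assoc, IsIso.eq_inv_comp,
      IsIso.hom_inv_id_assoc] using H

end Groth.Agent.Lib.Helper22
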